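import Mathlib

/-!
# Symmetric designs with a two-transitive automorphism group: lines, central collineations

`X` plays the role of the points, `Y` of the hyperplanes.  `K B` is the group of automorphisms fixing
`B` and every hyperplane through `B`.
-/

set_option autoImplicit false
set_option linter.style.haveILetI false
set_option linter.unusedSectionVars false

namespace Cfsg.Lib.ItoDesign

universe u v w

variable (G : Type u) (X : Type v) (Y : Type w) [Group G] [MulAction G X] [MulAction G Y]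

/-- a symmetric design with an automorphism group doubly transitive on points and on blocks, and
transitive on flags and on antiflags -/
structure Design [Fintype X] [Fintype Y] where
  inc : X → Y → Prop
  inc_smul : ∀ (g : G) (x : X) (S : Y), inc (g • x) (g • S) ↔ inc x S
  k : ℕ
  lam : ℕ
  card_eq : Fintype.card Y = Fintype.card X
  kX : ∀ x : X, Nat.card {S : Y // inc x S} = k
  kY : ∀ S : Y, Nat.card {x : X // inc x S} = k
  lamX : ∀ x y : X, x ≠ y → Nat.card {S : Y // inc x S ∧ inc y S} = lam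
  lamY : ∀ S T : Y, S ≠ T → Nat.card {x : X // inc x S ∧ inc x T} = lam
  transX : ∀ a b c d : X, a ≠ b → c ≠ d → ∃ g : G, g • a = c ∧ g • b = d
  transY : ∀ a b c d : Y, a ≠ b → c ≠ d → ∃ g : G, g • a = c ∧ g • b = d
  transXY : ∀ (x x' : X) (S S' : Y), (inc x S ↔ inc x' S') → ∃ g : G, g • x = x' ∧ g • S = S'
  faithX : ∀ g : G, (∀ x : X, g • x = x) → g = 1
  faithY : ∀ g : G, (∀ S : Y, g • S = S) → g = 1
  one_le_lam : 1 ≤ lam
  lam_lt : lam < k
  k_add_two : k + 2 ≤ Fintype.card X
  fix_eq : ∀ g : G, Nat.card {x : X // g • x = x} = Nat.card {S : Y // g • S = S}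

variable {G X Y} [Fintype X] [Fintype Y]

namespace Design

/-- the dual design -/
def dual (D : Design G X Y) : Design G Y X where
  inc S x := D.inc x S
  inc_smul g S x := D.inc_smul g x S
  k := D.k
  lam := D.lam
  card_eq := D.card_eq.symm
  kX := D.kY
  kY := D.kX
  lamX := D.lamY
  lamY := D.lamX
  transX := D.transY
  transY := D.transX
  transXY S S' x x' h := by
    obtain ⟨g, h1, h2⟩ := D.transXY x x' S S' h
    exact ⟨g, h2, h1⟩
  faithX := D.faithY
  faithY := D.faithX
  one_le_lam := D.one_le_lam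
  lam_lt := D.lam_lt
  k_add_two := D.card_eq ▸ D.k_add_two
  fix_eq g := (D.fix_eq g).symm

variable (D : Design G X Y)

/-- number of points -/
def n (_D : Design G X Y) : ℕ := Fintype.card X

open scoped Classical in
/-- the points of a hyperplane -/
noncomputable def pts (S : Y) : Finset X := Finset.univ.filter fun x => D.inc x S

open scoped Classical in
/-- the hyperplanes through a point -/
noncomputable def hys (x : X) : Finset Y := Finset.univ.filter fun S => D.inc x S

open scoped Classical in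
/-- hyperplanes through two points -/
noncomputable def hys2 (x y : X) : Finset Y := Finset.univ.filter fun S => D.inc x S ∧ D.inc y S

@[simp] lemma mem_pts {S : Y} {x : X} : x ∈ D.pts S ↔ D.inc x S := by simp [pts]

@[simp] lemma mem_hys {x : X} {S : Y} : S ∈ D.hys x ↔ D.inc x S := by simp [hys]

@[simp] lemma mem_hys2 {x y : X} {S : Y} : S ∈ D.hys2 x y ↔ D.inc x S ∧ D.inc y S := by
  simp [hys2]

lemma card_pts (S : Y) : (D.pts S).card = D.k := by
  classical
  rw [pts, ← D.kY S, Nat.card_eq_fintype_card, Fintype.card_subtype]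

lemma card_hys (x : X) : (D.hys x).card = D.k := by
  classical
  rw [hys, ← D.kX x, Nat.card_eq_fintype_card, Fintype.card_subtype]

lemma card_hys2 {x y : X} (h : x ≠ y) : (D.hys2 x y).card = D.lam := by
  classical
  rw [hys2, ← D.lamX x y h, Nat.card_eq_fintype_card, Fintype.card_subtype]

lemma card_inter [DecidableEq X] {S T : Y} (h : S ≠ T) : (D.pts S ∩ D.pts T).card = D.lam := by
  classical
  rw [← D.lamY S T h, Nat.card_eq_fintype_card, Fintype.card_subtype]
  congr 1
  ext x; simp

lemma one_le_k : 1 ≤ D.k := D.one_le_lam.trans D.lam_lt.le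

lemma two_le_k : 2 ≤ D.k := by have := D.one_le_lam; have := D.lam_lt; omega

/-- the basic relation `k (k - 1) = lam (n - 1)` -/
lemma basic : D.k * D.k + D.lam = D.k + D.lam * D.n := by
  classical
  obtain ⟨x⟩ : Nonempty X := Fintype.card_pos_iff.1 (by have := D.k_add_two; omega)
  have h1 : ∀ S ∈ D.hys x, ((D.pts S).erase x).card = D.k - 1 := fun S hS => by
    rw [Finset.card_erase_of_mem (by simpa using hS), D.card_pts]
  have h2 : ∑ S ∈ D.hys x, ((D.pts S).erase x).card
      = ∑ y ∈ Finset.univ.erase x, (D.hys2 x y).card := by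
    have e : ∀ S : Y, (D.pts S).erase x = (Finset.univ.erase x).filter fun y => D.inc y S :=
      fun S => by ext y; simp [and_comm]
    simp only [e, Finset.card_filter]
    rw [Finset.sum_comm]
    refine Finset.sum_congr rfl fun y _ => ?_
    rw [← Finset.card_filter]
    congr 1
    ext S; simp
  rw [Finset.sum_congr rfl h1, Finset.sum_congr rfl (fun y hy =>
    D.card_hys2 (Ne.symm (Finset.ne_of_mem_erase hy)))] at h2
  simp only [Finset.sum_const, smul_eq_mul, D.card_hys, Finset.card_erase_of_mem (Finset.mem_univ x),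
    Finset.card_univ] at h2
  have := D.one_le_k
  haveI : Nonempty X := ⟨x⟩
  have hn : 1 ≤ Fintype.card X := Fintype.card_pos
  obtain ⟨k', hk'⟩ : ∃ k', D.k = k' + 1 := ⟨D.k - 1, by omega⟩
  obtain ⟨n', hn'⟩ : ∃ n', Fintype.card X = n' + 1 := ⟨Fintype.card X - 1, by omega⟩
  rw [hk', hn', Nat.add_sub_cancel, Nat.add_sub_cancel] at h2
  rw [n, hk', hn']
  nlinarith

include D in
lemma exists_ne (x : X) : ∃ y : X, y ≠ x :=
  Fintype.exists_ne_of_one_lt_card (by have := D.k_add_two; omega) x

/-! ### lines -/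

open scoped Classical in
/-- the line through two points -/
noncomputable def line (x y : X) : Finset X :=
  Finset.univ.filter fun z => ∀ S, D.inc x S → D.inc y S → D.inc z S

lemma mem_line {x y z : X} : z ∈ D.line x y ↔ ∀ S, D.inc x S → D.inc y S → D.inc z S := by
  simp [line]

lemma left_mem_line (x y : X) : x ∈ D.line x y := D.mem_line.2 fun _ h _ => h

lemma right_mem_line (x y : X) : y ∈ D.line x y := D.mem_line.2 fun _ _ h => h

lemma line_comm (x y : X) : D.line x y = D.line y x := by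
  ext z
  exact ⟨fun h => D.mem_line.2 fun S a b => D.mem_line.1 h S b a,
    fun h => D.mem_line.2 fun S a b => D.mem_line.1 h S b a⟩

lemma line_eq_of_mem {x y z : X} (hxy : x ≠ y) (hz : z ∈ D.line x y) (hzx : z ≠ x) :
    D.line x z = D.line x y := by
  have hs : D.hys2 x y = D.hys2 x z := by
    refine Finset.eq_of_subset_of_card_le (fun S hS => ?_)
      (by rw [D.card_hys2 hxy, D.card_hys2 (Ne.symm hzx)])
    rw [D.mem_hys2] at hS ⊢
    exact ⟨hS.1, D.mem_line.1 hz S hS.1 hS.2⟩
  ext u
  simp only [D.mem_line]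
  constructor
  · intro h S a b
    exact h S a (D.mem_line.1 hz S a b)
  · intro h S a b
    have : S ∈ D.hys2 x y := by rw [hs]; exact D.mem_hys2.2 ⟨a, b⟩
    exact h S a (D.mem_hys2.1 this).2

/-- a line is determined by any two of its points -/
lemma line_eq {x y u w : X} (hxy : x ≠ y) (hu : u ∈ D.line x y) (hw : w ∈ D.line x y)
    (huw : u ≠ w) : D.line u w = D.line x y := by
  by_cases hux : u = x
  · subst hux
    exact D.line_eq_of_mem hxy hw (Ne.symm huw)
  · have h1 := D.line_eq_of_mem hxy hu hux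
    rw [← h1, D.line_comm x u]
    refine D.line_eq_of_mem hux ?_ (Ne.symm huw)
    rw [D.line_comm u x, h1]
    exact hw

lemma line_subset_pts {x y : X} {S : Y} (hx : D.inc x S) (hy : D.inc y S) :
    D.line x y ⊆ D.pts S := fun _ hz => D.mem_pts.2 (D.mem_line.1 hz S hx hy)

lemma smul_mem_line {g : G} {x y z : X} : g • z ∈ D.line (g • x) (g • y) ↔ z ∈ D.line x y := by
  simp only [D.mem_line]
  constructor
  · intro h S a b
    exact (D.inc_smul g z S).1 (h (g • S) ((D.inc_smul g x S).2 a) ((D.inc_smul g y S).2 b))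
  · intro h S a b
    have e : S = g • (g⁻¹ • S) := (smul_inv_smul g S).symm
    rw [e] at a b ⊢
    exact (D.inc_smul g z _).2 (h _ ((D.inc_smul g x _).1 a) ((D.inc_smul g y _).1 b))

lemma card_line_const {x y u w : X} (hxy : x ≠ y) (huw : u ≠ w) :
    (D.line x y).card = (D.line u w).card := by
  classical
  obtain ⟨g, rfl, rfl⟩ := D.transX x y u w hxy huw
  refine Finset.card_bij (fun z _ => g • z) (fun z hz => D.smul_mem_line.2 hz)
    (fun a _ b _ e => MulAction.injective g e) (fun z hz => ⟨g⁻¹ • z, ?_, smul_inv_smul g z⟩)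
  rw [← D.smul_mem_line (g := g), smul_inv_smul]
  exact hz

open scoped Classical in
/-- one less than the number of points on a line -/
noncomputable def m : ℕ :=
  if h : ∃ p : X × X, p.1 ≠ p.2 then (D.line h.choose.1 h.choose.2).card - 1 else 0

lemma card_line {x y : X} (hxy : x ≠ y) : (D.line x y).card = D.m + 1 := by
  classical
  have h : ∃ p : X × X, p.1 ≠ p.2 := ⟨(x, y), hxy⟩
  have hpos : 1 ≤ (D.line x y).card := Finset.card_pos.2 ⟨x, D.left_mem_line x y⟩
  rw [m, dif_pos h, D.card_line_const h.choose_spec hxy]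
  omega

open scoped Classical in
/-- fibres of the joining map -/
lemma m_dvd_closed {A : Finset X} {x : X} (hx : x ∈ A)
    (hA : ∀ y ∈ A, y ≠ x → D.line x y ⊆ A) : D.m ∣ A.card - 1 := by
  rw [← Finset.card_erase_of_mem hx,
    Finset.card_eq_sum_card_image (fun y => D.line x y) (A.erase x)]
  refine Finset.dvd_sum fun l hl => ?_
  obtain ⟨y, hy, rfl⟩ := Finset.mem_image.1 hl
  have hy' := Finset.mem_erase.1 hy
  have e : (A.erase x).filter (fun z => D.line x z = D.line x y) = (D.line x y).erase x := by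
    ext z
    simp only [Finset.mem_filter, Finset.mem_erase]
    constructor
    · rintro ⟨⟨hz, -⟩, e⟩
      exact ⟨hz, e ▸ D.right_mem_line x z⟩
    · rintro ⟨hz, hzl⟩
      exact ⟨⟨hz, hA y hy'.2 hy'.1 hzl⟩, D.line_eq_of_mem (Ne.symm hy'.1) hzl hz⟩
  rw [e, Finset.card_erase_of_mem (D.left_mem_line x y), D.card_line (Ne.symm hy'.1)]
  simp

lemma m_dvd_k_sub : D.m ∣ D.k - 1 := by
  obtain ⟨S⟩ : Nonempty Y := Fintype.card_pos_iff.1 (by
    have := D.k_add_two; have := D.card_eq; omega)
  obtain ⟨x, hx⟩ : (D.pts S).Nonempty := Finset.card_pos.1 (by rw [D.card_pts]; exact D.one_le_k)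
  rw [← D.card_pts S]
  exact D.m_dvd_closed hx fun y hy _ => D.line_subset_pts (D.mem_pts.1 hx) (D.mem_pts.1 hy)

lemma m_dvd_lam_sub : D.m ∣ D.lam - 1 := by
  classical
  obtain ⟨x⟩ : Nonempty X := Fintype.card_pos_iff.1 (by have := D.k_add_two; omega)
  obtain ⟨S, hS, T, hT, hST⟩ := Finset.one_lt_card.1 (show 1 < (D.hys x).card by
    rw [D.card_hys]; exact D.two_le_k)
  rw [D.mem_hys] at hS hT
  rw [← D.card_inter hST]
  refine D.m_dvd_closed (x := x) (by simp [hS, hT]) fun y hy _ z hz => ?_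
  simp only [Finset.mem_inter, D.mem_pts] at hy ⊢
  exact ⟨D.mem_line.1 hz S hS hy.1, D.mem_line.1 hz T hT hy.2⟩

/-- hyperplanes meeting a line -/
lemma card_meet_line [DecidableEq Y] {x y : X} (hxy : x ≠ y) :
    ((D.line x y).biUnion fun z => D.hys z).card = (D.m + 1) * (D.k - D.lam) + D.lam := by
  classical
  have hsub : ∀ z ∈ D.line x y, D.hys2 x y ⊆ D.hys z := fun z hz S hS =>
    D.mem_hys.2 (D.mem_line.1 hz S (D.mem_hys2.1 hS).1 (D.mem_hys2.1 hS).2)
  have e : (D.line x y).biUnion (fun z => D.hys z) =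
      ((D.line x y).biUnion fun z => D.hys z \ D.hys2 x y) ∪ D.hys2 x y := by
    ext S
    simp only [Finset.mem_union, Finset.mem_biUnion, Finset.mem_sdiff]
    constructor
    · rintro ⟨z, hz, hS⟩
      by_cases h : S ∈ D.hys2 x y
      · exact Or.inr h
      · exact Or.inl ⟨z, hz, hS, h⟩
    · rintro (⟨z, hz, hS, -⟩ | h)
      · exact ⟨z, hz, hS⟩
      · exact ⟨x, D.left_mem_line x y, hsub x (D.left_mem_line x y) h⟩
  rw [e, Finset.card_union_of_disjoint, Finset.card_biUnion, D.card_hys2 hxy]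
  · rw [Finset.sum_congr rfl (fun z hz => by
      rw [Finset.card_sdiff_of_subset (hsub z hz), D.card_hys, D.card_hys2 hxy])]
    rw [Finset.sum_const, smul_eq_mul, D.card_line hxy]
  · intro a ha b hb hab
    rw [Function.onFun, Finset.disjoint_left]
    intro S hSa hSb
    simp only [Finset.mem_sdiff, D.mem_hys, D.mem_hys2] at hSa hSb
    apply hSa.2
    have hl := D.line_eq hxy ha hb hab
    have := D.line_subset_pts hSa.1 hSb.1
    rw [hl] at this
    exact ⟨D.mem_pts.1 (this (D.left_mem_line x y)), D.mem_pts.1 (this (D.right_mem_line x y))⟩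
  · rw [Finset.disjoint_left]
    intro S hS h
    simp only [Finset.mem_biUnion, Finset.mem_sdiff] at hS
    obtain ⟨z, -, -, h'⟩ := hS
    exact h' h

/-- `m lam ≤ k - 1` -/
lemma m_lam_le : D.m * D.lam + 1 ≤ D.k := by
  classical
  obtain ⟨x⟩ : Nonempty X := Fintype.card_pos_iff.1 (by have := D.k_add_two; omega)
  obtain ⟨y, hy⟩ := D.exists_ne x
  have h1 := D.card_meet_line (Ne.symm hy)
  have h2 : ((D.line x y).biUnion fun z => D.hys z).card ≤ D.n := by
    rw [n, ← D.card_eq, ← Finset.card_univ]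
    exact Finset.card_le_univ _
  rw [h1] at h2
  have hb := D.basic
  have := D.lam_lt
  obtain ⟨e, he⟩ : ∃ e, D.k = D.lam + e + 1 := ⟨D.k - D.lam - 1, by omega⟩
  rw [show D.k - D.lam = e + 1 by omega] at h2
  have h3 := Nat.mul_le_mul_left D.lam h2
  rw [he] at hb ⊢
  by_contra hc
  push Not at hc
  have := Nat.mul_le_mul_right (e + 1) hc
  nlinarith

/-- every line meets every hyperplane -/
def Full : Prop := D.m * D.lam + 1 = D.k

lemma exists_mem_of_full (hF : D.Full) {x y : X} (hxy : x ≠ y) (S : Y) :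
    ∃ z ∈ D.line x y, D.inc z S := by
  classical
  have h1 := D.card_meet_line hxy
  have hu : (D.line x y).biUnion (fun z => D.hys z) = Finset.univ := by
    refine Finset.eq_univ_of_card _ (le_antisymm (Finset.card_le_univ _) ?_)
    rw [h1, D.card_eq]
    have hb := D.basic
    rw [n] at hb
    rw [Full] at hF
    have := D.lam_lt
    obtain ⟨e, he⟩ : ∃ e, D.k = D.lam + e := ⟨D.k - D.lam, by omega⟩
    rw [show D.k - D.lam = e by omega]
    have hl := D.one_le_lam
    refine Nat.le_of_mul_le_mul_left ?_ (show 0 < D.lam by omega)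
    nlinarith
  have : S ∈ (D.line x y).biUnion fun z => D.hys z := by rw [hu]; exact Finset.mem_univ S
  obtain ⟨z, hz, hS⟩ := Finset.mem_biUnion.1 this
  exact ⟨z, hz, D.mem_hys.1 hS⟩

/-! ### central collineations -/

/-- automorphisms fixing `B` and every hyperplane through `B` -/
def K (B : X) : Subgroup G where
  carrier := {g | g • B = B ∧ ∀ S, D.inc B S → g • S = S}
  one_mem' := ⟨one_smul G B, fun S _ => one_smul G S⟩
  mul_mem' {a b} ha hb := ⟨by rw [mul_smul, hb.1, ha.1],
    fun S hS => by rw [mul_smul, hb.2 S hS, ha.2 S hS]⟩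
  inv_mem' {a} ha := ⟨by rw [inv_smul_eq_iff, ha.1], fun S hS => by
    rw [inv_smul_eq_iff, ha.2 S hS]⟩

lemma mem_K {B : X} {g : G} :
    g ∈ D.K B ↔ g • B = B ∧ ∀ S, D.inc B S → g • S = S := Iff.rfl

lemma conj_mem_K {B : X} {g h : G} (hh : h ∈ D.K B) : g * h * g⁻¹ ∈ D.K (g • B) := by
  refine ⟨?_, fun S hS => ?_⟩
  · rw [mul_smul, mul_smul, inv_smul_smul, hh.1]
  · rw [mul_smul, mul_smul, hh.2 _ ?_, smul_inv_smul]
    rw [← D.inc_smul g, smul_inv_smul]
    exact hS

/-- lines through the centre are preserved -/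
lemma smul_mem_centre_line {B x : X} {g : G} (hg : g ∈ D.K B) : g • x ∈ D.line B x :=
  D.mem_line.2 fun S hB hx => by rw [← hg.2 S hB]; exact (D.inc_smul g x S).2 hx

lemma smul_mem_centre_line' {B x y : X} {g : G} (hg : g ∈ D.K B) (hy : y ∈ D.line B x) :
    g • y ∈ D.line B x := by
  have h := (D.smul_mem_line (g := g)).2 hy
  rw [hg.1] at h
  by_cases hBx : B = x
  · subst hBx
    rwa [hg.1] at h
  rwa [D.line_eq_of_mem hBx (D.smul_mem_centre_line hg) (fun e => hBx (by
    rw [← hg.1] at e
    exact (MulAction.injective g e).symm))] at h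

lemma two_le_m {B : X} {h : G} (hh : h ∈ D.K B) (h1 : h ≠ 1) : 2 ≤ D.m := by
  classical
  obtain ⟨x, hx⟩ : ∃ x, h • x ≠ x := by
    by_contra hc
    push Not at hc
    exact h1 (D.faithX h hc)
  have hxB : x ≠ B := fun e => hx (e ▸ hh.1)
  have hsub : ({B, x, h • x} : Finset X) ⊆ D.line B x := by
    intro z hz
    simp only [Finset.mem_insert, Finset.mem_singleton] at hz
    rcases hz with rfl | rfl | rfl
    · exact D.left_mem_line _ _
    · exact D.right_mem_line _ _
    · exact D.smul_mem_centre_line hh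
  have h2 := Finset.card_le_card hsub
  have hhx : h • x ≠ B := fun e => hxB (MulAction.injective h (e.trans hh.1.symm))
  rw [D.card_line (Ne.symm hxB), Finset.card_insert_of_notMem (by
    simp [Ne.symm hxB, Ne.symm hhx]), Finset.card_pair (Ne.symm hx)] at h2
  omega

lemma eq_of_mem_hyp {B P Q : X} {S : Y} (hBS : ¬ D.inc B S) (hP : D.inc P S) (hQ : D.inc Q S)
    (hl : Q ∈ D.line B P) : Q = P := by
  by_contra hne
  have hBP : B ≠ P := fun e => hBS (e ▸ hP)
  have := D.line_eq hBP (D.right_mem_line B P) hl (Ne.symm hne)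
  exact hBS (D.mem_pts.1 (D.line_subset_pts hP hQ (this ▸ D.left_mem_line B P)))

lemma fixed_hyp {B : X} {h : G} (hh : h ∈ D.K B) {S : Y} (hBS : ¬ D.inc B S) (hS : h • S = S)
    {x : X} (hx : D.inc x S) : h • x = x :=
  D.eq_of_mem_hyp hBS hx (by rw [← hS]; exact (D.inc_smul h x S).2 hx) (D.smul_mem_centre_line hh)

lemma moved_hyp [DecidableEq X] {B : X} {h : G} (hh : h ∈ D.K B) {S : Y} (hBS : ¬ D.inc B S)
    (hS : h • S ≠ S) : (D.pts S).filter (fun x => h • x = x) = D.pts S ∩ D.pts (h • S) := by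
  ext x
  simp only [Finset.mem_filter, Finset.mem_inter, D.mem_pts]
  constructor
  · rintro ⟨hx, e⟩
    exact ⟨hx, e ▸ (D.inc_smul h x S).2 hx⟩
  · rintro ⟨hx, hx'⟩
    refine ⟨hx, ?_⟩
    have hy : D.inc (h⁻¹ • x) S := by rw [← D.inc_smul h, smul_inv_smul]; exact hx'
    have := D.eq_of_mem_hyp hBS hx hy (D.smul_mem_centre_line (inv_mem hh))
    conv_lhs => rw [← this]
    rw [smul_inv_smul]

lemma card_fixed_moved [DecidableEq X] {B : X} {h : G} (hh : h ∈ D.K B) {S : Y}
    (hBS : ¬ D.inc B S) (hS : h • S ≠ S) :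
    ((D.pts S).filter fun x => h • x = x).card = D.lam := by
  rw [D.moved_hyp hh hBS hS, D.card_inter (Ne.symm hS)]

/-- at most one fixed hyperplane avoids the centre -/
lemma fixed_hyp_unique {B : X} {h : G} (hh : h ∈ D.K B) (h1 : h ≠ 1) {S S' : Y}
    (hBS : ¬ D.inc B S) (hS : h • S = S) (hBS' : ¬ D.inc B S') (hS' : h • S' = S') : S = S' := by
  classical
  by_contra hne
  -- every moved hyperplane contains `S ∩ S'`
  have key : ∀ R R' : Y, ¬ D.inc B R → h • R = R → ¬ D.inc B R' → h • R' = R' → R ≠ R' →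
      ∀ M : Y, ¬ D.inc B M → h • M ≠ M → D.pts M ∩ D.pts R = D.pts R ∩ D.pts R' := by
    intro R R' hBR hR hBR' hR' hRR' M hBM hM
    have e : ∀ R : Y, ¬ D.inc B R → h • R = R →
        D.pts M ∩ D.pts R = (D.pts M).filter (fun x => h • x = x) := by
      intro R hBR hR
      have hMR : M ≠ R := fun e => hM (by rw [e]; exact hR)
      refine Finset.eq_of_subset_of_card_le (fun x hx => ?_)
        (by rw [D.card_fixed_moved hh hBM hM, D.card_inter hMR])
      simp only [Finset.mem_inter, D.mem_pts] at hx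
      simp only [Finset.mem_filter, D.mem_pts]
      exact ⟨hx.1, D.fixed_hyp hh hBR hR hx.2⟩
    refine Finset.eq_of_subset_of_card_le (fun x hx => ?_)
      (by rw [D.card_inter hRR', D.card_inter (fun e => hM (by rw [e]; exact hR))])
    have hx' := hx
    rw [e R hBR hR, ← e R' hBR' hR'] at hx'
    exact Finset.mem_inter.2 ⟨(Finset.mem_inter.1 hx).2, (Finset.mem_inter.1 hx').2⟩
  obtain ⟨M₀, hBM₀, hM₀⟩ : ∃ M : Y, ¬ D.inc B M ∧ h • M ≠ M := by
    by_contra hc
    push Not at hc
    refine h1 (D.faithY h fun M => ?_)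
    by_cases hM : D.inc B M
    · exact hh.2 M hM
    · exact hc M hM
  obtain ⟨x, hx⟩ : (D.pts S ∩ D.pts S').Nonempty :=
    Finset.card_pos.1 (by rw [D.card_inter hne]; exact D.one_le_lam)
  have hall : ∀ M : Y, ¬ D.inc B M → D.inc x M := by
    intro M hBM
    by_cases hM : h • M = M
    · by_cases hMS : M = S
      · rw [hMS]; exact D.mem_pts.1 (Finset.mem_inter.1 hx).1
      · have e1 := key S S' hBS hS hBS' hS' hne M₀ hBM₀ hM₀
        have e2 := key S M hBS hS hBM hM (Ne.symm hMS) M₀ hBM₀ hM₀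
        rw [← e1, e2] at hx
        exact D.mem_pts.1 (Finset.mem_inter.1 hx).2
    · have e1 := key S S' hBS hS hBS' hS' hne M hBM hM
      rw [← e1] at hx
      exact D.mem_pts.1 (Finset.mem_inter.1 hx).1
  have hxB : x ≠ B := fun e => hBS (e ▸ D.mem_pts.1 (Finset.mem_inter.1 hx).1)
  have hsub : Finset.univ \ D.hys B ⊆ D.hys x \ D.hys2 x B := by
    intro M hM
    simp only [Finset.mem_sdiff, Finset.mem_univ, true_and, D.mem_hys, D.mem_hys2] at hM ⊢
    exact ⟨hall M hM, fun h' => hM h'.2⟩
  have hle := Finset.card_le_card hsub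
  rw [Finset.card_sdiff_of_subset (Finset.subset_univ _), Finset.card_sdiff_of_subset (fun M hM =>
    D.mem_hys.2 (D.mem_hys2.1 hM).1), D.card_hys, D.card_hys, D.card_hys2 hxB, Finset.card_univ,
    D.card_eq] at hle
  have hb := D.basic
  rw [n] at hb
  have := D.k_add_two
  have hl := D.lam_lt
  have := D.one_le_lam
  obtain ⟨d, hd⟩ : ∃ d, Fintype.card X = D.k + 2 + d := ⟨Fintype.card X - D.k - 2, by omega⟩
  obtain ⟨e, he⟩ : ∃ e, D.k = D.lam + 2 + d + e := ⟨D.k - D.lam - 2 - d, by omega⟩
  rw [hd, he] at hb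
  nlinarith

/-- the fixed points of a homology -/
lemma fixed_of_homology {B : X} {h : G} (hh : h ∈ D.K B) (h1 : h ≠ 1) {S : Y}
    (hBS : ¬ D.inc B S) (hS : h • S = S) {x : X} (hx : h • x = x) : x = B ∨ D.inc x S := by
  classical
  by_contra hc
  push Not at hc
  obtain ⟨M, hM, hBM⟩ : ∃ M, D.inc x M ∧ ¬ D.inc B M := by
    by_contra hc'
    push Not at hc'
    have : D.hys x ⊆ D.hys2 x B := fun M hM =>
      D.mem_hys2.2 ⟨D.mem_hys.1 hM, hc' M (D.mem_hys.1 hM)⟩
    have := Finset.card_le_card this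
    rw [D.card_hys, D.card_hys2 hc.1] at this
    have := D.lam_lt
    omega
  by_cases hMf : h • M = M
  · exact hc.2 (D.fixed_hyp_unique hh h1 hBM hMf hBS hS ▸ hM)
  · have e : D.pts M ∩ D.pts S = (D.pts M).filter (fun y => h • y = y) :=
      Finset.eq_of_subset_of_card_le (fun y hy => by
        simp only [Finset.mem_inter, D.mem_pts] at hy
        simp only [Finset.mem_filter, D.mem_pts]
        exact ⟨hy.1, D.fixed_hyp hh hBS hS hy.2⟩)
        (by rw [D.card_fixed_moved hh hBM hMf, D.card_inter (fun e => hc.2 (by rw [← e]; exact hM))])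
    have : x ∈ D.pts M ∩ D.pts S := by rw [e]; simp [hM, hx]
    exact hc.2 (D.mem_pts.1 (Finset.mem_inter.1 this).2)

end Design

end Cfsg.Lib.ItoDesign
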