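import Cfsg.Agent.ItoDesign.Final

/-!
# The design of a subgroup of index `n` in a two-transitive group of degree `n`
-/

set_option autoImplicit false
set_option linter.style.haveILetI false
set_option linter.unusedSectionVars false
set_option linter.unusedVariables false
set_option linter.unusedSimpArgs false

open MulAction

namespace Cfsg.Lib.ItoDesign

universe u v w

variable {G : Type u} [Group G] [Fintype G]

lemma sum_fixed {A : Type*} [MulAction G A] [Fintype A] :
    ∑ g : G, Nat.card {a : A // g • a = a} =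
      Nat.card (orbitRel.Quotient G A) * Fintype.card G := by
  classical
  rw [Nat.card_eq_fintype_card, ← sum_card_fixedBy_eq_card_orbits_mul_card_group]
  refine Finset.sum_congr rfl fun g _ => ?_
  rw [Nat.card_eq_fintype_card]
  exact Fintype.card_congr (Equiv.refl _)

lemma card_fixed_prod {A B : Type*} [MulAction G A] [MulAction G B] (g : G) :
    Nat.card {p : A × B // g • p = p} =
      Nat.card {a : A // g • a = a} * Nat.card {b : B // g • b = b} := by
  rw [← Nat.card_prod]
  exact Nat.card_congr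
    { toFun := fun p => (⟨p.1.1, congrArg Prod.fst p.2⟩, ⟨p.1.2, congrArg Prod.snd p.2⟩)
      invFun := fun p => ⟨(p.1.1, p.2.1), Prod.ext p.1.2 p.2.2⟩
      left_inv := fun _ => rfl
      right_inv := fun _ => rfl }

/-- an invariant predicate with transitive classes gives exactly two orbits -/
lemma card_orbits_eq_two {A : Type*} [MulAction G A] [Fintype A] {P : A → Prop}
    (hP : ∀ (g : G) (a : A), P (g • a) ↔ P a) {a₁ a₀ : A} (h1 : P a₁) (h0 : ¬ P a₀)
    (htr : ∀ a b : A, (P a ↔ P b) → ∃ g : G, g • a = b) :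
    Nat.card (orbitRel.Quotient G A) = 2 := by
  classical
  let f : orbitRel.Quotient G A → Bool := Quotient.lift (fun a => decide (P a)) (fun a b h => by
    obtain ⟨g, rfl⟩ := h
    simp [hP])
  rw [Nat.card_congr (Equiv.ofBijective f ⟨?_, ?_⟩), Nat.card_eq_fintype_card, Fintype.card_bool]
  · intro q q'
    refine Quotient.inductionOn₂ q q' fun a b h => Quotient.sound ?_
    obtain ⟨g, hg⟩ := htr b a (by simpa [f, eq_comm, iff_comm] using h.symm)
    exact ⟨g, hg⟩
  · intro b
    cases b
    · exact ⟨Quotient.mk _ a₀, by simp [f, h0]⟩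
    · exact ⟨Quotient.mk _ a₁, by simp [f, h1]⟩

/-- with two orbits an invariant nonconstant predicate classifies them -/
lemma trans_of_two_orbits {A : Type*} [MulAction G A] [Fintype A] {P : A → Prop}
    (hP : ∀ (g : G) (a : A), P (g • a) ↔ P a) {a₁ a₀ : A} (h1 : P a₁) (h0 : ¬ P a₀)
    (hc : Nat.card (orbitRel.Quotient G A) = 2) {a b : A} (hab : P a ↔ P b) :
    ∃ g : G, g • a = b := by
  classical
  by_contra hne
  push Not at hne
  obtain ⟨c, hc'⟩ : ∃ c, ¬ (P c ↔ P a) := by
    by_cases ha : P a
    · exact ⟨a₀, fun h => h0 (h.2 ha)⟩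
    · exact ⟨a₁, fun h => ha (h.1 h1)⟩
  have key : ∀ x y : A, (Quotient.mk (orbitRel G A) x) = Quotient.mk _ y → ∃ g : G, g • y = x :=
    fun x y h => Quotient.exact h
  have h3 : ({Quotient.mk _ a, Quotient.mk _ b, Quotient.mk _ c} :
      Finset (orbitRel.Quotient G A)).card = 3 := by
    rw [Finset.card_eq_three]
    refine ⟨_, _, _, ?_, ?_, ?_, rfl⟩
    · intro h
      obtain ⟨g, hg⟩ := key _ _ h.symm
      exact hne g hg
    · intro h
      obtain ⟨g, hg⟩ := key _ _ h
      exact hc' (by rw [← hg, hP])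
    · intro h
      obtain ⟨g, hg⟩ := key _ _ h
      exact hc' (by rw [hab, ← hg, hP])
  have := Finset.card_le_univ ({Quotient.mk _ a, Quotient.mk _ b, Quotient.mk _ c} :
      Finset (orbitRel.Quotient G A))
  rw [h3, ← Nat.card_eq_fintype_card, hc] at this
  omega

/-- the design of `G ⧸ H` and `Y` -/
theorem exists_design {Y : Type w} [MulAction G Y] [Fintype Y] [FaithfulSMul G Y]
    (h2 : IsMultiplyPretransitive G Y 2) (H : Subgroup G) [Fintype (G ⧸ H)]
    (hidx : H.index = Nat.card Y) (hnt : ¬ IsPretransitive H Y) (hfix : ∀ a : Y, ∃ h : H, h • a ≠ a)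
    (hunf : ∃ a : Y, ∃ h : H, h ≠ 1 ∧ ∀ b ∈ orbit H a, h • b = b) :
    ∃ D : Design G (G ⧸ H) Y, ∀ B, D.K B ≠ ⊥ := by
  classical
  obtain ⟨a, h₀, hh₀, hh₀O⟩ := hunf
  have htr2 : ∀ {a b c d : Y}, a ≠ b → c ≠ d → ∃ g : G, g • a = c ∧ g • b = d :=
    fun h h' => (is_two_pretransitive_iff.1 h2) h h'
  let O : Set Y := orbit H a
  have hOinv : ∀ (h : G), h ∈ H → ∀ y, h • y ∈ O ↔ y ∈ O := by
    intro h hh y
    have h1 : ∀ (h : G), h ∈ H → ∀ y, y ∈ O → h • y ∈ O := fun h hh y hy =>
      mem_orbit_of_mem_orbit (⟨h, hh⟩ : H) hy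
    exact ⟨fun hy => by simpa using h1 h⁻¹ (inv_mem hh) _ hy, h1 h hh y⟩
  obtain ⟨inc, inc_mk⟩ : ∃ inc : G ⧸ H → Y → Prop,
      ∀ (g : G) (y : Y), inc (g : G ⧸ H) y ↔ g⁻¹ • y ∈ O :=
    ⟨fun x y => Quotient.liftOn' x (fun g => g⁻¹ • y ∈ O) (fun g g' h => by
      rw [QuotientGroup.leftRel_apply] at h
      refine propext ?_
      rw [← hOinv _ h (g'⁻¹ • y), smul_smul, mul_inv_cancel_right]), fun _ _ => Iff.rfl⟩
  have inc_smul : ∀ (g : G) (x : G ⧸ H) (y : Y), inc (g • x) (g • y) ↔ inc x y := by
    intro g x y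
    induction x using QuotientGroup.induction_on with
    | H s =>
      show inc ((g * s : G) : G ⧸ H) (g • y) ↔ inc (s : G ⧸ H) y
      rw [inc_mk, inc_mk, smul_smul, mul_inv_rev, inv_mul_cancel_right]
  set n := Fintype.card Y with hn
  have hXY : Fintype.card (G ⧸ H) = n := by
    rw [hn, ← Nat.card_eq_fintype_card, ← Nat.card_eq_fintype_card (α := Y), ← hidx]; rfl
  set k := Nat.card {y : Y // y ∈ O} with hk
  have haO : a ∈ O := mem_orbit_self a
  obtain ⟨b, hb⟩ : ∃ b, b ∉ O := by
    by_contra hc
    push Not at hc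
    refine hnt ⟨fun x y => ?_⟩
    obtain ⟨g, hg⟩ := hc x
    obtain ⟨g', hg'⟩ := hc y
    exact ⟨g' * g⁻¹, by rw [mul_smul, ← hg', ← hg, inv_smul_smul]⟩
  have hk2 : 2 ≤ k := by
    obtain ⟨h, hh⟩ := hfix a
    haveI : Nontrivial {y : Y // y ∈ O} :=
      ⟨⟨⟨a, haO⟩, ⟨h • a, mem_orbit a h⟩, fun e => hh (congrArg Subtype.val e).symm⟩⟩
    exact Finite.one_lt_card
  have hbnd : n ≥ k + 2 := by
    obtain ⟨h, hh⟩ := hfix b
    have hb' : h • b ∉ O := fun hc => hb ((hOinv h.1 h.2 b).1 hc)
    have := Finset.card_le_univ ((Finset.univ.filter fun y => y ∈ O) ∪ {b, h • b})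
    rw [Finset.card_union_of_disjoint, Finset.card_pair (Ne.symm hh), ← Fintype.card_subtype,
      ← Nat.card_eq_fintype_card, ← hk] at this
    · exact this
    · rw [Finset.disjoint_left]
      intro y hy hy'
      simp only [Finset.mem_filter, Finset.mem_univ, true_and] at hy
      simp only [Finset.mem_insert, Finset.mem_singleton] at hy'
      rcases hy' with rfl | rfl
      · exact hb hy
      · exact hb' hy
  have htr1 : ∀ y y' : Y, ∃ g : G, g • y = y' := by
    intro y y'
    haveI : Nontrivial Y := Fintype.one_lt_card_iff_nontrivial.1 (by omega)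
    obtain ⟨z, hz⟩ := exists_ne y
    obtain ⟨z', hz'⟩ := exists_ne y'
    obtain ⟨g, hg, -⟩ := htr2 (Ne.symm hz) (Ne.symm hz')
    exact ⟨g, hg⟩
  -- row and column sums
  have hkX : ∀ x, Nat.card {y : Y // inc x y} = k := by
    intro x
    induction x using QuotientGroup.induction_on with
    | H g =>
      exact Nat.card_congr ((MulAction.toPerm g⁻¹).subtypeEquiv fun y => inc_mk g y)
  have hcY : ∀ y y', Nat.card {x : G ⧸ H // inc x y} = Nat.card {x : G ⧸ H // inc x y'} := by
    intro y y'
    obtain ⟨g, rfl⟩ := htr1 y y'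
    exact Nat.card_congr ((MulAction.toPerm g).subtypeEquiv fun x => (inc_smul g x y).symm)
  let ptsF : Y → Finset (G ⧸ H) := fun y => Finset.univ.filter fun x => inc x y
  let hysF : G ⧸ H → Finset Y := fun x => Finset.univ.filter fun y => inc x y
  have cX : ∀ x, (hysF x).card = k := fun x => by
    rw [← hkX x, Nat.card_eq_fintype_card, Fintype.card_subtype]
  have hkY : ∀ y, Nat.card {x : G ⧸ H // inc x y} = k := by
    intro y
    have h1 : ∑ x, (hysF x).card = ∑ y, (ptsF y).card := by
      simp only [hysF, ptsF, Finset.card_filter]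
      exact Finset.sum_comm
    have e : ∀ y', (ptsF y').card = Nat.card {x : G ⧸ H // inc x y} := fun y' => by
      rw [hcY y y', Nat.card_eq_fintype_card, Fintype.card_subtype]
    rw [Finset.sum_congr rfl (fun x _ => cX x), Finset.sum_congr rfl (fun y' _ => e y'),
      Finset.sum_const, Finset.sum_const, Finset.card_univ, Finset.card_univ, hXY, smul_eq_mul,
      smul_eq_mul, ← hn] at h1
    exact (Nat.eq_of_mul_eq_mul_left (by omega) h1).symm
  have cY : ∀ y, (ptsF y).card = k := fun y => by
    rw [← hkY y, Nat.card_eq_fintype_card, Fintype.card_subtype]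
  -- `lam`
  haveI hYnt : Nontrivial Y := Fintype.one_lt_card_iff_nontrivial.1 (by omega)
  obtain ⟨y₁, y₂, hy12⟩ := exists_pair_ne Y
  set lam := Nat.card {x : G ⧸ H // inc x y₁ ∧ inc x y₂} with hlam
  have hlamY : ∀ y y', y ≠ y' → Nat.card {x : G ⧸ H // inc x y ∧ inc x y'} = lam := by
    intro y y' hyy
    obtain ⟨g, rfl, rfl⟩ := htr2 hy12 hyy
    exact (Nat.card_congr ((MulAction.toPerm g).subtypeEquiv fun x => by
      show _ ↔ inc (g • x) (g • y₁) ∧ inc (g • x) (g • y₂)
      rw [inc_smul, inc_smul])).symm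
  have hbasic : k * (k - 1) = lam * (n - 1) := by
    have h1 : ∑ x : G ⧸ H, (if inc x y₁ then (hysF x).card - 1 else 0) =
        ∑ y ∈ Finset.univ.erase y₁, (ptsF y₁ ∩ ptsF y).card := by
      have e : ∀ x, (if inc x y₁ then (hysF x).card - 1 else 0) =
          ∑ y ∈ Finset.univ.erase y₁, if inc x y₁ ∧ inc x y then 1 else 0 := by
        intro x
        split
        next h =>
          rw [Finset.sum_congr rfl (g := fun y => if inc x y then 1 else 0) (fun y _ => by simp [h]),
            ← Finset.card_filter, ← Finset.card_erase_of_mem (show y₁ ∈ hysF x by simp [hysF, h])]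
          congr 1
          ext y; simp [hysF, and_comm]
        next h => simp [h]
      rw [Finset.sum_congr rfl (fun x _ => e x), Finset.sum_comm]
      refine Finset.sum_congr rfl fun y _ => ?_
      rw [← Finset.card_filter]
      congr 1
      ext x; simp [ptsF]
    have e2 : ∀ y ∈ Finset.univ.erase y₁, (ptsF y₁ ∩ ptsF y).card = lam := fun y hy => by
      rw [← hlamY y₁ y (Ne.symm (Finset.ne_of_mem_erase hy)), Nat.card_eq_fintype_card,
        Fintype.card_subtype]
      congr 1
      ext x; simp [ptsF]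
    rw [Finset.sum_congr rfl e2, Finset.sum_const, smul_eq_mul,
      Finset.card_erase_of_mem (Finset.mem_univ y₁), Finset.card_univ, ← hn] at h1
    simp only [cX] at h1
    rw [← Finset.sum_filter, Finset.sum_const, smul_eq_mul, show
      (Finset.univ.filter fun x => inc x y₁).card = k from cY y₁] at h1
    rw [h1, mul_comm]
  have hlam1 : 1 ≤ lam := by
    by_contra hc
    rw [show lam = 0 by omega, zero_mul] at hbasic
    rcases Nat.mul_eq_zero.1 hbasic with h | h <;> omega
  have hlamk : lam < k := by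
    by_contra hc
    have := Nat.mul_lt_mul_of_le_of_lt (not_lt.1 hc) (show k - 1 < n - 1 by omega) (by omega)
    omega
  -- columns
  let A : Matrix Y (G ⧸ H) ℚ := fun y x => if inc x y then 1 else 0
  have hAap : ∀ y x, A y x = if inc x y then 1 else 0 := fun _ _ => rfl
  have hAAt : A * A.transpose =
      ((k : ℚ) - lam) • (1 : Matrix Y Y ℚ) + (lam : ℚ) • (Matrix.of fun _ _ => (1 : ℚ)) := by
    ext y y'
    rw [Matrix.mul_apply]
    simp only [hAap, Matrix.transpose_apply, ← ite_and, Matrix.add_apply, Matrix.smul_apply,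
      Matrix.one_apply, Matrix.of_apply, smul_eq_mul, mul_ite, ite_mul, one_mul, mul_one, zero_mul,
      mul_zero]
    rw [Finset.sum_boole]
    by_cases h : y = y'
    · subst h
      rw [if_pos rfl]
      simp only [and_self]
      rw [show (Finset.univ.filter fun x => inc x y).card = k from cY y]
      ring
    · rw [if_neg h, zero_add, Nat.cast_inj, ← hlamY y' y (Ne.symm h), Nat.card_eq_fintype_card,
        Fintype.card_subtype]
  have hAt : Function.Injective A.transpose.mulVecLin := by
    rw [injective_iff_map_eq_zero]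
    intro u hu
    rw [Matrix.mulVecLin_apply] at hu
    have h1 : (A * A.transpose).mulVec u = 0 := by rw [← Matrix.mulVec_mulVec, hu, Matrix.mulVec_zero]
    rw [hAAt] at h1
    have h2 : ∀ y, ((k : ℚ) - lam) * u y + (lam : ℚ) * ∑ z, u z = 0 := fun y => by
      have := congrFun h1 y
      rw [Matrix.add_mulVec, Matrix.smul_mulVec, Matrix.smul_mulVec, Matrix.one_mulVec] at this
      simpa [Matrix.mulVec, dotProduct] using this
    have hkl : (lam : ℚ) < k := by exact_mod_cast hlamk
    have hs : ∑ z, u z = 0 := by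
      have h3 : ∑ y, (((k : ℚ) - lam) * u y + (lam : ℚ) * ∑ z, u z) = 0 :=
        Finset.sum_eq_zero fun y _ => h2 y
      rw [Finset.sum_add_distrib, ← Finset.mul_sum, Finset.sum_const, Finset.card_univ,
        nsmul_eq_mul, ← mul_assoc, ← add_mul, mul_eq_zero] at h3
      refine h3.resolve_left ?_
      have : (0 : ℚ) ≤ (Fintype.card Y : ℚ) * lam := by positivity
      intro h0; linarith
    funext y
    have := h2 y
    rw [hs, mul_zero, add_zero, mul_eq_zero] at this
    exact this.resolve_left (by intro h0; linarith)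
  have hA : Function.Injective A.mulVec := by
    intro v v' hv
    have hsurj : Function.Surjective A.transpose.mulVecLin :=
      (LinearMap.injective_iff_surjective_of_finrank_eq_finrank (by
        rw [Module.finrank_fintype_fun_eq_card, Module.finrank_fintype_fun_eq_card, hXY])).1 hAt
    obtain ⟨u, hu⟩ := hsurj (v - v')
    rw [Matrix.mulVecLin_apply] at hu
    have h0 : A.mulVec (v - v') = 0 := by rw [Matrix.mulVec_sub, hv, sub_self]
    have : (v - v') ⬝ᵥ (v - v') = 0 := by
      conv_lhs => arg 2; rw [← hu]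
      rw [Matrix.dotProduct_mulVec, Matrix.vecMul_transpose, h0, zero_dotProduct]
    exact sub_eq_zero.1 (dotProduct_self_eq_zero.1 this)
  have hlamX : ∀ x x' : G ⧸ H, x ≠ x' → Nat.card {y : Y // inc x y ∧ inc x' y} = lam := by
    intro x x' hxx
    set B : Matrix (G ⧸ H) (G ⧸ H) ℚ :=
      ((k : ℚ) - lam) • (1 : Matrix (G ⧸ H) (G ⧸ H) ℚ) + (lam : ℚ) • (Matrix.of fun _ _ => (1 : ℚ))
      with hB
    have e : A * (A.transpose * A) = A * B := by
      rw [← Matrix.mul_assoc, hAAt, hB, Matrix.add_mul, Matrix.mul_add, Matrix.smul_mul,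
        Matrix.smul_mul, Matrix.mul_smul, Matrix.mul_smul, Matrix.one_mul, Matrix.mul_one]
      congr 2
      ext y z
      rw [Matrix.mul_apply, Matrix.mul_apply]
      simp only [hAap, Matrix.of_apply, one_mul, mul_one]
      rw [Finset.sum_boole, Finset.sum_boole, show (Finset.univ.filter fun y => inc z y).card = k from cX z,
        show (Finset.univ.filter fun x => inc x y).card = k from cY y]
    have hcol : (fun i => (A.transpose * A) i x') = (fun i => B i x') := by
      apply hA
      funext y
      exact congrFun (congrFun e y) x'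
    have h3 := congrFun hcol x
    rw [Matrix.mul_apply] at h3
    simp only [hAap, Matrix.transpose_apply, hB, ← ite_and, Matrix.add_apply, Matrix.smul_apply,
      Matrix.one_apply, if_neg hxx, Matrix.of_apply, smul_eq_mul, mul_ite, ite_mul, one_mul, mul_one,
      zero_mul, mul_zero, zero_add] at h3
    rw [Finset.sum_boole, Nat.cast_inj] at h3
    rw [← h3, Nat.card_eq_fintype_card, Fintype.card_subtype]
    congr 1
    ext y; simp [and_comm]
  -- fixed points
  have hfixeq : ∀ g : G, Nat.card {x : G ⧸ H // g • x = x} = Nat.card {y : Y // g • y = y} := by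
    intro g
    have h1 : ∑ x : G ⧸ H, Nat.card {y : Y // inc x y ∧ inc (g • x) y} =
        ∑ y : Y, Nat.card {x : G ⧸ H // inc x y ∧ inc x (g⁻¹ • y)} := by
      simp only [Nat.card_eq_fintype_card, Fintype.card_subtype, Finset.card_filter]
      rw [Finset.sum_comm]
      refine Finset.sum_congr rfl fun y _ => Finset.sum_congr rfl fun x _ => ?_
      rw [show inc (g • x) y ↔ inc x (g⁻¹ • y) by rw [← inc_smul g x, smul_inv_smul]]
    have e1 : ∀ x : G ⧸ H, Nat.card {y : Y // inc x y ∧ inc (g • x) y} =
        lam + if g • x = x then k - lam else 0 := by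
      intro x
      split
      next h => simp only [h, and_self, hkX]; omega
      next h => rw [hlamX x _ (Ne.symm h)]; rfl
    have e2 : ∀ y : Y, Nat.card {x : G ⧸ H // inc x y ∧ inc x (g⁻¹ • y)} =
        lam + if g • y = y then k - lam else 0 := by
      intro y
      split
      next h =>
        rw [inv_smul_eq_iff.2 h.symm]
        simp only [and_self, hkY]; omega
      next h => rw [hlamY y _ (fun e => h (by conv_lhs => rw [e, smul_inv_smul]))]; rfl
    rw [Finset.sum_congr rfl (fun x _ => e1 x), Finset.sum_congr rfl (fun y _ => e2 y),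
      Finset.sum_add_distrib, Finset.sum_add_distrib, Finset.sum_const, Finset.sum_const,
      Finset.card_univ, Finset.card_univ, hXY, ← hn, Nat.add_left_cancel_iff, ← Finset.sum_filter,
      ← Finset.sum_filter, Finset.sum_const, Finset.sum_const, smul_eq_mul, smul_eq_mul] at h1
    rw [Nat.card_eq_fintype_card, Nat.card_eq_fintype_card, Fintype.card_subtype, Fintype.card_subtype]
    exact Nat.eq_of_mul_eq_mul_right (by omega) h1
  -- orbits on pairs
  have hYY : Nat.card (orbitRel.Quotient G (Y × Y)) = 2 :=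
    card_orbits_eq_two (P := fun p => p.1 = p.2) (fun g p => smul_left_cancel_iff g)
      (a₁ := (a, a)) (a₀ := (y₁, y₂)) rfl hy12 (fun p p' h => by
        by_cases hp : p.1 = p.2
        · obtain ⟨g, hg⟩ := htr1 p.1 p'.1
          exact ⟨g, Prod.ext hg (show g • p.2 = p'.2 by rw [← hp, hg, h.1 hp])⟩
        · obtain ⟨g, hg1, hg2⟩ := htr2 hp (mt h.2 hp)
          exact ⟨g, Prod.ext hg1 hg2⟩)
  have hXXc : Nat.card (orbitRel.Quotient G ((G ⧸ H) × (G ⧸ H))) = 2 := by
    refine Nat.eq_of_mul_eq_mul_right (Fintype.card_pos (α := G)) ?_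
    rw [← hYY, ← sum_fixed, ← sum_fixed]
    refine Finset.sum_congr rfl fun g _ => ?_
    rw [card_fixed_prod, card_fixed_prod, hfixeq]
  have hXYc : Nat.card (orbitRel.Quotient G ((G ⧸ H) × Y)) = 2 := by
    refine Nat.eq_of_mul_eq_mul_right (Fintype.card_pos (α := G)) ?_
    rw [← hYY, ← sum_fixed, ← sum_fixed]
    refine Finset.sum_congr rfl fun g _ => ?_
    rw [card_fixed_prod, card_fixed_prod, hfixeq]
  obtain ⟨x₁, x₂, hx12⟩ : ∃ x₁ x₂ : G ⧸ H, x₁ ≠ x₂ := by
    haveI : Nontrivial (G ⧸ H) := Fintype.one_lt_card_iff_nontrivial.1 (by omega)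
    exact exists_pair_ne _
  let x0 : G ⧸ H := ((1 : G) : G ⧸ H)
  have hx0 : ∀ y, inc x0 y ↔ y ∈ O := fun y => by rw [inc_mk, inv_one, one_smul]
  refine ⟨{ inc := inc
            inc_smul := inc_smul
            k := k
            lam := lam
            card_eq := hXY.symm
            kX := hkX
            kY := hkY
            lamX := hlamX
            lamY := hlamY
            transX := fun a b c d hab hcd => ?_
            transY := fun a b c d hab hcd => htr2 hab hcd
            transXY := fun x x' S S' h => ?_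
            faithX := fun g hg => ?_
            faithY := fun g hg => eq_of_smul_eq_smul (α := Y) fun y => by rw [hg, one_smul]
            one_le_lam := hlam1
            lam_lt := hlamk
            k_add_two := by omega
            fix_eq := hfixeq }, ?_⟩
  · obtain ⟨g, hg⟩ := trans_of_two_orbits (P := fun p : (G ⧸ H) × (G ⧸ H) => p.1 = p.2)
      (fun g p => smul_left_cancel_iff g) (a₁ := (x₁, x₁)) (a₀ := (x₁, x₂)) rfl hx12 hXXc
      (a := (a, b)) (b := (c, d)) (iff_of_false hab hcd)
    exact ⟨g, congrArg Prod.fst hg, congrArg Prod.snd hg⟩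
  · obtain ⟨g, hg⟩ := trans_of_two_orbits (P := fun p : (G ⧸ H) × Y => inc p.1 p.2)
      (fun g p => inc_smul g p.1 p.2) (a₁ := (x0, a)) (a₀ := (x0, b)) ((hx0 a).2 haO)
      (fun h' => hb ((hx0 b).1 h')) hXYc (a := (x, S)) (b := (x', S')) h
    exact ⟨g, congrArg Prod.fst hg, congrArg Prod.snd hg⟩
  · have h1 : Nat.card {y : Y // g • y = y} = Nat.card Y := by
      rw [← hfixeq g, Nat.card_congr (Equiv.subtypeUnivEquiv hg), Nat.card_eq_fintype_card,
        Nat.card_eq_fintype_card, hXY, hn]
    refine eq_of_smul_eq_smul (α := Y) fun y => ?_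
    rw [one_smul]
    by_contra hy
    have h2 : Nat.card {y : Y // g • y = y} < Nat.card Y := by
      rw [Nat.card_eq_fintype_card, Nat.card_eq_fintype_card]
      exact Fintype.card_subtype_lt hy
    omega
  · intro B
    refine Design.K_ne_bot_const _ (B := x0) ?_ B
    rw [Subgroup.ne_bot_iff_exists_ne_one]
    refine ⟨⟨h₀.1, ?_, fun S hS => hh₀O S ((hx0 S).1 hS)⟩,
      fun e => hh₀ (Subtype.ext (congrArg Subtype.val e :))⟩
    show ((h₀.1 * 1 : G) : G ⧸ H) = ((1 : G) : G ⧸ H)
    rw [mul_one, QuotientGroup.eq, mul_one]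
    exact inv_mem h₀.2

end Cfsg.Lib.ItoDesign
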