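import Cfsg.Agent.ItoDesign.Scal

/-!
# Coordinates for `lam ≥ 2`
-/

set_option autoImplicit false
set_option linter.style.haveILetI false
set_option linter.unusedSectionVars false
set_option linter.unusedVariables false

open MulAction

namespace Cfsg.Lib.ItoDesign

universe u v w

variable {G : Type u} {X : Type v} {Y : Type w} [Group G] [MulAction G X] [MulAction G Y]
  [Fintype X] [Fintype Y] [Fintype G]

namespace Design

variable (D : Design G X Y) (hK : ∀ B : X, D.K B ≠ ⊥)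

/-- the points are those of a projective space, with the same lines -/
def Coordinatised : Prop :=
  ∃ (F : Type) (_ : Field F) (_ : Fintype F) (M : ℕ)
    (ψ : X ≃ Projectivization F (Fin (M + 1) → F)), 2 ≤ M ∧ ∀ x y z : X, x ≠ y →
      (z ∈ D.line x y ↔ (ψ z).submodule ≤ (ψ x).submodule ⊔ (ψ y).submodule)

variable {D hK}

namespace Frame

variable (Φ : D.Frame hK)

section scalars

variable {F : Type} [Field F] (e : F ≃ ↥(Φ.cp Φ.Z))
  (hadd : ∀ a b, (e (a + b)).1 = (e a).1 * (e b).1)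
  (hmul : ∀ a b, (e (a * b)).1 = Φ.rho (e a).1 (e b).1)

include hadd in
lemma io_add {C : X} (hC : D.inc C Φ.S₀) (a b : F) :
    Φ.io e C (a + b) = Φ.io e C a * Φ.io e C b := by
  rw [io, hadd, Φ.iota_mul hC (e a).2 (e b).2]; rfl

include hadd in
lemma io_zero {C : X} (hC : D.inc C Φ.S₀) : Φ.io e C 0 = 1 := by
  have h := Φ.io_add e hadd hC 0 0
  rw [add_zero] at h
  exact mul_eq_left.1 h.symm

lemma io_mem {C : X} (hC : D.inc C Φ.S₀) (t : F) : Φ.io e C t ∈ Φ.cp C := Φ.iota_mem hC (e t).2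

open scoped Classical in
/-- scalar multiplication on translations -/
noncomputable def scal (s : F) (v : G) : G :=
  if h : ∃ p : X × F, D.inc p.1 Φ.S₀ ∧ Φ.io e p.1 p.2 = v then
    Φ.io e h.choose.1 (h.choose.2 * s)
  else 1

include hadd in
lemma scal_io {C : X} (hC : D.inc C Φ.S₀) (s t : F) :
    Φ.scal e s (Φ.io e C t) = Φ.io e C (t * s) := by
  classical
  have h : ∃ p : X × F, D.inc p.1 Φ.S₀ ∧ Φ.io e p.1 p.2 = Φ.io e C t := ⟨(C, t), hC, rfl⟩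
  rw [scal, dif_pos h]
  obtain ⟨h1, h2⟩ := h.choose_spec
  generalize h.choose = p at h1 h2 ⊢
  by_cases hCC : p.1 = C
  · rw [hCC] at h2 ⊢
    rw [Φ.io_inj e hC h2]
  · have h3 : Φ.io e C t = 1 := by
      refine D.eq_one_of_two_centres (D.two_le_m' hK) hCC ?_ (Φ.io_mem e hC t).2
      rw [← h2]; exact (Φ.io_mem e h1 _).2
    rw [h3] at h2
    rw [← Φ.io_zero e hadd hC] at h3
    rw [← Φ.io_zero e hadd h1] at h2
    rw [Φ.io_inj e hC h3, Φ.io_inj e h1 h2, zero_mul, Φ.io_zero e hadd hC,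
      Φ.io_zero e hadd h1]

include hadd in
lemma exists_io {v : G} (hv : v ∈ D.T hK Φ.S₀) :
    ∃ C t, D.inc C Φ.S₀ ∧ Φ.io e C t = v := by
  by_cases h1 : v = 1
  · exact ⟨Φ.Z, 0, Φ.hZ, by rw [h1, Φ.io_zero e hadd Φ.hZ]⟩
  obtain ⟨C, hC⟩ := D.exists_centre hK hv.1 h1
  have hCS := D.centre_inc hK hv h1 hC
  obtain ⟨t, ht⟩ := Φ.io_surj e hCS (⟨hv, hC⟩ : v ∈ Φ.cp C)
  exact ⟨C, t, hCS, ht⟩

include hadd in
lemma scal_mem_cp {C : X} (hC : D.inc C Φ.S₀) (s : F) {v : G} (hv : v ∈ Φ.cp C) :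
    Φ.scal e s v ∈ Φ.cp C := by
  obtain ⟨t, rfl⟩ := Φ.io_surj e hC hv
  rw [Φ.scal_io e hadd hC]
  exact Φ.io_mem e hC _

include hadd in
lemma scal_mem (s : F) {v : G} (hv : v ∈ D.T hK Φ.S₀) : Φ.scal e s v ∈ D.T hK Φ.S₀ := by
  obtain ⟨C, t, hC, rfl⟩ := Φ.exists_io e hadd hv
  rw [Φ.scal_io e hadd hC]
  exact (Φ.io_mem e hC _).1

include hadd hmul in
lemma scal_del {A C : X} (hA : D.inc A Φ.S₀) (hC : D.inc C Φ.S₀) (hAC : A ≠ C) {σ : G}
    (hσ : Φ.Sh C σ) (s : F) {v : G} (hv : v ∈ Φ.cp A) :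
    del σ (Φ.scal e s v) = Φ.scal e s (del σ v) := by
  obtain ⟨t, rfl⟩ := Φ.io_surj e hA hv
  obtain ⟨w, hw⟩ := Φ.hom_general e hmul hA hC hAC hσ
  rw [Φ.scal_io e hadd hA, hw, hw, Φ.scal_io e hadd hC, mul_assoc]

include hadd hmul in
lemma scal_mul (s : F) {a b : G} (ha : a ∈ D.T hK Φ.S₀) (hb : b ∈ D.T hK Φ.S₀) :
    Φ.scal e s (a * b) = Φ.scal e s a * Φ.scal e s b := by
  obtain ⟨C, t, hC, rfl⟩ := Φ.exists_io e hadd ha
  obtain ⟨C', t', hC', rfl⟩ := Φ.exists_io e hadd hb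
  by_cases hCC : C = C'
  · subst hCC
    rw [← Φ.io_add e hadd hC, Φ.scal_io e hadd hC, Φ.scal_io e hadd hC, Φ.scal_io e hadd hC,
      add_mul, Φ.io_add e hadd hC]
  by_cases ht : t = 0
  · rw [ht, Φ.io_zero e hadd hC, one_mul]
    conv_rhs => rw [← Φ.io_zero e hadd hC, Φ.scal_io e hadd hC, zero_mul, Φ.io_zero e hadd hC,
      one_mul]
  set v := Φ.io e C t with hvdef
  set w := Φ.io e C' t' with hwdef
  have hv : v ∈ Φ.cp C := Φ.io_mem e hC t
  have hw : w ∈ Φ.cp C' := Φ.io_mem e hC' t'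
  have hv1 : v ≠ 1 := fun h => ht (Φ.io_inj e hC (by rw [← hvdef, h, Φ.io_zero e hadd hC]))
  obtain ⟨H, hOH, hC'H, hCH⟩ := D.exists_axis_avoid₂ hK Φ.hO hC' hC (Ne.symm hCC)
  obtain ⟨τ, hτT, hτK, hτ, hτv⟩ := D.exists_shear_axis hK Φ.hO hOH hC'H hC' hCH hv hv1 hw
  obtain ⟨x, hx, hx1⟩ := D.exists_cmpt_ne_one hK Φ.hO hC'
  obtain ⟨σ, hσ, hσx⟩ := D.exists_shear hK Φ.hO hC hC' hCC hx hx1 hv
  have hτC' : τ • C' = C' := hτK.1
  have hEC : τ • C ≠ C' := fun h => hCC (MulAction.injective τ (h.trans hτC'.symm))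
  have hES : D.inc (τ • C) Φ.S₀ := by
    rw [← hτ.smul_S]; exact (D.inc_smul τ C Φ.S₀).2 hC
  have hσ' : Φ.Sh (τ • C) (τ * σ * τ⁻¹) := by
    obtain ⟨Hs, h1, h2, -, h4, h5⟩ := hσ
    exact ⟨τ • Hs, by rw [← hτ.smul_O]; exact (D.inc_smul τ Φ.O Hs).2 h1,
      (D.inc_smul τ C Hs).2 h2, hES, D.conj_mem_T hK h4, D.conj_mem_K h5⟩
  have hfix : ∀ y ∈ Φ.cp C', τ * y * τ⁻¹ = y := fun y hy => by
    rw [conj_eq, D.del_eq_one_of_mem hK Φ.hO hτ hτT hy.1 (D.cmpt_smul_inc hK hy hOH hC'H), one_mul]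
  have hdel : ∀ y ∈ Φ.cp C', del (τ * σ * τ⁻¹) y = τ * del σ y * τ⁻¹ := fun y hy => by
    conv_lhs => rw [← hfix y hy]
    unfold del; group
  have hsx := Φ.scal_mem_cp e hadd hC' s hx
  have key : τ * Φ.scal e s v * τ⁻¹ = Φ.scal e s (τ * v * τ⁻¹) := by
    rw [← hσx, ← Φ.scal_del e hadd hmul hC' hC (Ne.symm hCC) hσ s hx, ← hdel _ hx, ← hdel _ hsx,
      Φ.scal_del e hadd hmul hC' hES (Ne.symm hEC) hσ' s hx]
  have hsv := Φ.scal_mem_cp e hadd hC s hv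
  rw [conj_eq, conj_eq, hτv, Φ.scal_del e hadd hmul hC hC' hCC hτ s hv, hτv] at key
  rw [D.T_comm hK hv.1 hw.1, ← key,
    D.T_comm hK (Φ.scal_mem e hadd s hw.1) (Φ.scal_mem e hadd s hv.1)]

include hadd hmul in
/-- the translation group is a vector space whose components are the lines -/
theorem exists_linear [Fintype F] :
    ∃ (M : ℕ) (φ : G → (Fin M → F)),
      (∀ a ∈ D.T hK Φ.S₀, ∀ b ∈ D.T hK Φ.S₀, φ (a * b) = φ a + φ b) ∧
      (∀ a ∈ D.T hK Φ.S₀, φ a = 0 → a = 1) ∧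
      (∀ x : Fin M → F, ∃ a ∈ D.T hK Φ.S₀, φ a = x) ∧
      (∀ C, D.inc C Φ.S₀ → ∀ v ∈ Φ.cp C, v ≠ 1 → ∀ u ∈ D.T hK Φ.S₀,
        (u ∈ Φ.cp C ↔ ∃ a : F, φ u = a • φ v)) := by
  classical
  letI CG : CommGroup ↥(D.T hK Φ.S₀) :=
    { (inferInstance : Group ↥(D.T hK Φ.S₀)) with
      mul_comm := fun a b => Subtype.ext (D.T_comm hK a.2 b.2) }
  have hone : ∀ v ∈ D.T hK Φ.S₀, Φ.scal e 1 v = v := fun v hv => by
    obtain ⟨C, t, hC, rfl⟩ := Φ.exists_io e hadd hv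
    rw [Φ.scal_io e hadd hC, mul_one]
  have hzero : ∀ v ∈ D.T hK Φ.S₀, Φ.scal e 0 v = 1 := fun v hv => by
    obtain ⟨C, t, hC, rfl⟩ := Φ.exists_io e hadd hv
    rw [Φ.scal_io e hadd hC, mul_zero, Φ.io_zero e hadd hC]
  have hcomp : ∀ (a b : F), ∀ v ∈ D.T hK Φ.S₀, Φ.scal e (a * b) v = Φ.scal e a (Φ.scal e b v) :=
    fun a b v hv => by
    obtain ⟨C, t, hC, rfl⟩ := Φ.exists_io e hadd hv
    rw [Φ.scal_io e hadd hC, Φ.scal_io e hadd hC, Φ.scal_io e hadd hC, mul_assoc, mul_comm b a]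
  have hsplit : ∀ (a b : F), ∀ v ∈ D.T hK Φ.S₀,
      Φ.scal e (a + b) v = Φ.scal e a v * Φ.scal e b v := fun a b v hv => by
    obtain ⟨C, t, hC, rfl⟩ := Φ.exists_io e hadd hv
    rw [Φ.scal_io e hadd hC, Φ.scal_io e hadd hC, Φ.scal_io e hadd hC, mul_add, Φ.io_add e hadd hC]
  have hfixone : ∀ a : F, Φ.scal e a 1 = 1 := fun a => by
    have h := Φ.scal_io e hadd Φ.hZ a 0
    rwa [zero_mul, Φ.io_zero e hadd Φ.hZ] at h
  let V := Additive ↥(D.T hK Φ.S₀)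
  let toG : V → G := fun v => (Additive.toMul v).1
  letI : SMul F V := ⟨fun a v => Additive.ofMul ⟨Φ.scal e a (toG v),
    Φ.scal_mem e hadd a (Additive.toMul v).2⟩⟩
  letI modV : Module F V :=
    { one_smul := fun v => Additive.toMul.injective (Subtype.ext (hone _ (Additive.toMul v).2))
      mul_smul := fun a b v =>
        Additive.toMul.injective (Subtype.ext (hcomp a b _ (Additive.toMul v).2))
      smul_zero := fun a => Additive.toMul.injective (Subtype.ext (hfixone a))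
      smul_add := fun a v w => Additive.toMul.injective (Subtype.ext
        (Φ.scal_mul e hadd hmul a (Additive.toMul v).2 (Additive.toMul w).2))
      add_smul := fun a b v =>
        Additive.toMul.injective (Subtype.ext (hsplit a b _ (Additive.toMul v).2))
      zero_smul := fun v => Additive.toMul.injective (Subtype.ext (hzero _ (Additive.toMul v).2)) }
  haveI : Finite V := inferInstanceAs (Finite (Additive ↥(D.T hK Φ.S₀)))
  haveI : Module.Finite F V := Module.Finite.of_finite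
  let bs := Module.finBasis F V
  let φ : G → (Fin (Module.finrank F V) → F) := fun g =>
    if h : g ∈ D.T hK Φ.S₀ then bs.equivFun (Additive.ofMul ⟨g, h⟩) else 0
  have hφ : ∀ (g : G) (h : g ∈ D.T hK Φ.S₀), φ g = bs.equivFun (Additive.ofMul ⟨g, h⟩) :=
    fun g h => dif_pos h
  refine ⟨Module.finrank F V, φ, fun a ha b hb => ?_, fun a ha h0 => ?_, fun x => ?_,
    fun C hC v hv hv1 u hu => ?_⟩
  · rw [hφ _ ha, hφ _ hb, hφ _ (mul_mem ha hb), ← map_add]; rfl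
  · rw [hφ _ ha, LinearEquiv.map_eq_zero_iff] at h0
    exact congrArg Subtype.val h0
  · obtain ⟨v, rfl⟩ := bs.equivFun.surjective x
    exact ⟨toG v, (Additive.toMul v).2, hφ _ _⟩
  · rw [hφ _ hu, hφ _ hv.1]
    have key : ∀ a : F, bs.equivFun (Additive.ofMul ⟨u, hu⟩) =
        a • bs.equivFun (Additive.ofMul ⟨v, hv.1⟩) ↔ u = Φ.scal e a v := fun a => by
      rw [← map_smul, bs.equivFun.injective.eq_iff]
      exact ⟨fun h => congrArg (fun w : V => toG w) h,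
        fun h => Additive.toMul.injective (Subtype.ext h)⟩
    simp only [key]
    obtain ⟨t, ht⟩ := Φ.io_surj e hC hv
    have ht0 : t ≠ 0 := fun h => hv1 (by rw [← ht, h, Φ.io_zero e hadd hC])
    constructor
    · intro huC
      obtain ⟨t', ht'⟩ := Φ.io_surj e hC huC
      exact ⟨t⁻¹ * t', by rw [← ht, ← ht', Φ.scal_io e hadd hC, mul_inv_cancel_left₀ ht0]⟩
    · rintro ⟨a, rfl⟩
      exact Φ.scal_mem_cp e hadd hC a hv

end scalars

end Frame

end Design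

end Cfsg.Lib.ItoDesign
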