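import Cfsg.Agent.ItoDesign.Elation

/-!
# Ito's counting of the fixed points of elations
-/

set_option autoImplicit false
set_option linter.style.haveILetI false
set_option linter.unusedSectionVars false

open MulAction

namespace Cfsg.Lib.ItoDesign

universe u v w

variable {G : Type u} {X : Type v} {Y : Type w} [Group G] [MulAction G X] [MulAction G Y]
  [Fintype X] [Fintype Y] [Fintype G]

namespace Design

variable (D : Design G X Y)

/-- no central collineation fixes a hyperplane off its centre -/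
def Elational : Prop :=
  ∀ (B : X) (h : G), h ∈ D.K B → h ≠ 1 → ∀ S, ¬ D.inc B S → h • S ≠ S

lemma kap_smul (g : G) (c x y : X) : D.kap (g • c) (g • x) (g • y) = D.kap c x y := by
  have key : ∀ (g : G) (c x y : X) (h : G), h ∈ D.K c ⊓ stabilizer G x ⊓ stabilizer G y →
      g * h * g⁻¹ ∈ D.K (g • c) ⊓ stabilizer G (g • x) ⊓ stabilizer G (g • y) :=
    fun g c x y h hh => ⟨⟨D.conj_mem_K hh.1.1, mem_stabilizer_iff.2 (by
        rw [mul_smul, mul_smul, inv_smul_smul, mem_stabilizer_iff.1 hh.1.2])⟩,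
      mem_stabilizer_iff.2 (by
        rw [mul_smul, mul_smul, inv_smul_smul, mem_stabilizer_iff.1 hh.2])⟩
  refine Nat.card_congr
    { toFun := fun h => ⟨g⁻¹ * h.1 * g, by
        have := key g⁻¹ (g • c) (g • x) (g • y) h.1 h.2
        rwa [inv_smul_smul, inv_smul_smul, inv_smul_smul, inv_inv] at this⟩
      invFun := fun h => ⟨g * h.1 * g⁻¹, key g c x y h.1 h.2⟩
      left_inv := fun h => Subtype.ext (show g * (g⁻¹ * h.1 * g) * g⁻¹ = h.1 by group)
      right_inv := fun h => Subtype.ext (show g⁻¹ * (g * h.1 * g⁻¹) * g = h.1 by group) }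

open scoped Classical in
/-- Ito's sum -/
noncomputable def isum (B P : X) (S : Y) : ℕ :=
  ∑ x ∈ (D.pts S).erase B, (D.kap B P x - 1)

lemma isum_smul {B : X} {S : Y} {γ : G} (hB : γ • B = B) (hS : γ • S = S) (P : X) :
    D.isum B (γ • P) S = D.isum B P S := by
  classical
  refine (Finset.sum_bij (fun x _ => γ • x) (fun x hx => ?_)
    (fun a _ b _ e => MulAction.injective γ e) (fun y hy => ⟨γ⁻¹ • y, ?_, smul_inv_smul γ y⟩)
    (fun x _ => ?_)).symm
  · simp only [Finset.mem_erase, D.mem_pts] at hx ⊢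
    refine ⟨fun e => hx.1 (MulAction.injective γ (e.trans hB.symm)), ?_⟩
    rw [← hS]; exact (D.inc_smul γ x S).2 hx.2
  · simp only [Finset.mem_erase, D.mem_pts] at hy ⊢
    refine ⟨fun e => hy.1 (by rw [← hB, ← e, smul_inv_smul]), ?_⟩
    rw [← D.inc_smul γ, smul_inv_smul, hS]; exact hy.2
  · show D.kap B P x - 1 = D.kap B (γ • P) (γ • x) - 1
    conv_rhs => rw [← hB, D.kap_smul]

lemma isum_of_not_inc (hE : D.Elational) (hm2 : 2 ≤ D.m) {B P : X} {S : Y} (hB : D.inc B S)
    (hP : ¬ D.inc P S) :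
    D.isum B P S + (Nat.card ↥(D.K P ⊓ stabilizer G B) - 1) =
      (Nat.card ↥(D.K P ⊓ stabilizer G B) - 1) * D.lam := by
  classical
  rw [← D.sum_stab_moved (D.K P ⊓ stabilizer G B) inf_le_left hP
    (fun h hh h1 => hE P h hh.1 h1 S hP)]
  rw [← Finset.sum_erase_add _ _ (D.mem_pts.2 hB), inf_assoc, inf_idem]
  congr 1
  refine Finset.sum_congr rfl fun x hx => ?_
  simp only [Finset.mem_erase, D.mem_pts] at hx
  have hBP : B ≠ P := fun e => hP (e ▸ hB)
  have hPx : P ≠ x := fun e => hP (e ▸ hx.2)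
  rw [← D.kap_symm hm2 hBP (Ne.symm hx.1) hPx]
  rfl

lemma sum_isum (hE : D.Elational) {B x₀ : X} (hx₀ : x₀ ≠ B) {S S' : Y} (hB : D.inc B S)
    (hB' : ¬ D.inc B S') :
    ∑ P ∈ D.pts S', D.isum B P S =
      (D.k - 1) * ((Nat.card ↥(D.K B ⊓ stabilizer G x₀) - 1) * D.lam) := by
  classical
  unfold isum
  rw [Finset.sum_comm]
  rw [Finset.sum_congr rfl (g := fun _ => (Nat.card ↥(D.K B ⊓ stabilizer G x₀) - 1) * D.lam)]
  · rw [Finset.sum_const, smul_eq_mul, Finset.card_erase_of_mem (D.mem_pts.2 hB), D.card_pts]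
  intro x hx
  simp only [Finset.mem_erase] at hx
  rw [D.card_K_stab_const (Ne.symm hx₀) (Ne.symm hx.1),
    ← D.sum_stab_moved (D.K B ⊓ stabilizer G x) inf_le_left hB'
      (fun h hh h1 => hE B h hh.1 h1 S' hB')]
  exact Finset.sum_congr rfl fun P _ => by rw [D.kap_comm]; rfl

lemma isum_eq_noncol (hm2 : 2 ≤ D.m) {B P Q : X} {S : Y} (hB : D.inc B S)
    (hP : D.inc P S) (hQ : D.inc Q S) (hPQ : P ≠ Q) (hBl : B ∉ D.line P Q) :
    D.isum B P S = D.isum B Q S := by
  classical
  have hBP : B ≠ P := fun e => hBl (e ▸ D.left_mem_line P Q)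
  have hBQ : B ≠ Q := fun e => hBl (e ▸ D.right_mem_line P Q)
  by_cases hq : D.kap B P Q = Nat.card ↥(D.K B ⊓ stabilizer G P)
  · have e1 : D.K B ⊓ stabilizer G P ⊓ stabilizer G Q = D.K B ⊓ stabilizer G P :=
      Subgroup.eq_of_le_of_card_ge inf_le_left hq.ge
    have e2 : D.K B ⊓ stabilizer G P ⊓ stabilizer G Q = D.K B ⊓ stabilizer G Q := by
      refine Subgroup.eq_of_le_of_card_ge (inf_le_inf_right _ inf_le_left) ?_
      rw [D.card_K_stab_const hBQ hBP]
      exact hq.ge
    have e : D.K B ⊓ stabilizer G P = D.K B ⊓ stabilizer G Q := e1.symm.trans e2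
    unfold isum kap
    rw [e]
  obtain ⟨v, hv⟩ : D.kap B P Q ∣ Nat.card ↥(D.K B ⊓ stabilizer G P) :=
    Subgroup.card_dvd_of_le inf_le_left
  set Γ : Subgroup G := stabilizer G B ⊓ stabilizer G S with hΓ
  by_cases horb : Q ∈ orbit Γ P
  · obtain ⟨γ, rfl⟩ := horb
    exact (D.isum_smul γ.2.1 γ.2.2 P).symm
  exfalso
  set L := D.line P Q with hL
  set A0 := L.filter (fun y => y ∈ orbit Γ P) with hA0
  have hLS : ∀ x ∈ L, D.inc x S := fun x hx => D.mem_pts.1 (D.line_subset_pts hP hQ hx)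
  have key : ∀ x ∈ L, v ∣ (A0.erase x).card := by
    intro x hx
    have hBx : B ≠ x := fun e => hBl (e ▸ hx)
    refine dvd_card_of_orbits (D.K x ⊓ stabilizer G B) _ ?_ v ?_
    · intro u hu y hy
      simp only [hA0, Finset.mem_erase, Finset.mem_filter] at hy ⊢
      have huS : u • S = S := hu.1.2 S (hLS x hx)
      refine ⟨fun e => hy.1 (MulAction.injective u (e.trans hu.1.1.symm)), ?_, ?_⟩
      · have := D.smul_mem_centre_line (x := y) hu.1
        rwa [D.line_eq hPQ hx hy.2.1 (Ne.symm hy.1)] at this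
      · exact (show (⟨u, mem_stabilizer_iff.2 (mem_stabilizer_iff.1 hu.2),
          mem_stabilizer_iff.2 huS⟩ : Γ) • y ∈ orbit Γ P from mem_orbit_of_mem_orbit _ hy.2.2)
    · intro y hy
      simp only [hA0, Finset.mem_erase, Finset.mem_filter] at hy
      have hBy : B ≠ y := fun e => hBl (e ▸ hy.2.1)
      have hxy : x ≠ y := Ne.symm hy.1
      show D.kap x B y * v = _
      rw [D.kap_symm hm2 hBx hBy hxy, D.card_K_stab_const (Ne.symm hBx) hBP, hv]
      congr 1
      unfold kap
      have hl : D.line x y = L := D.line_eq hPQ hx hy.2.1 hxy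
      have hBl' : B ∉ D.line x y := by rw [hl]; exact hBl
      congr 1
      have : D.K B ⊓ stabilizer G x ⊓ stabilizer G y = D.K B ⊓ stabilizer G P ⊓ stabilizer G Q := by
        ext a
        simp only [Subgroup.mem_inf, mem_stabilizer_iff]
        constructor
        · rintro ⟨⟨ha, h1⟩, h2⟩
          exact ⟨⟨ha, D.fixed_line ha hxy hBl' h1 h2 (by rw [hl]; exact D.left_mem_line P Q)⟩,
            D.fixed_line ha hxy hBl' h1 h2 (by rw [hl]; exact D.right_mem_line P Q)⟩
        · rintro ⟨⟨ha, h1⟩, h2⟩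
          exact ⟨⟨ha, D.fixed_line ha hPQ hBl h1 h2 hx⟩, D.fixed_line ha hPQ hBl h1 h2 hy.2.1⟩
      rw [this]
  have hQA : Q ∉ A0 := by simp [hA0, horb]
  have hPA : P ∈ A0 := by simp [hA0, hL, D.left_mem_line, mem_orbit_self]
  have h1 := key Q (D.right_mem_line P Q)
  have h2 := key P (D.left_mem_line P Q)
  rw [Finset.erase_eq_of_notMem hQA] at h1
  rw [Finset.card_erase_of_mem hPA] at h2
  have hpos : 0 < A0.card := Finset.card_pos.2 ⟨P, hPA⟩
  have h3 := Nat.dvd_sub h1 h2
  rw [show A0.card - (A0.card - 1) = 1 by omega, Nat.dvd_one] at h3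
  rw [h3, mul_one] at hv
  exact hq hv.symm

lemma isum_eq (hm2 : 2 ≤ D.m) (hlam : 2 ≤ D.lam) {B P Q : X} {S : Y} (hB : D.inc B S)
    (hP : D.inc P S) (hQ : D.inc Q S) (hPB : P ≠ B) (hQB : Q ≠ B) :
    D.isum B P S = D.isum B Q S := by
  classical
  by_cases hPQ : P = Q
  · rw [hPQ]
  by_cases hBl : B ∈ D.line P Q
  swap
  · exact D.isum_eq_noncol hm2 hB hP hQ hPQ hBl
  obtain ⟨R, hR, hRl⟩ : ∃ R ∈ D.pts S, R ∉ D.line P Q := by
    refine Finset.exists_mem_notMem_of_card_lt_card ?_
    rw [D.card_pts, D.card_line hPQ]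
    have := D.m_lam_le
    have := Nat.mul_le_mul_left D.m hlam
    omega
  rw [D.mem_pts] at hR
  have hRP : R ≠ P := fun e => hRl (e ▸ D.left_mem_line P Q)
  have hRQ : R ≠ Q := fun e => hRl (e ▸ D.right_mem_line P Q)
  have aux : ∀ Z ∈ D.line P Q, Z ≠ B → Z ≠ R → B ∉ D.line Z R := by
    intro Z hZ hZB hZR h
    apply hRl
    rw [← D.line_eq hPQ hZ hBl hZB, D.line_eq hZR (D.left_mem_line Z R) h hZB]
    exact D.right_mem_line Z R
  rw [D.isum_eq_noncol hm2 hB hP hR (Ne.symm hRP) (aux P (D.left_mem_line P Q) hPB (Ne.symm hRP)),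
    D.isum_eq_noncol hm2 hB hQ hR (Ne.symm hRQ) (aux Q (D.right_mem_line P Q) hQB (Ne.symm hRQ))]

/-- the elation group is large -/
lemma lam_lt_q (hE : D.Elational) (hm2 : 2 ≤ D.m) (hlam : 2 ≤ D.lam) {B x₀ : X} (hx₀ : x₀ ≠ B)
    (hq : 2 ≤ Nat.card ↥(D.K B ⊓ stabilizer G x₀)) :
    D.k + 1 ≤ Nat.card ↥(D.K B) := by
  classical
  set q := Nat.card ↥(D.K B ⊓ stabilizer G x₀) with hqdef
  set α : ℚ := ((q : ℚ) - 1) * ((D.lam : ℚ) - 1) with hα
  set b : ℚ := (((D.k : ℚ) - 1) * ((q : ℚ) - 1) * D.lam - ((D.k : ℚ) - D.lam) * α) / D.lam with hb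
  have hl0 : (0 : ℚ) < D.lam := by exact_mod_cast D.one_le_lam
  have hkl : (D.lam : ℚ) < D.k := by exact_mod_cast D.lam_lt
  have hq2 : (2 : ℚ) ≤ q := by exact_mod_cast hq
  have hout : ∀ (S : Y) (P : X), D.inc B S → ¬ D.inc P S → (D.isum B P S : ℚ) = α := by
    intro S P hS hP
    have h := D.isum_of_not_inc hE hm2 hS hP
    rw [D.card_K_stab_const (show P ≠ B from fun e => hP (e ▸ hS)) (Ne.symm hx₀), ← hqdef] at h
    have h' := congrArg (Nat.cast : ℕ → ℚ) h
    push_cast [Nat.cast_sub (show 1 ≤ q by omega)] at h'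
    rw [hα]; linarith
  have hin : ∀ (S : Y) (P : X), D.inc B S → D.inc P S → P ≠ B → (D.isum B P S : ℚ) = b := by
    intro S P hS hP hPB
    obtain ⟨S', hS'⟩ := D.exists_not_inc_of B
    have h := D.sum_isum hE hx₀ hS hS'
    have hne : S' ≠ S := fun e => hS' (e ▸ hS)
    rw [← Finset.sum_inter_add_sum_sdiff (D.pts S') (D.pts S)] at h
    have h' := congrArg (Nat.cast : ℕ → ℚ) h
    push_cast [Nat.cast_sub (show 1 ≤ q by omega), Nat.cast_sub D.one_le_k] at h'
    have e1 : ∀ Q ∈ D.pts S' ∩ D.pts S, (D.isum B Q S : ℚ) = D.isum B P S := fun Q hQ => by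
      simp only [Finset.mem_inter, D.mem_pts] at hQ
      rw [D.isum_eq hm2 hlam hS hQ.2 hP (fun e => hS' (e ▸ hQ.1)) hPB]
    have e2 : ∀ Q ∈ D.pts S' \ D.pts S, (D.isum B Q S : ℚ) = α := fun Q hQ => by
      simp only [Finset.mem_sdiff, D.mem_pts] at hQ
      exact hout S Q hS hQ.2
    rw [Finset.sum_congr rfl e1, Finset.sum_congr rfl e2, Finset.sum_const, Finset.sum_const,
      D.card_inter hne] at h'
    rw [show (D.pts S' \ D.pts S).card = D.k - D.lam by
      rw [Finset.card_sdiff, Finset.inter_comm, D.card_inter hne, D.card_pts]] at h'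
    push_cast [nsmul_eq_mul, Nat.cast_sub D.lam_lt.le, ← hqdef,
      Nat.cast_sub (show 1 ≤ q by omega)] at h'
    rw [hb, eq_div_iff hl0.ne']
    linarith
  have hba : b - α ≠ 0 := by
    intro h
    have h' : b = α := by linarith
    rw [hb, div_eq_iff hl0.ne', hα] at h'
    nlinarith
  let a : G → Y → ℕ := fun h S => (((D.pts S).erase B).filter fun x => h • x = x).card
  let Φ : (↥(D.hys B) → ℚ) →ₗ[ℚ] (↥(nt (D.K B)) → ℚ) :=
    { toFun := fun y h => ∑ S, y S * (a h.1 S.1 : ℚ)
      map_add' := fun y y' => funext fun h => by simp [add_mul, Finset.sum_add_distrib]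
      map_smul' := fun c y => funext fun h => by simp [Finset.mul_sum, mul_assoc] }
  have hΦ : Function.Injective Φ := by
    rw [injective_iff_map_eq_zero]
    intro y hy
    have hy' : ∀ h ∈ nt (D.K B), ∑ S, y S * (a h S.1 : ℚ) = 0 := fun h hh =>
      congrFun hy ⟨h, hh⟩
    have hsum : ∑ S, y S = 0 := by
      have h1 : ∑ h ∈ nt (D.K B), ∑ S, y S * (a h S.1 : ℚ) = 0 := Finset.sum_eq_zero hy'
      rw [Finset.sum_comm] at h1
      have e : ∀ S : ↥(D.hys B), ∑ h ∈ nt (D.K B), y S * (a h S.1 : ℚ) =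
          y S * (((D.k : ℚ) - 1) * ((q : ℚ) - 1)) := by
        intro S
        rw [← Finset.mul_sum]
        congr 1
        have h := sum_stab (D.K B) ((D.pts S.1).erase B)
        rw [Finset.sum_congr rfl (g := fun _ => q - 1) (fun x hx => by
          rw [D.card_K_stab_const (Ne.symm (Finset.ne_of_mem_erase hx)) (Ne.symm hx₀)]),
          Finset.sum_const, Finset.card_erase_of_mem (D.mem_pts.2 (D.mem_hys.1 S.2)), D.card_pts,
          smul_eq_mul] at h
        have h' := congrArg (Nat.cast : ℕ → ℚ) h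
        push_cast [Nat.cast_sub (show 1 ≤ q by omega), Nat.cast_sub D.one_le_k] at h'
        rw [h']
      rw [Finset.sum_congr rfl (fun S _ => e S), ← Finset.sum_mul] at h1
      rcases mul_eq_zero.1 h1 with h | h
      · exact h
      · have : (2 : ℚ) ≤ D.k := by exact_mod_cast D.two_le_k
        rcases mul_eq_zero.1 h with h | h <;> linarith
    have hF : ∀ P, P ≠ B → ∑ S : ↥(D.hys B), (if D.inc P S.1 then y S else 0) = 0 := by
      intro P hPB
      have h1 : ∑ h ∈ nt (D.K B ⊓ stabilizer G P), ∑ S, y S * (a h S.1 : ℚ) = 0 :=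
        Finset.sum_eq_zero fun h hh => hy' h (mem_nt.2 ⟨(mem_nt.1 hh).1.1, (mem_nt.1 hh).2⟩)
      rw [Finset.sum_comm] at h1
      have e : ∀ S : ↥(D.hys B), ∑ h ∈ nt (D.K B ⊓ stabilizer G P), y S * (a h S.1 : ℚ) =
          α * y S + (b - α) * (if D.inc P S.1 then y S else 0) := by
        intro S
        rw [← Finset.mul_sum]
        have h := sum_stab (D.K B ⊓ stabilizer G P) ((D.pts S.1).erase B)
        have h' : (D.isum B P S.1 : ℚ) = ∑ h ∈ nt (D.K B ⊓ stabilizer G P), (a h S.1 : ℚ) := by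
          rw [← Nat.cast_sum]; exact congrArg (Nat.cast : ℕ → ℚ) h
        rw [← h']
        split
        next hP => rw [hin _ _ (D.mem_hys.1 S.2) hP hPB]; ring
        next hP => rw [hout _ _ (D.mem_hys.1 S.2) hP]; ring
      rw [Finset.sum_congr rfl (fun S _ => e S), Finset.sum_add_distrib, ← Finset.mul_sum,
        ← Finset.mul_sum, hsum, mul_zero, zero_add] at h1
      exact (mul_eq_zero.1 h1).resolve_left hba
    funext S₀
    have h1 : ∑ P ∈ (D.pts S₀.1).erase B,
        ∑ S : ↥(D.hys B), (if D.inc P S.1 then y S else 0) = 0 :=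
      Finset.sum_eq_zero fun P hP => hF P (Finset.ne_of_mem_erase hP)
    rw [Finset.sum_comm] at h1
    have e : ∀ S : ↥(D.hys B), ∑ P ∈ (D.pts S₀.1).erase B, (if D.inc P S.1 then y S else 0) =
        ((D.lam : ℚ) - 1) * y S + (if S = S₀ then ((D.k : ℚ) - D.lam) * y S else 0) := by
      intro S
      rw [← Finset.sum_filter, Finset.sum_const, nsmul_eq_mul]
      have hBS := D.mem_hys.1 S.2
      have hBS₀ := D.mem_hys.1 S₀.2
      have e' : ((D.pts S₀.1).erase B).filter (fun P => D.inc P S.1) =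
          (D.pts S₀.1 ∩ D.pts S.1).erase B := by
        ext P; simp [and_assoc]
      rw [e', Finset.card_erase_of_mem (by simp [hBS, hBS₀])]
      split
      next h =>
        subst h
        rw [Finset.inter_self, D.card_pts, Nat.cast_sub D.one_le_k]
        push_cast; ring
      next h =>
        rw [D.card_inter (fun e => h (Subtype.ext e.symm)), Nat.cast_sub D.one_le_lam]
        push_cast; ring
    rw [Finset.sum_congr rfl (fun S _ => e S), Finset.sum_add_distrib, ← Finset.mul_sum, hsum,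
      mul_zero, zero_add, Finset.sum_ite_eq' Finset.univ S₀, if_pos (Finset.mem_univ _)] at h1
    rcases mul_eq_zero.1 h1 with h | h
    · linarith
    · simpa using h
  have h := LinearMap.finrank_le_finrank_of_injective hΦ
  rw [Module.finrank_fintype_fun_eq_card, Module.finrank_fintype_fun_eq_card, Fintype.card_coe,
    Fintype.card_coe, D.card_hys, card_nt] at h
  have : 1 ≤ Nat.card ↥(D.K B) := Nat.card_pos
  have := D.two_le_k
  omega

/-- in the absence of homologies every line meets every hyperplane and `K B` is as large as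
possible -/
theorem elation_card (hE : D.Elational) {B : X} (hK : D.K B ≠ ⊥) :
    D.Full ∧ Nat.card ↥(D.K B) = D.m * (D.k - D.lam) := by
  classical
  obtain ⟨⟨h, hh⟩, hh1⟩ := Subgroup.ne_bot_iff_exists_ne_one.1 hK
  have hne1 : h ≠ 1 := fun e => hh1 (Subtype.ext e)
  have hm2 : 2 ≤ D.m := D.two_le_m hh hne1
  obtain ⟨x₀, hx₀⟩ := D.exists_ne B
  obtain ⟨S₁, hS₁⟩ := D.exists_not_inc_of B
  set q := Nat.card ↥(D.K B ⊓ stabilizer G x₀) with hqdef
  set NK := Nat.card ↥(D.K B) with hNK
  set t := Nat.card (orbit (D.K B) x₀) with htdef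
  have hNKt : t * q = NK := card_orbit_mul (D.K B) x₀
  have hNK2 : 2 ≤ NK := by
    haveI : Nontrivial (D.K B) := (Subgroup.nontrivial_iff_ne_bot _).2 hK
    exact Finite.one_lt_card
  have hKS : (NK - 1) * D.lam = D.k * (q - 1) := by
    rw [← D.sum_stab_moved (D.K B) le_rfl hS₁ (fun h hh h1 => hE B h hh h1 S₁ hS₁),
      Finset.sum_congr rfl (g := fun _ => q - 1) (fun x hx => by
        rw [D.card_K_stab_const (show B ≠ x from fun e => hS₁ (e ▸ D.mem_pts.1 hx))
          (Ne.symm hx₀)]),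
      Finset.sum_const, smul_eq_mul, D.card_pts]
  have hlk := D.lam_lt
  have hl1 := D.one_le_lam
  have hq2 : 2 ≤ q := by
    have : 0 < (NK - 1) * D.lam := Nat.mul_pos (by omega) (by omega)
    rw [hKS] at this
    have := Nat.pos_of_mul_pos_left this
    omega
  have htm : t ∣ D.m := by
    have h := dvd_card_of_orbits (D.K B) ((D.line B x₀).erase B) (fun u hu x hx => by
        simp only [Finset.mem_erase] at hx ⊢
        exact ⟨fun e => hx.1 (MulAction.injective u (e.trans hu.1.symm)),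
          D.smul_mem_centre_line' hu hx.2⟩) t (fun x hx => by
        rw [D.card_K_stab_const (Ne.symm (Finset.ne_of_mem_erase hx)) (Ne.symm hx₀), mul_comm]
        exact hNKt)
    rwa [Finset.card_erase_of_mem (D.left_mem_line B x₀), D.card_line (Ne.symm hx₀),
      Nat.add_sub_cancel] at h
  have hqlam : D.lam + 1 ≤ q := by
    by_cases hlam : 2 ≤ D.lam
    · have h := D.lam_lt_q hE hm2 hlam hx₀ hq2
      rw [← hNK] at h
      by_contra hc
      have h1 : D.k * D.lam ≤ D.k * (q - 1) := by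
        rw [← hKS]; exact Nat.mul_le_mul_right _ (by omega)
      have h2 := Nat.le_of_mul_le_mul_left h1 (by omega)
      omega
    · omega
  obtain ⟨q', hq'⟩ : ∃ q', q = q' + 1 := ⟨q - 1, by omega⟩
  obtain ⟨NK', hNK'⟩ : ∃ j, NK = j + 1 := ⟨NK - 1, by omega⟩
  rw [hq', hNK', Nat.add_sub_cancel, Nat.add_sub_cancel] at hKS
  rw [hq', hNK'] at hNKt
  have ht0 : t ≠ 0 := by rintro h; rw [h] at hNKt; omega
  have ht2 : 2 ≤ t := by
    by_contra hc
    have ht1 : t = 1 := by omega
    rw [ht1, one_mul] at hNKt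
    have e : NK' = q' := by omega
    rw [e, mul_comm] at hKS
    have := Nat.eq_of_mul_eq_mul_right (show 0 < q' by omega) hKS
    omega
  have hkt : D.lam * t ≤ D.k := by
    by_contra hc
    have := Nat.mul_lt_mul_of_pos_right (not_le.1 hc) (show 0 < q' by omega)
    nlinarith
  obtain ⟨d, hd⟩ : ∃ d, D.k = D.lam * t + d := ⟨D.k - D.lam * t, by omega⟩
  obtain ⟨t', ht'⟩ : ∃ j, t = j + 1 := ⟨t - 1, by omega⟩
  have hdq : d * q' = D.lam * t' := by
    rw [hd] at hKS; rw [ht'] at hKS hNKt; nlinarith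
  have hd1 : 1 ≤ d := by
    rcases Nat.eq_zero_or_pos d with h | h
    · rw [h, zero_mul] at hdq
      have := Nat.mul_pos (show 0 < D.lam by omega) (show 0 < t' by omega)
      omega
    · omega
  have hdt : d ≤ t' := by
    have h1 : d * D.lam ≤ D.lam * t' := hdq ▸ Nat.mul_le_mul_left d (by omega)
    rw [mul_comm] at h1
    exact Nat.le_of_mul_le_mul_left h1 (by omega)
  have htk : t ∣ D.k - 1 := htm.trans D.m_dvd_k_sub
  have hd' : d = 1 := by
    rw [hd, show D.lam * t + d - 1 = D.lam * t + (d - 1) by omega,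
      Nat.dvd_add_right (dvd_mul_left t D.lam)] at htk
    by_contra hc
    have := Nat.le_of_dvd (by omega) htk
    omega
  subst hd'
  rw [one_mul] at hdq
  have hml := D.m_lam_le
  have htm' : t = D.m := by
    refine le_antisymm (Nat.le_of_dvd (by omega) htm) ?_
    rw [hd] at hml
    rw [mul_comm D.m] at hml
    exact Nat.le_of_mul_le_mul_left (show D.lam * D.m ≤ D.lam * t by omega) (by omega)
  refine ⟨?_, ?_⟩
  · show D.m * D.lam + 1 = D.k
    rw [hd, htm', mul_comm]
  · rw [hNK', ← hNKt, htm']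
    congr 1
    rw [hd, htm', hdq, ← htm', ht']
    have : D.lam * (t' + 1) = D.lam * t' + D.lam := by ring
    omega

/-- if there are central collineations, every line meets every hyperplane -/
theorem full_of_K {B : X} (hK : D.K B ≠ ⊥) : D.Full := by
  classical
  by_cases hE : D.Elational
  · exact (D.elation_card hE hK).1
  simp only [Elational, not_forall, not_not] at hE
  obtain ⟨C, h₀, hh₀, h₀1, S, hCS, hS⟩ := hE
  have ho : orderOf h₀ ≠ 1 := fun e => h₀1 (orderOf_eq_one_iff.1 e)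
  obtain ⟨r, hr, hrd⟩ := Nat.exists_prime_and_dvd ho
  set h := h₀ ^ (orderOf h₀ / r) with hdef
  have hor : orderOf h = r := by
    rw [hdef, orderOf_pow_of_dvd (Nat.div_pos (Nat.le_of_dvd (orderOf_pos h₀) hrd) hr.pos).ne'
      (Nat.div_dvd_of_dvd hrd), Nat.div_div_self hrd (orderOf_pos h₀).ne']
  have h1 : h ≠ 1 := fun e => hr.one_lt.ne' (by rw [← hor, e, orderOf_one])
  have hh : h ∈ D.K C := pow_mem hh₀ _
  have hhS : h • S = S := mem_stabilizer_iff.1 (pow_mem (mem_stabilizer_iff.2 hS) _)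
  have hm2 : 2 ≤ D.m := D.two_le_m hh h1
  by_cases hall : ∀ y, y ≠ C → ∃ P ∈ D.line C y, D.inc P S
  · -- `X` minus the centre is partitioned by the lines to the points of `S`
    have hcard : (Finset.univ.erase C).card = D.k * D.m := by
      have e : Finset.univ.erase C = (D.pts S).biUnion fun P => (D.line C P).erase C := by
        ext y
        simp only [Finset.mem_erase, Finset.mem_univ, and_true, Finset.mem_biUnion, D.mem_pts]
        refine ⟨fun hy => ?_, fun ⟨P, _, hy, _⟩ => hy⟩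
        obtain ⟨P, hP, hPS⟩ := hall y hy
        have hPC : P ≠ C := fun e => hCS (e ▸ hPS)
        refine ⟨P, hPS, hy, ?_⟩
        rw [D.line_eq_of_mem (Ne.symm hy) hP hPC]
        exact D.right_mem_line C y
      rw [e, Finset.card_biUnion, Finset.sum_congr rfl (g := fun _ => D.m) (fun P hP => by
        rw [Finset.card_erase_of_mem (D.left_mem_line C P), D.card_line
          (show C ≠ P from fun e => hCS (e ▸ D.mem_pts.1 hP)), Nat.add_sub_cancel]),
        Finset.sum_const, smul_eq_mul, D.card_pts]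
      intro P hP P' hP' hne
      rw [Function.onFun, Finset.disjoint_left]
      intro z hz hz'
      simp only [Finset.mem_erase] at hz hz'
      have hPC : C ≠ P := fun e => hCS (e ▸ D.mem_pts.1 hP)
      have hPC' : C ≠ P' := fun e => hCS (e ▸ D.mem_pts.1 hP')
      have := D.line_eq_of_mem hPC hz.2 hz.1
      rw [D.line_eq_of_mem hPC' hz'.2 hz'.1] at this
      exact hne (D.eq_of_mem_hyp hCS (D.mem_pts.1 hP') (D.mem_pts.1 hP)
        (this ▸ D.right_mem_line C P))
    rw [Finset.card_erase_of_mem (Finset.mem_univ C), Finset.card_univ] at hcard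
    have hb := D.basic
    rw [n, show Fintype.card X = D.k * D.m + 1 by have := D.k_add_two; omega] at hb
    have hk : 0 < D.k := D.one_le_k
    show D.m * D.lam + 1 = D.k
    refine Nat.eq_of_mul_eq_mul_left hk ?_
    nlinarith
  exfalso
  push Not at hall
  obtain ⟨y, hyC, hy⟩ := hall
  have hpow : h ^ r = 1 := by rw [← hor]; exact pow_orderOf_eq_one h
  have hfix : ∀ z, z ≠ C → (h • z = z ↔ D.inc z S) := fun z hz =>
    ⟨fun e => (D.fixed_of_homology hh h1 hCS hhS e).resolve_left hz,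
      fun e => D.fixed_hyp hh hCS hhS e⟩
  have hinv : ∀ w, ∀ z ∈ (D.line C w).erase C, h • z ∈ (D.line C w).erase C := fun w z hz => by
    simp only [Finset.mem_erase] at hz ⊢
    exact ⟨fun e => hz.1 (MulAction.injective h (e.trans hh.1.symm)),
      D.smul_mem_centre_line' hh hz.2⟩
  have hc1 := card_filter_fixed_modEq hr hpow _ (hinv y)
  have h0 : ((D.line C y).erase C).filter (fun z => h • z = z) = ∅ := by
    refine Finset.filter_eq_empty_iff.2 fun z hz e => ?_
    simp only [Finset.mem_erase] at hz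
    exact hy z hz.2 ((hfix z hz.1).1 e)
  rw [h0, Finset.card_empty, Finset.card_erase_of_mem (D.left_mem_line C y),
    D.card_line (Ne.symm hyC), Nat.add_sub_cancel] at hc1
  obtain ⟨P, hP⟩ := Finset.card_pos.1 (show 0 < (D.pts S).card by
    rw [D.card_pts]; exact D.one_le_k)
  have hCP : C ≠ P := fun e => hCS (e ▸ D.mem_pts.1 hP)
  have hc2 := card_filter_fixed_modEq hr hpow _ (hinv P)
  have h1' : ((D.line C P).erase C).filter (fun z => h • z = z) = {P} := by
    ext z
    simp only [Finset.mem_filter, Finset.mem_erase, Finset.mem_singleton]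
    constructor
    · rintro ⟨⟨hz, hzl⟩, e⟩
      exact D.eq_of_mem_hyp hCS (D.mem_pts.1 hP) ((hfix z hz).1 e) hzl
    · rintro rfl
      exact ⟨⟨Ne.symm hCP, D.right_mem_line C z⟩, (hfix z (Ne.symm hCP)).2 (D.mem_pts.1 hP)⟩
  rw [h1', Finset.card_singleton, Finset.card_erase_of_mem (D.left_mem_line C P),
    D.card_line hCP, Nat.add_sub_cancel] at hc2
  have h01 : 0 % r = 1 % r := hc1.trans hc2.symm
  rw [Nat.zero_mod, Nat.mod_eq_of_lt hr.one_lt] at h01
  omega

end Design

end Cfsg.Lib.ItoDesign
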