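import Cfsg.Agent.ItoDesign.Basic

/-!
# A nontrivial group of central collineations makes every line meet every hyperplane

Ito's counting: if some central collineation fixes a hyperplane off its centre this is immediate,
otherwise one counts fixed points of the groups `K c`.
-/

set_option autoImplicit false
set_option linter.style.haveILetI false
set_option linter.unusedSectionVars false

open MulAction

namespace Cfsg.Lib.ItoDesign

universe u v w

variable {G : Type u} {X : Type v} {Y : Type w} [Group G] [MulAction G X] [MulAction G Y]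
  [Fintype X] [Fintype Y] [Fintype G]

/-- orbit-stabilizer for a subgroup -/
lemma card_orbit_mul {Z : Type*} [MulAction G Z] (U : Subgroup G) (x : Z) :
    Nat.card (orbit U x) * Nat.card ↥(U ⊓ stabilizer G x) = Nat.card U := by
  have e : Nat.card ↥(U ⊓ stabilizer G x) = Nat.card (stabilizer U x) := by
    refine Nat.card_congr
      { toFun := fun g => ⟨⟨g.1, g.2.1⟩, g.2.2⟩
        invFun := fun g => ⟨g.1.1, g.1.2, g.2⟩
        left_inv := fun g => rfl
        right_inv := fun g => rfl }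
  rw [e, ← Nat.card_prod]
  exact Nat.card_congr (orbitProdStabilizerEquivGroup U x)

open scoped Classical in
lemma dvd_card_of_orbits (U : Subgroup G) (L : Finset X) (hL : ∀ u ∈ U, ∀ x ∈ L, u • x ∈ L)
    (v : ℕ) (hv : ∀ x ∈ L, Nat.card ↥(U ⊓ stabilizer G x) * v = Nat.card U) : v ∣ L.card := by
  rw [Finset.card_eq_sum_card_image (fun x => (orbit U x).toFinset) L]
  refine Finset.dvd_sum fun o ho => ?_
  obtain ⟨x, hx, rfl⟩ := Finset.mem_image.1 ho
  have e : L.filter (fun y => (orbit U y).toFinset = (orbit U x).toFinset) =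
      (orbit U x).toFinset := by
    ext y
    simp only [Finset.mem_filter, Set.toFinset_inj, Set.mem_toFinset]
    constructor
    · rintro ⟨-, e⟩
      rw [← e]; exact mem_orbit_self y
    · intro hy
      refine ⟨?_, orbit_eq_iff.2 hy⟩
      obtain ⟨u, rfl⟩ := hy
      exact hL u.1 u.2 x hx
  rw [e]
  have h1 := card_orbit_mul U x
  have hpos : 0 < Nat.card ↥(U ⊓ stabilizer G x) := Nat.card_pos
  have : (orbit U x).toFinset.card = v := by
    refine Nat.eq_of_mul_eq_mul_right hpos ?_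
    rw [mul_comm v, hv x hx, ← h1, Set.toFinset_card, Nat.card_eq_fintype_card (α := orbit U x)]
  rw [this]

open scoped Classical in
lemma card_filter_fixed_modEq {h : G} {r : ℕ} (hr : r.Prime) (hh : h ^ r = 1) (L : Finset X)
    (hL : ∀ x ∈ L, h • x ∈ L) : (L.filter fun x => h • x = x).card ≡ L.card [MOD r] := by
  haveI := Fact.mk hr
  have hLi : ∀ x, h • x ∈ L ↔ x ∈ L := by
    have himg : L.image (h • ·) = L := Finset.eq_of_subset_of_card_le
      (by intro y hy; obtain ⟨x, hx, rfl⟩ := Finset.mem_image.1 hy; exact hL x hx)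
      (by rw [Finset.card_image_of_injective _ (MulAction.injective h)])
    refine fun x => ⟨fun hx => ?_, hL x⟩
    rw [← himg] at hx
    obtain ⟨y, hy, e⟩ := Finset.mem_image.1 hx
    exact MulAction.injective h e ▸ hy
  let σ : Equiv.Perm L := (MulAction.toPerm h).subtypePerm hLi
  have hσ : σ ^ r ^ 1 = 1 := by
    rw [pow_one]
    have key : ∀ (j : ℕ) (x : L), ((σ ^ j) x).1 = h ^ j • x.1 := by
      intro j
      induction j with
      | zero => intro x; simp
      | succ j ih =>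
        intro x
        rw [pow_succ', Equiv.Perm.mul_apply, pow_succ', mul_smul, ← ih x]
        rfl
    ext x
    rw [key r x, hh, one_smul]
    rfl
  have hm := Equiv.Perm.card_compl_support_modEq hσ
  rw [Fintype.card_coe] at hm
  suffices e : (L.filter fun x => h • x = x).card = σ.supportᶜ.card by rw [e]; exact hm
  refine Finset.card_bij (fun x hx => ⟨x, (Finset.mem_filter.1 hx).1⟩) (fun x hx => ?_)
    (fun a _ b _ e => congrArg Subtype.val e) (fun x hx => ⟨x.1, ?_, rfl⟩)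
  · rw [Finset.mem_compl, Equiv.Perm.notMem_support]
    exact Subtype.ext (Finset.mem_filter.1 hx).2
  · rw [Finset.mem_compl, Equiv.Perm.notMem_support] at hx
    exact Finset.mem_filter.2 ⟨x.2, congrArg Subtype.val hx⟩

/-- nontrivial elements of a subgroup -/
noncomputable def nt (U : Subgroup G) : Finset G :=
  open scoped Classical in Finset.univ.filter fun h => h ∈ U ∧ h ≠ 1

lemma mem_nt {U : Subgroup G} {h : G} : h ∈ nt U ↔ h ∈ U ∧ h ≠ 1 := by
  classical
  simp [nt]

lemma card_nt (U : Subgroup G) : (nt U).card = Nat.card U - 1 := by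
  classical
  have e : nt U = ((U : Set G).toFinset).erase 1 := by
    ext h; simp [mem_nt, and_comm]
  rw [e, Finset.card_erase_of_mem (by simp [U.one_mem]), Set.toFinset_card,
    Nat.card_eq_fintype_card]
  rfl

open scoped Classical in
lemma sum_stab {Z : Type*} [MulAction G Z] (U : Subgroup G) (L : Finset Z) :
    ∑ x ∈ L, (Nat.card ↥(U ⊓ stabilizer G x) - 1) =
      ∑ h ∈ nt U, (L.filter fun x => h • x = x).card := by
  simp only [← card_nt, Finset.card_filter]
  rw [Finset.sum_comm]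
  refine Finset.sum_congr rfl fun x _ => ?_
  rw [← Finset.card_filter]
  congr 1
  ext h
  simp only [mem_nt, Finset.mem_filter, Subgroup.mem_inf, mem_stabilizer_iff]
  tauto

namespace Design

variable (D : Design G X Y)

lemma sum_stab_moved (U : Subgroup G) {B : X} (hU : U ≤ D.K B) {S : Y} (hBS : ¬ D.inc B S)
    (hm : ∀ h ∈ U, h ≠ 1 → h • S ≠ S) :
    ∑ x ∈ D.pts S, (Nat.card ↥(U ⊓ stabilizer G x) - 1) = (Nat.card U - 1) * D.lam := by
  classical
  rw [sum_stab, Finset.sum_congr rfl (fun h hh => D.card_fixed_moved (hU (mem_nt.1 hh).1) hBS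
    (hm h (mem_nt.1 hh).1 (mem_nt.1 hh).2)), Finset.sum_const, smul_eq_mul, card_nt]

lemma exists_not_inc_of (B : X) : ∃ S, ¬ D.inc B S := by
  by_contra hc
  push Not at hc
  have : D.hys B = Finset.univ := Finset.eq_univ_of_forall fun S => D.mem_hys.2 (hc S)
  have h := D.card_hys B
  rw [this, Finset.card_univ, D.card_eq] at h
  have := D.k_add_two
  omega

lemma exists_inc_of (B : X) : ∃ S, D.inc B S := by
  obtain ⟨S, hS⟩ := Finset.card_pos.1 (show 0 < (D.hys B).card by
    rw [D.card_hys]; exact D.one_le_k)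
  exact ⟨S, D.mem_hys.1 hS⟩

lemma exists_notMem_line (x y : X) (hxy : x ≠ y) : ∃ z, z ∉ D.line x y := by
  by_contra hc
  push Not at hc
  obtain ⟨S, hS⟩ := Finset.card_pos.1 (show 0 < (D.hys2 x y).card by
    rw [D.card_hys2 hxy]; exact D.one_le_lam)
  rw [D.mem_hys2] at hS
  have := Finset.card_le_card (show Finset.univ ⊆ D.pts S from fun z _ =>
    D.line_subset_pts hS.1 hS.2 (hc z))
  rw [D.card_pts, Finset.card_univ] at this
  have := D.k_add_two
  omega

/-- conjugation carries `K B ⊓ stabilizer x` to the corresponding group -/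
lemma card_K_stab_smul (g : G) (B x : X) :
    Nat.card ↥(D.K (g • B) ⊓ stabilizer G (g • x)) = Nat.card ↥(D.K B ⊓ stabilizer G x) := by
  have key : ∀ (g : G) (B x : X) (h : G), h ∈ D.K B ⊓ stabilizer G x →
      g * h * g⁻¹ ∈ D.K (g • B) ⊓ stabilizer G (g • x) := fun g B x h hh =>
    ⟨D.conj_mem_K hh.1, mem_stabilizer_iff.2 (by
      rw [mul_smul, mul_smul, inv_smul_smul, mem_stabilizer_iff.1 hh.2])⟩
  refine Nat.card_congr
    { toFun := fun h => ⟨g⁻¹ * h.1 * g, by
        have := key g⁻¹ (g • B) (g • x) h.1 h.2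
        rwa [inv_smul_smul, inv_smul_smul, inv_inv] at this⟩
      invFun := fun h => ⟨g * h.1 * g⁻¹, key g B x h.1 h.2⟩
      left_inv := fun h => Subtype.ext (show g * (g⁻¹ * h.1 * g) * g⁻¹ = h.1 by group)
      right_inv := fun h => Subtype.ext (show g⁻¹ * (g * h.1 * g⁻¹) * g = h.1 by group) }

lemma card_K_stab_const {B x B' x' : X} (h : B ≠ x) (h' : B' ≠ x') :
    Nat.card ↥(D.K B ⊓ stabilizer G x) = Nat.card ↥(D.K B' ⊓ stabilizer G x') := by
  obtain ⟨g, rfl, rfl⟩ := D.transX B x B' x' h h'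
  exact (D.card_K_stab_smul g B x).symm

lemma K_ne_bot_const {B : X} (h : D.K B ≠ ⊥) (B' : X) : D.K B' ≠ ⊥ := by
  obtain ⟨x, hx⟩ := D.exists_ne B
  obtain ⟨x', hx'⟩ := D.exists_ne B'
  obtain ⟨g, rfl, -⟩ := D.transX B x B' x' (Ne.symm hx) (Ne.symm hx')
  obtain ⟨k, hk, hk1⟩ := (Subgroup.ne_bot_iff_exists_ne_one.1 h) |> fun ⟨a, ha⟩ =>
    (⟨a.1, a.2, fun e => ha (Subtype.ext e)⟩ : ∃ k, k ∈ D.K B ∧ k ≠ 1)
  intro hb
  have := D.conj_mem_K (g := g) hk
  rw [hb, Subgroup.mem_bot, mul_inv_eq_one, mul_eq_left] at this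
  exact hk1 this

/-- central collineations with two centres -/
lemma eq_one_of_two_centres (hm2 : 2 ≤ D.m) {B P : X} (hBP : B ≠ P) {g : G} (hB : g ∈ D.K B)
    (hP : g ∈ D.K P) : g = 1 := by
  classical
  have hout : ∀ x, x ∉ D.line B P → g • x = x := by
    intro x hx
    by_contra hne
    have hxB : x ≠ B := fun e => hx (e ▸ D.left_mem_line B P)
    have hxP : x ≠ P := fun e => hx (e ▸ D.right_mem_line B P)
    have e1 := D.line_eq (Ne.symm hxB) (D.right_mem_line B x) (D.smul_mem_centre_line hB)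
      (Ne.symm hne)
    have e2 := D.line_eq (Ne.symm hxP) (D.right_mem_line P x) (D.smul_mem_centre_line hP)
      (Ne.symm hne)
    apply hx
    have hP' : P ∈ D.line B x := by rw [← e1, e2]; exact D.left_mem_line P x
    rw [D.line_eq (Ne.symm hxB) (D.left_mem_line B x) hP' hBP]
    exact D.right_mem_line B x
  refine D.faithX g fun x => ?_
  by_cases hx : x ∈ D.line B P
  swap
  · exact hout x hx
  obtain ⟨z, hz⟩ := D.exists_notMem_line B P hBP
  have hzx : z ≠ x := fun e => hz (e ▸ hx)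
  obtain ⟨z', hz', hz'n⟩ : ∃ w ∈ D.line z x, w ∉ ({z, x} : Finset X) :=
    Finset.exists_mem_notMem_of_card_lt_card (by
      rw [D.card_line hzx, Finset.card_pair hzx]; omega)
  simp only [Finset.mem_insert, Finset.mem_singleton, not_or] at hz'n
  have hz'l : z' ∉ D.line B P := by
    intro h
    apply hz
    rw [← D.line_eq hBP h hx hz'n.2, D.line_eq hzx hz' (D.right_mem_line z x) hz'n.2]
    exact D.left_mem_line z x
  have h1 : g • x ∈ D.line z x := by
    have := (D.smul_mem_line (g := g) (x := z) (y := z') (z := x)).2 (by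
      rw [D.line_eq hzx (D.left_mem_line z x) hz' (Ne.symm hz'n.1)]; exact D.right_mem_line z x)
    rwa [hout z hz, hout z' hz'l,
      D.line_eq hzx (D.left_mem_line z x) hz' (Ne.symm hz'n.1)] at this
  have h2 : g • x ∈ D.line B P := D.smul_mem_centre_line' hB hx
  by_contra hne
  apply hz
  rw [← D.line_eq hBP hx h2 (Ne.symm hne),
    D.line_eq hzx (D.right_mem_line z x) h1 (Ne.symm hne)]
  exact D.left_mem_line z x

lemma commute_of_centres (hm2 : 2 ≤ D.m) {B P : X} (hBP : B ≠ P) {u a : G} (hu : u ∈ D.K P)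
    (huB : u • B = B) (ha : a ∈ D.K B) (haP : a • P = P) : u * a = a * u := by
  have h1 : u * a * u⁻¹ * a⁻¹ ∈ D.K B := by
    refine mul_mem ?_ (inv_mem ha)
    have := D.conj_mem_K (g := u) ha
    rwa [huB] at this
  have h2 : u * a * u⁻¹ * a⁻¹ ∈ D.K P := by
    have := D.conj_mem_K (g := a) (inv_mem hu)
    rw [haP] at this
    have h3 := mul_mem hu this
    rwa [show u * a * u⁻¹ * a⁻¹ = u * (a * u⁻¹ * a⁻¹) by group]
  have := D.eq_one_of_two_centres hm2 hBP h1 h2
  rwa [mul_inv_eq_one, mul_inv_eq_iff_eq_mul] at this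

/-- an element of `K B` fixing two points of a line off `B` fixes the line pointwise -/
lemma fixed_line {B P Q R : X} {a : G} (ha : a ∈ D.K B) (hPQ : P ≠ Q) (hB : B ∉ D.line P Q)
    (hP : a • P = P) (hQ : a • Q = Q) (hR : R ∈ D.line P Q) : a • R = R := by
  have h1 := (D.smul_mem_line (g := a)).2 hR
  rw [hP, hQ] at h1
  by_contra hne
  have hBR : B ≠ R := fun e => hB (e ▸ hR)
  apply hB
  rw [← D.line_eq hPQ hR h1 (Ne.symm hne),
    D.line_eq hBR (D.right_mem_line B R) (D.smul_mem_centre_line ha) (Ne.symm hne)]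
  exact D.left_mem_line B R

/-- `κ(c; x, y)` -/
noncomputable def kap (c x y : X) : ℕ :=
  Nat.card ↥(D.K c ⊓ stabilizer G x ⊓ stabilizer G y)

lemma kap_comm (c x y : X) : D.kap c x y = D.kap c y x := by
  rw [kap, kap, inf_right_comm]

lemma kap_dvd (hm2 : 2 ≤ D.m) {B P Q : X} (hBP : B ≠ P) (hBQ : B ≠ Q) (hPQ : P ≠ Q) :
    D.kap P B Q ∣ D.kap B P Q := by
  classical
  rw [Nat.dvd_iff_prime_pow_dvd_dvd]
  intro r e hr hdvd
  haveI := Fact.mk hr
  set U : Subgroup G := D.K P ⊓ stabilizer G B ⊓ stabilizer G Q with hU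
  set A : Subgroup G := D.K B ⊓ stabilizer G Q with hA
  set Yg : Subgroup G := D.K B ⊓ stabilizer G P ⊓ stabilizer G Q with hY
  obtain ⟨R, hR⟩ := Sylow.exists_subgroup_card_pow_prime r (G := U) hdvd
  have hRp : IsPGroup r R := IsPGroup.of_card hR
  have hmem : ∀ u : R, (u.1.1 ∈ D.K P ∧ u.1.1 • B = B) ∧ u.1.1 • Q = Q := fun u =>
    ⟨⟨u.1.2.1.1, u.1.2.1.2⟩, u.1.2.2⟩
  -- orbit of `P`
  have hAY : Nat.card ↥(A ⊓ stabilizer G P) = Nat.card Yg := by
    rw [hA, hY, inf_right_comm]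
  have hOY := card_orbit_mul A P
  rw [hAY] at hOY
  by_cases hdO : r ∣ Nat.card (orbit A P)
  swap
  · have hq : r ^ e ∣ Nat.card A := by
      rw [hA, D.card_K_stab_const hBQ (Ne.symm hBP)]
      exact hdvd.trans (Subgroup.card_dvd_of_le (le_trans inf_le_left le_rfl))
    rw [← hOY] at hq
    exact ((Nat.Coprime.pow_left e ((Nat.Prime.coprime_iff_not_dvd hr).2 hdO)).dvd_of_dvd_mul_left
      hq)
  have hconj : ∀ (u : R) (a : G), a ∈ A → u.1.1 * a * u.1.1⁻¹ ∈ A := fun u a ha => by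
    refine ⟨?_, ?_⟩
    · have := D.conj_mem_K (g := u.1.1) ha.1
      rwa [(hmem u).1.2] at this
    · refine mem_stabilizer_iff.2 ?_
      rw [mul_smul, mul_smul, inv_smul_eq_iff.2 (hmem u).2.symm, mem_stabilizer_iff.1 ha.2,
        (hmem u).2]
  have hstab : ∀ (u : R) (p : X), p ∈ orbit A P → u.1.1 • p ∈ orbit A P := by
    rintro u p ⟨a, rfl⟩
    refine ⟨⟨u.1.1 * a.1 * u.1.1⁻¹, hconj u a.1 a.2⟩, ?_⟩
    show (u.1.1 * a.1 * u.1.1⁻¹) • P = u.1.1 • a.1 • P
    rw [mul_smul, mul_smul, inv_smul_eq_iff.2 (hmem u).1.1.1.symm]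
  letI actO : MulAction R (orbit A P) :=
    { smul := fun u p => ⟨u.1.1 • p.1, hstab u p.1 p.2⟩
      one_smul := fun p => Subtype.ext (one_smul G p.1)
      mul_smul := fun u w p => Subtype.ext (mul_smul u.1.1 w.1.1 p.1) }
  have hPfix : (⟨P, mem_orbit_self P⟩ : orbit A P) ∈ fixedPoints R (orbit A P) := fun u =>
    Subtype.ext (hmem u).1.1.1
  obtain ⟨⟨P', ⟨⟨y, hyA⟩, hyP⟩⟩, hP'fix, hP'ne⟩ :=
    hRp.exists_fixed_point_of_prime_dvd_card_of_fixed_point _ hdO hPfix
  have hyP' : y • P = P' := hyP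
  have hPP' : P ≠ P' := fun e => hP'ne (Subtype.ext e)
  have hu' : ∀ u : R, u.1.1 • P' = P' := fun u => congrArg Subtype.val (hP'fix u)
  have hcY : ∀ u : R, y⁻¹ * (u.1.1 * y * u.1.1⁻¹) ∈ Yg := by
    intro u
    have h1 : y⁻¹ * (u.1.1 * y * u.1.1⁻¹) ∈ A := mul_mem (inv_mem hyA) (hconj u y hyA)
    refine ⟨⟨h1.1, ?_⟩, h1.2⟩
    refine mem_stabilizer_iff.2 ?_
    rw [mul_smul, mul_smul, mul_smul,
      inv_smul_eq_iff.2 (hmem u).1.1.1.symm, hyP', hu', ← hyP', inv_smul_smul]
  have hcomm : ∀ (u : R) (z : G), z ∈ Yg → u.1.1 * z = z * u.1.1 := fun u z hz =>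
    D.commute_of_centres hm2 hBP (hmem u).1.1 (hmem u).1.2 hz.1.1 hz.1.2
  let f : R →* Yg :=
    { toFun := fun u => ⟨_, hcY u⟩
      map_one' := Subtype.ext (by simp)
      map_mul' := fun u w => Subtype.ext (by
        show y⁻¹ * ((u.1.1 * w.1.1) * y * (u.1.1 * w.1.1)⁻¹) =
          y⁻¹ * (u.1.1 * y * u.1.1⁻¹) * (y⁻¹ * (w.1.1 * y * w.1.1⁻¹))
        conv_rhs => rw [← mul_inv_cancel_right (y⁻¹ * (w.1.1 * y * w.1.1⁻¹)) u.1.1,
          ← hcomm u _ (hcY w)]
        group) }
  have hf : Function.Injective f := by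
    rw [← MonoidHom.ker_eq_bot_iff, Subgroup.eq_bot_iff_forall]
    intro u hu
    have h1 : y⁻¹ * (u.1.1 * y * u.1.1⁻¹) = 1 := congrArg Subtype.val hu
    rw [inv_mul_eq_one, eq_comm, mul_inv_eq_iff_eq_mul] at h1
    have h2 : u.1.1 ∈ D.K P' := by
      have h3 := D.conj_mem_K (g := y) (hmem u).1.1
      rwa [hyP', ← h1, mul_inv_cancel_right] at h3
    exact Subtype.ext (Subtype.ext (D.eq_one_of_two_centres hm2 hPP' (hmem u).1.1 h2))
  have := Subgroup.card_dvd_of_injective f hf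
  rw [hR] at this
  exact this

lemma kap_symm (hm2 : 2 ≤ D.m) {B P Q : X} (hBP : B ≠ P) (hBQ : B ≠ Q) (hPQ : P ≠ Q) :
    D.kap P B Q = D.kap B P Q :=
  Nat.dvd_antisymm (D.kap_dvd hm2 hBP hBQ hPQ) (D.kap_dvd hm2 (Ne.symm hBP) hPQ hBQ)

end Design

end Cfsg.Lib.ItoDesign
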