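import Cfsg.Agent.ItoDesign.Plane
import Cfsg.Agent.Classical.SL

/-!
# The group generated by the elations is the projective special linear group
-/

set_option autoImplicit false
set_option linter.style.haveILetI false
set_option linter.unusedSectionVars false
set_option linter.unusedVariables false

open MulAction

namespace Cfsg.Lib.ItoDesign

universe u v w

variable {G : Type u} {X : Type v} {Y : Type w} [Group G] [MulAction G X] [MulAction G Y]
  [Fintype X] [Fintype Y] [Fintype G]

namespace Design

variable (D : Design G X Y) (hK : ∀ B : X, D.K B ≠ ⊥)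

include hK in
/-- line preserving maps with a common axis, centre and one common value are equal -/
lemma persp_unique {S : Y} {C x₀ : X} (hC : D.inc C S) (hx₀ : ¬ D.inc x₀ S) {α β : X → X}
    (hαi : Function.Injective α) (hβi : Function.Injective β)
    (hα : ∀ x y z, x ≠ y → z ∈ D.line x y → α z ∈ D.line (α x) (α y))
    (hβ : ∀ x y z, x ≠ y → z ∈ D.line x y → β z ∈ D.line (β x) (β y))
    (hαS : ∀ x, D.inc x S → α x = x) (hβS : ∀ x, D.inc x S → β x = x)
    (hαC : ∀ x, α x ∈ D.line C x) (hβC : ∀ x, β x ∈ D.line C x) (h0 : α x₀ = β x₀) : α = β := by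
  classical
  have step : ∀ a, ¬ D.inc a S → α a = β a → ∀ x, x ∉ D.line C a → α x = β x := by
    intro a ha he x hx
    by_cases hxS : D.inc x S
    · rw [hαS x hxS, hβS x hxS]
    have hax : a ≠ x := fun e => hx (e ▸ D.right_mem_line C a)
    have hCx : C ≠ x := fun e => hxS (e ▸ hC)
    have hCa : C ≠ a := fun e => ha (e ▸ hC)
    obtain ⟨z, hz, hzS⟩ := D.exists_mem hK a x hax S
    have hza : z ≠ a := fun e => ha (e ▸ hzS)
    have hxl : x ∈ D.line a z := by
      rw [D.line_eq_of_mem hax hz hza]; exact D.right_mem_line a x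
    have h1 : α x ∈ D.line (α a) z := by
      have := hα a z x (Ne.symm hza) hxl
      rwa [hαS z hzS] at this
    have h2 : β x ∈ D.line (α a) z := by
      have := hβ a z x (Ne.symm hza) hxl
      rwa [hβS z hzS, ← he] at this
    have haz : α a ≠ z := fun e => hza (hαi ((hαS z hzS).trans e.symm))
    have haC : α a ≠ C := fun e => hCa (hαi ((hαS C hC).trans e.symm))
    by_contra hne
    apply hx
    have e1 : D.line C x = D.line (α a) z := by
      rw [← D.line_eq hCx (hαC x) (hβC x) hne, D.line_eq haz h1 h2 hne]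
    have e2 : D.line C a = D.line C x := by
      rw [← D.line_eq hCa (D.left_mem_line C a) (hαC a) (Ne.symm haC)]
      exact D.line_eq hCx (D.left_mem_line C x) (e1 ▸ D.left_mem_line (α a) z) (Ne.symm haC)
    rw [e2]
    exact D.right_mem_line C x
  funext x
  by_cases hx : x ∈ D.line C x₀
  swap
  · exact step x₀ hx₀ h0 x hx
  by_cases hxS : D.inc x S
  · rw [hαS x hxS, hβS x hxS]
  have hCx₀ : C ≠ x₀ := fun e => hx₀ (e ▸ hC)
  obtain ⟨w, -, hw⟩ : ∃ w ∈ (Finset.univ : Finset X), w ∉ D.pts S ∪ D.line C x₀ := by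
    refine Finset.exists_mem_notMem_of_card_lt_card ?_
    refine (Finset.card_union_le _ _).trans_lt ?_
    rw [D.card_pts, D.card_line hCx₀, Finset.card_univ]
    have hn := D.n_eq hK
    rw [n] at hn
    obtain ⟨a, ha⟩ : ∃ a, D.k = a + 3 := ⟨D.k - 3, by have := D.three_le_k hK; omega⟩
    obtain ⟨b, hb⟩ : ∃ b, D.m = b + 2 := ⟨D.m - 2, by have := D.two_le_m' hK; omega⟩
    rw [hn, ha, hb]
    nlinarith
  simp only [Finset.mem_union, mem_pts, not_or] at hw
  have hCx : C ≠ x := fun e => hxS (e ▸ hC)
  have hCw : C ≠ w := fun e => hw.1 (e ▸ hC)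
  refine step w hw.1 (step x₀ hx₀ h0 w hw.2) x fun h => hw.2 ?_
  rw [← D.line_eq_of_mem hCx₀ hx (Ne.symm hCx), D.line_eq_of_mem hCw h (Ne.symm hCx)]
  exact D.right_mem_line C w

end Design

section proj

variable {F : Type} [Field F] {N : ℕ}

local notation "Vec" => Fin N → F

lemma submodule_smul (σ : Matrix.SpecialLinearGroup (Fin N) F) (p : Projectivization F Vec) :
    (σ • p).submodule = p.submodule.map (Matrix.toLin' σ.1) := by
  induction p using Projectivization.ind with
  | h v hv =>
    rw [Projectivization.smul_mk, Projectivization.submodule_mk, Projectivization.submodule_mk,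
      Submodule.map_span, Set.image_singleton]
    rfl

lemma exists_sl_transvection (f : Module.Dual F Vec) (v : Vec) (h : f v = 0) :
    ∃ σ : Matrix.SpecialLinearGroup (Fin N) F, ∀ x, Matrix.toLin' σ.1 x = x + f x • v := by
  refine ⟨⟨LinearMap.toMatrix' (LinearEquiv.transvection h).toLinearMap, ?_⟩, fun x => ?_⟩
  · rw [LinearMap.det_toMatrix']
    have := congrArg Units.val (LinearEquiv.transvection.det_eq_one h)
    rwa [LinearEquiv.coe_det, Units.val_one] at this
  · show Matrix.toLin' (LinearMap.toMatrix' (LinearEquiv.transvection h).toLinearMap) x = _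
    rw [Matrix.toLin'_toMatrix']
    exact LinearEquiv.transvection.apply h x

end proj

namespace Design

variable (D : Design G X Y) (hK : ∀ B : X, D.K B ≠ ⊥)

include hK in
/-- recognition of the projective special linear group -/
theorem exists_psl :
    ∃ (M : ℕ) (F : Type) (_ : Field F) (_ : Fintype F), 2 ≤ M ∧
      Fintype.card X = (Fintype.card F ^ (M + 1) - 1) / (Fintype.card F - 1) ∧
      ∃ N : Subgroup G, N.Normal ∧
        Nonempty (N ≃* Matrix.ProjectiveSpecialLinearGroup (Fin (M + 1)) F) ∧
        Subgroup.centralizer (N : Set G) = ⊥ := by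
  classical
  obtain ⟨F, fF, fFin, M, ψ, hM, hline⟩ := D.coordinatised hK
  let V := Fin (M + 1) → F
  -- vectors
  set r : X → V := fun x => (ψ x).rep with hr
  have hr0 : ∀ x, r x ≠ 0 := fun x => (ψ x).rep_nonzero
  have hrs : ∀ x, (ψ x).submodule = Submodule.span F {r x} := fun x => (ψ x).submodule_eq
  have hlv : ∀ x y z, x ≠ y → (z ∈ D.line x y ↔ ∃ a b : F, a • r x + b • r y = r z) := by
    intro x y z hxy
    rw [hline x y z hxy, hrs, hrs, hrs, ← Submodule.span_insert,
      Submodule.span_singleton_le_iff_mem, Submodule.mem_span_pair]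
  have hrinj : ∀ x y (a : F), a • r y = r x → x = y := by
    intro x y a h
    apply ψ.injective
    have ha : a ≠ 0 := fun h0 => hr0 x (by rw [← h, h0, zero_smul])
    rw [← (ψ x).mk_rep, ← (ψ y).mk_rep, Projectivization.mk_eq_mk_iff']
    exact ⟨a, h⟩
  have hrsurj : ∀ v : V, v ≠ 0 → ∃ x, ∃ a : F, a • r x = v := by
    intro v hv
    refine ⟨ψ.symm (Projectivization.mk F v hv), ?_⟩
    have := (Projectivization.mk F v hv).mk_rep
    rw [Projectivization.mk_eq_mk_iff'] at this
    obtain ⟨a, ha⟩ := this
    have ha0 : a ≠ 0 := fun h0 => (Projectivization.mk F v hv).rep_nonzero (by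
      rw [← ha, h0, zero_smul])
    refine ⟨a⁻¹, ?_⟩
    show a⁻¹ • (ψ (ψ.symm _)).rep = v
    rw [Equiv.apply_symm_apply, ← ha, inv_smul_smul₀ ha0]
  -- the two representations
  let SLn := Matrix.SpecialLinearGroup (Fin (M + 1)) F
  let π : SLn →* Equiv.Perm X :=
    ψ.symm.permCongrHom.toMonoidHom.comp
      (MulAction.toPermHom SLn (Projectivization F V))
  have hπ : ∀ (σ : SLn) (x : X), π σ x = ψ.symm (σ • ψ x) := fun σ x => rfl
  let ι : G →* Equiv.Perm X := MulAction.toPermHom G X
  have hι : Function.Injective ι := by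
    rw [injective_iff_map_eq_one]
    exact fun g hg => D.faithX g fun x => congrFun (congrArg DFunLike.coe hg) x
  have hπline : ∀ (σ : SLn) x y z, x ≠ y → z ∈ D.line x y → π σ z ∈ D.line (π σ x) (π σ y) := by
    intro σ x y z hxy hz
    rw [hline _ _ _ (fun e => hxy ((π σ).injective e))]
    rw [hline x y z hxy] at hz
    rw [hπ, hπ, hπ, Equiv.apply_symm_apply, Equiv.apply_symm_apply, Equiv.apply_symm_apply,
      submodule_smul, submodule_smul, submodule_smul, ← Submodule.map_sup]
    exact Submodule.map_mono hz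
  have hπr : ∀ (σ : SLn) x, ∃ a : F, a ≠ 0 ∧ a • r (π σ x) = Matrix.toLin' σ.1 (r x) := by
    intro σ x
    have e : (ψ (π σ x)).submodule = (ψ x).submodule.map (Matrix.toLin' σ.1) := by
      rw [hπ, Equiv.apply_symm_apply, submodule_smul]
    rw [hrs, hrs, Submodule.map_span, Set.image_singleton] at e
    obtain ⟨a, ha⟩ := Submodule.mem_span_singleton.1
      (e.ge (Submodule.mem_span_singleton_self _))
    refine ⟨a, fun h0 => ?_, ha⟩
    rw [h0, zero_smul, eq_comm] at ha
    rw [ha, Submodule.span_singleton_eq_bot.2 rfl] at e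
    exact hr0 _ (Submodule.span_singleton_eq_bot.1 e)
  have hgline : ∀ (g : G) x y z, x ≠ y → z ∈ D.line x y → g • z ∈ D.line (g • x) (g • y) :=
    fun g x y z _ hz => D.smul_mem_line.2 hz
  -- a transvection of `V` is an elation
  have tv_el : ∀ (σ : SLn) (f : Module.Dual F V) (v : V), f ≠ 0 → v ≠ 0 → f v = 0 →
      (∀ x, Matrix.toLin' σ.1 x = x + f x • v) → ∃ S, ∃ h ∈ D.T hK S, ι h = π σ := by
    intro σ f v hf hv hfv hσ
    set Φ : Finset X := Finset.univ.filter (fun x => f (r x) = 0) with hΦ
    have hmem : ∀ {x : X}, x ∈ Φ ↔ f (r x) = 0 := by simp [hΦ]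
    have hcl : ∀ a ∈ Φ, ∀ b ∈ Φ, a ≠ b → D.line a b ⊆ Φ := fun a ha b hb hab z hz => by
      obtain ⟨c, d, e⟩ := (hlv a b z hab).1 hz
      rw [hmem, ← e, map_add, map_smul, map_smul, hmem.1 ha, hmem.1 hb, smul_zero, smul_zero,
        add_zero]
    obtain ⟨p, hp⟩ : ∃ x, x ∉ Φ := by
      by_contra hc
      push Not at hc
      refine hf (LinearMap.ext fun u => ?_)
      by_cases hu : u = 0
      · simp [hu]
      obtain ⟨x, a, rfl⟩ := hrsurj u hu
      rw [map_smul, hmem.1 (hc x), smul_zero]; rfl
    have hcard : Φ.card = D.k := by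
      have hpw : ∀ w ∈ Φ, p ≠ w := fun w hw e => hp (e ▸ hw)
      have hU : Φ.biUnion (fun w => (D.line p w).erase p) = Finset.univ.erase p := by
        ext y
        simp only [Finset.mem_biUnion, Finset.mem_erase, Finset.mem_univ, and_true]
        refine ⟨fun ⟨w, _, hy, _⟩ => hy, fun hy => ?_⟩
        have hne : f (r y) • r p - f (r p) • r y ≠ 0 := by
          intro h0
          apply hy
          refine hrinj y p (f (r y) / f (r p)) ?_
          rw [div_eq_inv_mul, ← smul_smul, sub_eq_zero.1 h0, inv_smul_smul₀]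
          exact fun h => hp (hmem.2 h)
        obtain ⟨w, a, hw⟩ := hrsurj _ hne
        have ha : a ≠ 0 := fun h0 => hne (by rw [← hw, h0, zero_smul])
        have hwΦ : w ∈ Φ := hmem.2 (by
          have := congrArg f hw
          rw [map_smul, map_sub, map_smul, map_smul, smul_eq_mul, smul_eq_mul, smul_eq_mul,
            mul_comm (f (r y)), sub_self, mul_eq_zero] at this
          exact this.resolve_left ha)
        refine ⟨w, hwΦ, hy, ?_⟩
        have hw' : w ∈ D.line p y := (hlv p y w (Ne.symm hy)).2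
          ⟨a⁻¹ * f (r y), -(a⁻¹ * f (r p)), by
            rw [← smul_smul, neg_smul, ← smul_smul, ← sub_eq_add_neg, ← smul_sub, ← hw,
              inv_smul_smul₀ ha]⟩
        rw [D.line_eq_of_mem (Ne.symm hy) hw' (Ne.symm (hpw w hwΦ))]
        exact D.right_mem_line p y
      have hc := congrArg Finset.card hU
      rw [Finset.card_biUnion, Finset.sum_congr rfl (g := fun _ => D.m) (fun w hw => by
        rw [Finset.card_erase_of_mem (D.left_mem_line p w), D.card_line (hpw w hw),
          Nat.add_sub_cancel]), Finset.sum_const, smul_eq_mul,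
        Finset.card_erase_of_mem (Finset.mem_univ p), Finset.card_univ] at hc
      · have hn := D.n_eq hK
        rw [n] at hn
        rw [hn, Nat.add_sub_cancel] at hc
        exact Nat.eq_of_mul_eq_mul_right (show 0 < D.m by have := D.two_le_m' hK; omega) hc
      · intro a ha b hb hab
        rw [Function.onFun, Finset.disjoint_left]
        intro q hqa hqb
        simp only [Finset.mem_erase] at hqa hqb
        apply hp
        have e : D.line p a = D.line p b := by
          rw [← D.line_eq_of_mem (hpw a ha) hqa.2 hqa.1, D.line_eq_of_mem (hpw b hb) hqb.2 hqb.1]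
        apply hcl a ha b hb hab
        rw [D.line_eq (hpw a ha) (D.right_mem_line p a) (e ▸ D.right_mem_line p b) hab]
        exact D.left_mem_line p a
    obtain ⟨S, hS⟩ := D.eq_pts_of_closed hK hcl hcard
    have hSf : ∀ x, D.inc x S ↔ f (r x) = 0 := fun x => by rw [← hmem, ← hS, D.mem_pts]
    obtain ⟨C, c, hC⟩ := hrsurj v hv
    have hc0 : c ≠ 0 := fun h0 => hv (by rw [← hC, h0, zero_smul])
    have hCS : D.inc C S := (hSf C).2 (by
      have := congrArg f hC
      rw [map_smul, hfv, smul_eq_zero] at this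
      exact this.resolve_left hc0)
    have hfix : ∀ x, D.inc x S → π σ x = x := fun x hx => by
      obtain ⟨a, ha, e⟩ := hπr σ x
      rw [hσ, (hSf x).1 hx, zero_smul, add_zero] at e
      exact (hrinj _ _ a e).symm
    have hcen : ∀ x, π σ x ∈ D.line C x := fun x => by
      by_cases hxC : C = x
      · subst hxC; rw [hfix C hCS]; exact D.left_mem_line C C
      obtain ⟨a, ha, e⟩ := hπr σ x
      rw [hlv C x _ hxC]
      refine ⟨a⁻¹ * (f (r x) * c), a⁻¹, ?_⟩
      rw [← smul_smul, ← smul_add, ← smul_smul, hC, add_comm (f (r x) • v), ← hσ, ← e,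
        inv_smul_smul₀ ha]
    obtain ⟨x₀, hx₀⟩ := D.dual.exists_not_inc_of S
    have hx₀' : ¬ D.inc (π σ x₀) S := fun h => hx₀ (by
      have := (π σ).injective (hfix _ h)
      rwa [this] at h)
    obtain ⟨h, hh, hhx⟩ := D.exists_T hK hx₀ hx₀'
    have hhC : h ∈ D.K C := D.mem_K_of_move hK hh hx₀ hCS (by rw [hhx]; exact hcen x₀)
    refine ⟨S, h, hh, Equiv.ext fun x => ?_⟩
    exact congrFun (D.persp_unique hK hCS hx₀ (α := fun x => h • x) (β := fun x => π σ x)
      (MulAction.injective h) (π σ).injective (hgline h) (hπline σ)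
      (fun x hx => D.smul_eq_of_T hK hh hx) hfix (fun x => D.smul_mem_centre_line hhC) hcen hhx) x
  -- an elation is a transvection of `V`
  have el_tv : ∀ S, ∀ h ∈ D.T hK S, ι h ∈ π.range := by
    intro S h hh
    by_cases h1 : h = 1
    · rw [h1, map_one]; exact one_mem _
    obtain ⟨C, hhC⟩ := D.exists_centre hK hh.1 h1
    have hCS := D.centre_inc hK hh h1 hhC
    obtain ⟨x₀, hx₀⟩ := D.dual.exists_not_inc_of S
    let W : Submodule F V :=
      { carrier := {u | ∀ x, ∀ a : F, a ≠ 0 → a • r x = u → D.inc x S}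
        zero_mem' := fun x a ha e => absurd e (smul_ne_zero ha (hr0 x))
        add_mem' := by
          intro u u' hu hu' x a ha e
          by_cases hu0 : u = 0
          · exact hu' x a ha (by rw [e, hu0, zero_add])
          by_cases hu0' : u' = 0
          · exact hu x a ha (by rw [e, hu0', add_zero])
          obtain ⟨y, b, rfl⟩ := hrsurj u hu0
          obtain ⟨y', b', rfl⟩ := hrsurj u' hu0'
          have hy : D.inc y S := hu y b (fun h0 => hu0 (by rw [h0, zero_smul])) rfl
          have hy' : D.inc y' S := hu' y' b' (fun h0 => hu0' (by rw [h0, zero_smul])) rfl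
          by_cases hyy : y = y'
          · subst hyy
            rw [← add_smul] at e
            have : x = y := hrinj x y (a⁻¹ * (b + b')) (by
              rw [← smul_smul, ← e, inv_smul_smul₀ ha])
            rwa [this]
          refine D.mem_pts.1 (D.line_subset_pts hy hy' ((hlv y y' x hyy).2 ⟨a⁻¹ * b, a⁻¹ * b', ?_⟩))
          rw [← smul_smul, ← smul_smul, ← smul_add, ← e, inv_smul_smul₀ ha]
        smul_mem' := by
          intro c u hu x a ha e
          by_cases hc : c = 0
          · rw [hc, zero_smul] at e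
            exact absurd e (smul_ne_zero ha (hr0 x))
          refine hu x (c⁻¹ * a) (mul_ne_zero (inv_ne_zero hc) ha) ?_
          rw [← smul_smul, e, inv_smul_smul₀ hc] }
    have hW : ∀ x, r x ∈ W ↔ D.inc x S := fun x =>
      ⟨fun h' => h' x 1 one_ne_zero (one_smul F _), fun h' y a ha e => by
        rw [hrinj x y a e] at h'; exact h'⟩
    have hWtop : W < ⊤ := lt_top_iff_ne_top.2 fun e => hx₀ ((hW x₀).1 (e ▸ Submodule.mem_top))
    obtain ⟨f, hf0, hfW⟩ := W.exists_le_ker_of_lt_top hWtop
    have hfx₀ : f (r x₀) ≠ 0 := by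
      intro h0
      refine hf0 (LinearMap.ext fun u => ?_)
      by_cases hu : u = 0
      · simp [hu]
      obtain ⟨y, a, rfl⟩ := hrsurj u hu
      rw [map_smul, LinearMap.zero_apply]
      by_cases hy : y = x₀
      · rw [hy, h0, smul_zero]
      obtain ⟨z, hz, hzS⟩ := D.exists_mem hK y x₀ hy S
      obtain ⟨b, c, e⟩ := (hlv y x₀ z hy).1 hz
      have hz0 : f (r z) = 0 := hfW ((hW z).2 hzS)
      rw [← e, map_add, map_smul, map_smul, h0, smul_zero, add_zero, smul_eq_zero] at hz0
      rcases hz0 with hb | hy0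
      · exfalso
        rw [hb, zero_smul, zero_add] at e
        exact hx₀ (hrinj z x₀ c e ▸ hzS)
      · rw [hy0, smul_zero]
    have hCx₀ : C ≠ x₀ := fun e => hx₀ (e ▸ hCS)
    obtain ⟨b, a, hab⟩ := (hlv C x₀ (h • x₀) hCx₀).1 (D.smul_mem_centre_line hhC)
    have ha : a ≠ 0 := by
      intro h0
      rw [h0, zero_smul, add_zero] at hab
      exact hCx₀ (MulAction.injective h (hhC.1.trans (hrinj _ _ b hab).symm))
    set v : V := ((a * f (r x₀))⁻¹ * b) • r C with hv
    have hfv : f v = 0 := by
      rw [hv, map_smul, hfW ((hW C).2 hCS), smul_zero]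
    obtain ⟨σ, hσ⟩ := exists_sl_transvection f v hfv
    have hfix : ∀ x, D.inc x S → π σ x = x := fun x hx => by
      obtain ⟨c, hc, e⟩ := hπr σ x
      rw [hσ, hfW ((hW x).2 hx), zero_smul, add_zero] at e
      exact (hrinj _ _ c e).symm
    have hcen : ∀ x, π σ x ∈ D.line C x := fun x => by
      by_cases hxC : C = x
      · subst hxC; rw [hfix C hCS]; exact D.left_mem_line C C
      obtain ⟨c, hc, e⟩ := hπr σ x
      rw [hlv C x _ hxC]
      refine ⟨c⁻¹ * (f (r x) * ((a * f (r x₀))⁻¹ * b)), c⁻¹, ?_⟩
      rw [← smul_smul, ← smul_add, ← smul_smul _ (((a * f (r x₀))⁻¹ * b)), ← hv,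
        add_comm (f (r x) • v), ← hσ, ← e, inv_smul_smul₀ hc]
    have h0 : h • x₀ = π σ x₀ := by
      obtain ⟨c, hc, e⟩ := hπr σ x₀
      refine hrinj _ _ (a * c) ?_
      rw [← smul_smul, e, hσ, ← hab, smul_add, hv, smul_smul, smul_smul,
        add_comm (a • r x₀)]
      congr 2
      field_simp
    refine ⟨σ, Equiv.ext fun x => ?_⟩
    exact (congrFun (D.persp_unique hK hCS hx₀ (α := fun x => h • x) (β := fun x => π σ x)
      (MulAction.injective h) (π σ).injective (hgline h) (hπline σ)
      (fun x hx => D.smul_eq_of_T hK hh hx) hfix (fun x => D.smul_mem_centre_line hhC) hcen h0) x).symm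
  -- the subgroup generated by the elations
  set EL : Set G := {g | ∃ S, g ∈ D.T hK S} with hEL
  set N : Subgroup G := Subgroup.closure EL with hN
  have hnormal : N.Normal := by
    refine ⟨fun x hx g => ?_⟩
    have hle : N ≤ N.comap (MulAut.conj g).toMonoidHom := by
      rw [hN, Subgroup.closure_le]
      rintro y ⟨S, hy⟩
      exact Subgroup.subset_closure ⟨g • S, D.conj_mem_T hK hy⟩
    exact hle hx
  have hrange : N.map ι = π.range := by
    refine le_antisymm ?_ ?_
    · rw [hN, MonoidHom.map_closure, Subgroup.closure_le]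
      rintro _ ⟨y, ⟨S, hy⟩, rfl⟩
      exact el_tv S y hy
    · rw [MonoidHom.range_eq_map, Subgroup.map_le_iff_le_comap]
      refine le_of_eq (Cfsg.Lib.Classical.eq_top_of_transvection_mem _ fun i j hij c => ?_).symm
      rw [Subgroup.mem_comap]
      by_cases hc : c = 0
      · rw [hc, Matrix.SpecialLinearGroup.transvection_coeff_zero, map_one]
        exact one_mem _
      have key : ∀ x, Matrix.toLin' (Matrix.SpecialLinearGroup.transvection hij c).1 x =
          x + (LinearMap.proj j : Module.Dual F V) x • Pi.single i c := by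
        intro x
        show Matrix.toLin' (Matrix.transvection i j c) x = _
        rw [Matrix.transvection, map_add, Matrix.toLin'_one, LinearMap.add_apply, LinearMap.id_apply,
          Matrix.toLin'_apply]
        congr 1
        ext l
        simp [Matrix.mulVec, dotProduct, Matrix.single_apply, Pi.single_apply, ite_and, mul_comm,
          eq_comm]
      obtain ⟨S, h, hh, e⟩ := tv_el _ (LinearMap.proj j : Module.Dual F V) (Pi.single i c)
        (fun h0 => one_ne_zero (α := F) (by simpa using LinearMap.congr_fun h0 (Pi.single j 1)))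
        (fun h0 => hc (Pi.single_eq_zero_iff.1 h0))
        (by show (Pi.single i c : Fin (M + 1) → F) j = 0; rw [Pi.single_apply, if_neg hij.symm]) key
      exact ⟨h, Subgroup.subset_closure ⟨S, hh⟩, e⟩
  let π' : Matrix.ProjectiveSpecialLinearGroup (Fin (M + 1)) F →* Equiv.Perm X :=
    ψ.symm.permCongrHom.toMonoidHom.comp Projectivization.PSLAction.toPermHom
  have hπ'range : π'.range = π.range := by
    refine le_antisymm ?_ ?_
    · rintro _ ⟨y, rfl⟩
      induction y using QuotientGroup.induction_on with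
      | H σ => exact ⟨σ, rfl⟩
    · rintro _ ⟨σ, rfl⟩
      exact ⟨QuotientGroup.mk σ, rfl⟩
  have hπ'inj : Function.Injective π' :=
    ψ.symm.permCongrHom.injective.comp Matrix.ProjectiveSpecialLinearGroup.toPermHom_injective
  let eN : N ≃* Matrix.ProjectiveSpecialLinearGroup (Fin (M + 1)) F :=
    ((N.equivMapOfInjective ι hι).trans
      (MulEquiv.subgroupCongr (hrange.trans hπ'range.symm))).trans
      (MonoidHom.ofInjective hπ'inj).symm
  refine ⟨M, F, fF, fFin, hM, ?_, N, hnormal, ⟨eN⟩, ?_⟩
  · rw [← Nat.card_eq_fintype_card, Nat.card_congr ψ,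
      Projectivization.card_of_finrank F V (n := M + 1) (by rw [Module.finrank_fin_fun]),
      Nat.card_eq_fintype_card, Nat.geomSum_eq Fintype.one_lt_card]
  · rw [eq_bot_iff]
    intro c hc
    rw [Subgroup.mem_bot]
    refine D.faithX c fun x => ?_
    obtain ⟨O, S, hxS, hO⟩ : ∃ O S, D.inc x S ∧ ¬ D.inc O S := by
      obtain ⟨S, hS⟩ := D.exists_inc_of x
      obtain ⟨O, hO⟩ := D.dual.exists_not_inc_of S
      exact ⟨O, S, hS, hO⟩
    obtain ⟨h, hh, hh1⟩ := D.exists_cmpt_ne_one hK hO hxS
    have hcomm := hc h (Subgroup.subset_closure ⟨S, hh.1⟩)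
    have h2 : h ∈ D.K (c • x) := by
      have := D.conj_mem_K (g := c) hh.2
      rwa [← hcomm, mul_inv_cancel_right] at this
    by_contra hne
    exact hh1 (D.eq_one_of_two_centres (D.two_le_m' hK) (Ne.symm hne) hh.2 h2)

end Design

end Cfsg.Lib.ItoDesign
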