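import Cfsg.Agent.ItoDesign.Points
import Cfsg.Agent.OstromWagner.Final

/-!
# Coordinates for `lam = 1`: the theorem of Ostrom and Wagner
-/

set_option autoImplicit false
set_option linter.style.haveILetI false
set_option linter.unusedSectionVars false
set_option linter.unusedVariables false

open MulAction

namespace Cfsg.Lib.ItoDesign

universe u v w

variable {G : Type u} {X : Type v} {Y : Type w} [Group G] [MulAction G X] [MulAction G Y]
  [Fintype X] [Fintype Y] [Fintype G]

namespace Design

variable (D : Design G X Y) (hK : ∀ B : X, D.K B ≠ ⊥)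

/-- hyperplanes as lines of a configuration -/
@[reducible] def toMembership : Membership X Y := ⟨fun S x => D.inc x S⟩

include hK in
/-- coordinates for the points when `lam = 1` -/
theorem coordinatised_of_lam_one (hlam : D.lam = 1) : D.Coordinatised := by
  classical
  letI : Membership X Y := D.toMembership
  have hmem : ∀ (x : X) (S : Y), x ∈ S ↔ D.inc x S := fun _ _ => Iff.rfl
  have hpts : ∀ {x y : X} {S T : Y}, x ≠ y → D.inc x S → D.inc y S → D.inc x T → D.inc y T →
      S = T := by
    intro x y S T hxy a b c d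
    have := D.card_hys2 hxy
    rw [hlam] at this
    exact Finset.card_le_one.1 this.le S (D.mem_hys2.2 ⟨a, b⟩) T (D.mem_hys2.2 ⟨c, d⟩)
  have hlines : ∀ {x y : X}, x ≠ y → ∃ S, D.inc x S ∧ D.inc y S := fun {x y} h => by
    obtain ⟨S, hS⟩ := Finset.card_pos.1 (show 0 < (D.hys2 x y).card by
      rw [D.card_hys2 h, hlam]; exact one_pos)
    exact ⟨S, D.mem_hys2.1 hS⟩
  have hmeet : ∀ {S T : Y}, S ≠ T → ∃ x, D.inc x S ∧ D.inc x T := fun {S T} h => by
    obtain ⟨x, hx⟩ := Finset.card_pos.1 (show 0 < (D.pts S ∩ D.pts T).card by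
      rw [D.card_inter h, hlam]; exact one_pos)
    exact ⟨x, D.mem_pts.1 (Finset.mem_inter.1 hx).1, D.mem_pts.1 (Finset.mem_inter.1 hx).2⟩
  obtain ⟨x₀⟩ : Nonempty X := Fintype.card_pos_iff.1 (by have := D.k_add_two; omega)
  obtain ⟨l₂, hl₂⟩ := D.exists_inc_of x₀
  obtain ⟨p₂, hp₂, p₃, hp₃, h23⟩ := Finset.one_lt_card.1 (show 1 < (D.pts l₂).card by
    rw [D.card_pts]; exact D.two_le_k)
  obtain ⟨l₃, hl₃, hl23⟩ := Finset.exists_mem_notMem_of_card_lt_card (s := {l₂}) (t := D.hys p₂)
    (by rw [D.card_hys, Finset.card_singleton]; exact D.two_le_k)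
  rw [Finset.mem_singleton] at hl23
  rw [D.mem_pts] at hp₂ hp₃
  rw [D.mem_hys] at hl₃
  have h33 : ¬ D.inc p₃ l₃ := fun h => hl23 (hpts h23 hl₃ h hp₂ hp₃)
  have hbig : 2 * D.k < D.n := by
    rw [D.n_eq hK]
    have := Nat.mul_le_mul_left D.k (D.two_le_m' hK)
    omega
  obtain ⟨p₁, -, hp₁⟩ := Finset.exists_mem_notMem_of_card_lt_card (s := D.pts l₂ ∪ D.pts l₃)
    (t := (Finset.univ : Finset X)) (by
      refine (Finset.card_union_le _ _).trans_lt ?_
      rw [D.card_pts, D.card_pts, Finset.card_univ]
      rw [n] at hbig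
      omega)
  simp only [Finset.mem_union, mem_pts, not_or] at hp₁
  obtain ⟨l₁, -, hl₁⟩ := Finset.exists_mem_notMem_of_card_lt_card (s := D.hys p₂ ∪ D.hys p₃)
    (t := (Finset.univ : Finset Y)) (by
      refine (Finset.card_union_le _ _).trans_lt ?_
      rw [D.card_hys, D.card_hys, Finset.card_univ, D.card_eq]
      rw [n] at hbig
      omega)
  simp only [Finset.mem_union, mem_hys, not_or] at hl₁
  letI : Configuration.ProjectivePlane X Y :=
    { exists_point := fun l => D.dual.exists_not_inc_of l
      exists_line := fun p => D.exists_not_inc_of p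
      eq_or_eq := fun {p q l l'} a b c d => by
        by_cases h : p = q
        · exact Or.inl h
        · exact Or.inr (hpts h a b c d)
      mkPoint := fun {l l'} h => (hmeet h).choose
      mkPoint_ax := fun {l l'} h => (hmeet h).choose_spec
      mkLine := fun {p q} h => (hlines h).choose
      mkLine_ax := fun {p q} h => (hlines h).choose_spec
      exists_config := ⟨p₁, p₂, p₃, l₁, l₂, l₃, hp₁.1, hp₁.2, hl₁.1, hp₂, hl₃, hl₁.2, hp₃, h33⟩ }
  have ht : Cfsg.Lib.OW.TwoTrans X Y := by
    intro a b c d hab hcd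
    obtain ⟨g, hga, hgb⟩ := D.transX a b c d hab hcd
    exact ⟨⟨(MulAction.toPerm g, MulAction.toPerm g), fun p l => D.inc_smul g p l⟩, hga, hgb⟩
  obtain ⟨F, fF, fFin, φ, hW, -⟩ := Cfsg.Lib.OW.ostrom_wagner (P := X) (L := Y) ht
  refine ⟨F, fF, fFin, 2, φ, le_rfl, fun x y z hxy => ?_⟩
  obtain ⟨S, hxS, hyS⟩ := hlines hxy
  obtain ⟨W, hW2, hWmem⟩ := hW S
  have hl : D.line x y = D.pts S := by
    refine Finset.eq_of_subset_of_card_le (D.line_subset_pts hxS hyS) ?_
    have hF := D.full hK
    rw [Full, hlam, mul_one] at hF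
    rw [D.card_line hxy, D.card_pts, hF]
  have hsup : (φ x).submodule ⊔ (φ y).submodule = W := by
    refine Submodule.eq_of_le_of_finrank_le (sup_le ((hWmem x).1 hxS) ((hWmem y).1 hyS)) ?_
    rw [hW2]
    have hlt : (φ x).submodule < (φ x).submodule ⊔ (φ y).submodule := by
      refine lt_of_le_of_ne le_sup_left fun e => hxy (φ.injective ?_)
      refine Projectivization.submodule_injective ?_
      refine (Submodule.eq_of_le_of_finrank_le (le_sup_right.trans e.ge) ?_).symm
      rw [Projectivization.finrank_submodule, Projectivization.finrank_submodule]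
    have := Submodule.finrank_lt_finrank_of_lt hlt
    rw [Projectivization.finrank_submodule] at this
    exact this
  rw [hl, hsup, D.mem_pts]
  exact hWmem z

include hK in
/-- the points are those of a projective space -/
theorem coordinatised : D.Coordinatised := by
  rcases (D.one_le_lam).eq_or_lt with h | h
  · exact D.coordinatised_of_lam_one hK h.symm
  · exact D.coordinatised_of_two_le hK h

end Design

end Cfsg.Lib.ItoDesign
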