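import Cfsg.Agent.ItoDesign.Coord

/-!
# Coordinates of the points for `lam ≥ 2`
-/

set_option autoImplicit false
set_option linter.style.haveILetI false
set_option linter.unusedSectionVars false
set_option linter.unusedVariables false

open MulAction

namespace Cfsg.Lib.ItoDesign

universe u v w

variable {G : Type u} {X : Type v} {Y : Type w} [Group G] [MulAction G X] [MulAction G Y]
  [Fintype X] [Fintype Y] [Fintype G]

namespace Design

variable (D : Design G X Y) (hK : ∀ B : X, D.K B ≠ ⊥)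

open scoped Classical in
/-- a Veblen configuration gives a translation -/
lemma exists_join {S₀ : Y} {O x y z : X} (hO : ¬ D.inc O S₀) (hx : D.inc x S₀) (hy : D.inc y S₀)
    (hxy : x ≠ y) (hz : z ∈ D.line x y) (hzx : z ≠ x) (hzy : z ≠ y) {cx : G}
    (hcx : cx ∈ D.cmpt hK S₀ x) (hcx1 : cx ≠ 1) :
    ∃ cy ∈ D.cmpt hK S₀ y, cy * cx⁻¹ ∈ D.cmpt hK S₀ z ∧ cy * cx⁻¹ ≠ 1 := by
  have hzS : D.inc z S₀ := D.mem_pts.1 (D.line_subset_pts hx hy hz)
  have hOl : O ∉ D.line x y := fun h => hO (D.mem_pts.1 (D.line_subset_pts hx hy h))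
  set P := cx • O with hP
  have hPS : ¬ D.inc P S₀ := D.smul_not_inc hK hcx.1 hO
  have hzP : z ≠ P := fun e => hPS (e ▸ hzS)
  have hyO : y ≠ O := fun e => hO (e ▸ hy)
  have hxO : x ≠ O := fun e => hO (e ▸ hx)
  have hzp : z ∈ D.plane x y O := D.mem_plane.2 fun S a b _ => D.mem_line.1 hz S a b
  have hPp : P ∈ D.plane x y O := D.mem_plane.2 fun S a _ c => D.cmpt_smul_inc hK hcx c a
  obtain ⟨Q, hQ, hQ'⟩ := D.lines_meet hK hxy hOl hzP hzp hPp hyO
    (D.mem_plane.2 fun _ _ b _ => b) (D.mem_plane.2 fun _ _ _ c => c)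
  have hQy : Q ≠ y := by
    rintro rfl
    apply hPS
    have := D.line_subset_pts hzS hy
    rw [D.line_eq hzP (D.left_mem_line z P) hQ hzy] at this
    exact D.mem_pts.1 (this (D.right_mem_line z P))
  have hQS : ¬ D.inc Q S₀ := fun h => hO (by
    have := D.line_subset_pts hy h
    rw [D.line_eq hyO (D.left_mem_line y O) hQ' (Ne.symm hQy)] at this
    exact D.mem_pts.1 (this (D.right_mem_line y O)))
  obtain ⟨cy, hcy, hcyQ⟩ := D.exists_T hK hO hQS
  have hcyK : cy ∈ D.K y := D.mem_K_of_move hK hcy hO hy (by rw [hcyQ]; exact hQ')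
  have ht : cy * cx⁻¹ ∈ D.T hK S₀ := mul_mem hcy (inv_mem hcx.1)
  have htP : (cy * cx⁻¹) • P = Q := by rw [hP, mul_smul, inv_smul_smul, hcyQ]
  refine ⟨cy, ⟨hcy, hcyK⟩, ⟨ht, D.mem_K_of_move hK ht hPS hzS (by rw [htP]; exact hQ)⟩, fun e => ?_⟩
  rw [mul_inv_eq_one] at e
  exact hcx1 (D.eq_one_of_two_centres (D.two_le_m' hK) hxy hcx.2 (e ▸ hcyK))

include hK in
/-- coordinates for the points when `lam ≥ 2` -/
theorem coordinatised_of_two_le (hlam : 2 ≤ D.lam) : D.Coordinatised := by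
  classical
  obtain ⟨Φ⟩ := D.exists_frame hK hlam
  obtain ⟨F, fF, fFin, e, hadd, hmul, he1, he0⟩ := Φ.exists_field
  obtain ⟨M, φ, φadd, φinj, φsurj, φcp⟩ := Φ.exists_linear e hadd hmul
  have hq : Fintype.card F = D.m := by
    rw [← Nat.card_eq_fintype_card, Nat.card_congr e, D.card_cmpt hK Φ.hO Φ.hZ]
  have hφ1 : φ 1 = 0 := by
    have h := φadd 1 (one_mem _) 1 (one_mem _)
    rw [one_mul] at h
    exact left_eq_add.1 h
  have φinv : ∀ a ∈ D.T hK Φ.S₀, φ a⁻¹ = -φ a := fun a ha => by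
    have h := φadd a ha a⁻¹ (inv_mem ha)
    rw [mul_inv_cancel, hφ1] at h
    exact eq_neg_of_add_eq_zero_right h.symm
  have φeq : ∀ a ∈ D.T hK Φ.S₀, ∀ b ∈ D.T hK Φ.S₀, φ a = φ b → a = b := fun a ha b hb h => by
    have := φinj (a * b⁻¹) (mul_mem ha (inv_mem hb)) (by
      rw [φadd a ha _ (inv_mem hb), φinv b hb, h, add_neg_cancel])
    rwa [mul_inv_eq_one] at this
  -- `M ≥ 2`
  obtain ⟨dE, hdE, hdE1⟩ := D.exists_cmpt_ne_one hK Φ.hO Φ.hE
  have hM : 2 ≤ M := by
    by_contra hc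
    apply hdE1
    refine D.eq_one_of_two_centres (D.two_le_m' hK) Φ.hZE ?_ hdE.2
    refine ((φcp Φ.Z Φ.hZ Φ.d₀ Φ.hd₀ Φ.hd₀1 dE hdE.1).2 ?_).2
    have hφd : φ Φ.d₀ ≠ 0 := fun h => Φ.hd₀1 (φinj _ Φ.hd₀.1 h)
    have hM1 : M = 1 := by
      rcases Nat.eq_zero_or_pos M with h | h
      · exact absurd (funext fun i => absurd i.2 (by omega)) hφd
      · omega
    subst hM1
    refine ⟨φ dE 0 / φ Φ.d₀ 0, funext fun i => ?_⟩
    have hi : i = 0 := Subsingleton.elim _ _
    subst hi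
    have : φ Φ.d₀ 0 ≠ 0 := fun h => hφd (funext fun i => by
      rw [Subsingleton.elim i 0]; exact h)
    rw [Pi.smul_apply, smul_eq_mul, div_mul_cancel₀ _ this]
  -- representatives
  obtain ⟨tr, htr⟩ : ∃ tr : X → G, ∀ x, ¬ D.inc x Φ.S₀ →
      tr x ∈ D.T hK Φ.S₀ ∧ tr x • Φ.O = x := by
    have : ∀ x, ∃ g, ¬ D.inc x Φ.S₀ → g ∈ D.T hK Φ.S₀ ∧ g • Φ.O = x := fun x => by
      by_cases h : D.inc x Φ.S₀
      · exact ⟨1, fun h' => absurd h h'⟩
      · obtain ⟨g, hg, hgx⟩ := D.exists_T hK Φ.hO h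
        exact ⟨g, fun _ => ⟨hg, hgx⟩⟩
    exact ⟨fun x => (this x).choose, fun x => (this x).choose_spec⟩
  obtain ⟨gd, hgd⟩ : ∃ gd : X → G, ∀ x, D.inc x Φ.S₀ → gd x ∈ Φ.cp x ∧ gd x ≠ 1 := by
    have : ∀ x, ∃ g, D.inc x Φ.S₀ → g ∈ Φ.cp x ∧ g ≠ 1 := fun x => by
      by_cases h : D.inc x Φ.S₀
      · obtain ⟨g, hg, hg1⟩ := D.exists_cmpt_ne_one hK Φ.hO h
        exact ⟨g, fun _ => ⟨hg, hg1⟩⟩
      · exact ⟨1, fun h' => absurd h' h⟩
    exact ⟨fun x => (this x).choose, fun x => (this x).choose_spec⟩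
  let L : ((Fin M → F) × F) ≃ₗ[F] (Fin (M + 1) → F) := LinearEquiv.ofFinrankEq _ _ (by
    rw [Module.finrank_prod, Module.finrank_fin_fun, Module.finrank_fin_fun, Module.finrank_self])
  let w : X → (Fin M → F) × F := fun x =>
    if D.inc x Φ.S₀ then (φ (gd x), 0) else (φ (tr x), 1)
  have winf : ∀ x, D.inc x Φ.S₀ → w x = (φ (gd x), 0) := fun x h => if_pos h
  have waff : ∀ x, ¬ D.inc x Φ.S₀ → w x = (φ (tr x), 1) := fun x h => if_neg h
  have hw : ∀ x, w x ≠ 0 := fun x h => by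
    by_cases hx : D.inc x Φ.S₀
    · rw [winf x hx, Prod.mk_eq_zero] at h
      exact (hgd x hx).2 (φinj _ (hgd x hx).1.1 h.1)
    · rw [waff x hx, Prod.mk_eq_zero] at h
      exact one_ne_zero h.2
  have hLw : ∀ x, L (w x) ≠ 0 := fun x h => hw x (L.map_eq_zero_iff.1 h)
  let f : X → Projectivization F (Fin (M + 1) → F) := fun x =>
    Projectivization.mk F (L (w x)) (hLw x)
  have hprop : ∀ x x', f x = f x' → x = x' := by
    intro x x' h
    obtain ⟨a, ha⟩ := (Projectivization.mk_eq_mk_iff' F _ _ (hLw x) (hLw x')).1 h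
    rw [← map_smul, L.injective.eq_iff] at ha
    by_cases hx : D.inc x Φ.S₀ <;> by_cases hx' : D.inc x' Φ.S₀
    · rw [winf x hx, winf x' hx', Prod.smul_mk, Prod.mk.injEq] at ha
      by_contra hne
      have := (φcp x' hx' _ (hgd x' hx').1 (hgd x' hx').2 _ (hgd x hx).1.1).2 ⟨a, ha.1.symm⟩
      exact (hgd x hx).2 (D.eq_one_of_two_centres (D.two_le_m' hK) hne (hgd x hx).1.2 this.2)
    · rw [winf x hx, waff x' hx', Prod.smul_mk, Prod.mk.injEq, smul_eq_mul, mul_one] at ha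
      exfalso
      rw [ha.2, zero_smul] at ha
      exact (hgd x hx).2 (φinj _ (hgd x hx).1.1 ha.1.symm)
    · rw [waff x hx, winf x' hx', Prod.smul_mk, Prod.mk.injEq, smul_zero] at ha
      exact absurd ha.2 zero_ne_one
    · rw [waff x hx, waff x' hx', Prod.smul_mk, Prod.mk.injEq, smul_eq_mul, mul_one] at ha
      rw [ha.2, one_smul] at ha
      rw [← (htr x hx).2, ← (htr x' hx').2, φeq _ (htr x' hx').1 _ (htr x hx).1 ha.1]
  have hsurj : Function.Surjective f := by
    intro p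
    induction p using Projectivization.ind with
    | h v hv =>
    obtain ⟨⟨a, b⟩, rfl⟩ := L.surjective v
    by_cases hb : b = 0
    · obtain ⟨u, hu, rfl⟩ := φsurj a
      have hu1 : u ≠ 1 := fun h => hv (by rw [h, hφ1, hb, Prod.mk_zero_zero, map_zero])
      obtain ⟨C, hC⟩ := D.exists_centre hK hu.1 hu1
      have hCS := D.centre_inc hK hu hu1 hC
      obtain ⟨c, hc⟩ := (φcp C hCS _ (hgd C hCS).1 (hgd C hCS).2 u hu).1 ⟨hu, hC⟩
      refine ⟨C, (Projectivization.mk_eq_mk_iff' F _ _ _ _).2 ⟨c⁻¹, ?_⟩⟩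
      have hc0 : c ≠ 0 := fun h => hu1 (φinj u hu (by rw [hc, h, zero_smul]))
      rw [← map_smul, winf C hCS, hb, Prod.smul_mk, smul_zero, hc, inv_smul_smul₀ hc0]
    · obtain ⟨u, hu, hu'⟩ := φsurj (b⁻¹ • a)
      have hS : ¬ D.inc (u • Φ.O) Φ.S₀ := D.smul_not_inc hK hu Φ.hO
      refine ⟨u • Φ.O, (Projectivization.mk_eq_mk_iff' F _ _ _ _).2 ⟨b⁻¹, ?_⟩⟩
      rw [← map_smul, waff _ hS, Prod.smul_mk, smul_eq_mul, inv_mul_cancel₀ hb,
        D.eq_of_T hK (htr _ hS).1 hu Φ.hO (htr _ hS).2, hu']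
  let ψ := Equiv.ofBijective f ⟨hprop, hsurj⟩
  refine ⟨F, fF, fFin, M, ψ, hM, fun x y z hxy => ?_⟩
  have hle : ∀ x y z : X, ((ψ z).submodule ≤ (ψ x).submodule ⊔ (ψ y).submodule) ↔
      ∃ a b : F, a • w x + b • w y = w z := by
    intro x y z
    show (f z).submodule ≤ (f x).submodule ⊔ (f y).submodule ↔ _
    simp only [f, Projectivization.submodule_mk]
    rw [← Submodule.span_insert, Submodule.span_singleton_le_iff_mem, Submodule.mem_span_pair]
    refine exists_congr fun a => exists_congr fun b => ?_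
    rw [← map_smul, ← map_smul, ← map_add, L.injective.eq_iff]
  rw [hle]
  -- points on a line are in the span
  have hfwd : ∀ x y : X, x ≠ y → ∀ z ∈ D.line x y, ∃ a b : F, a • w x + b • w y = w z := by
    intro x y hxy z hz
    by_cases hzx : z = x
    · exact ⟨1, 0, by simp [hzx]⟩
    by_cases hzy : z = y
    · exact ⟨0, 1, by simp [hzy]⟩
    by_cases hinf : D.inc x Φ.S₀ ∧ D.inc y Φ.S₀
    · obtain ⟨hx, hy⟩ := hinf
      have hzS : D.inc z Φ.S₀ := D.mem_pts.1 (D.line_subset_pts hx hy hz)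
      obtain ⟨cy, hcy, ht, ht1⟩ :=
        D.exists_join hK Φ.hO hx hy hxy hz hzx hzy (hgd x hx).1 (hgd x hx).2
      obtain ⟨c, hc⟩ := (φcp z hzS _ ht ht1 _ (hgd z hzS).1.1).1 (hgd z hzS).1
      obtain ⟨c', hc'⟩ := (φcp y hy _ (hgd y hy).1 (hgd y hy).2 _ hcy.1).1 hcy
      refine ⟨-c, c * c', ?_⟩
      rw [winf x hx, winf y hy, winf z hzS, hc, φadd _ hcy.1 _ (inv_mem (hgd x hx).1.1), hc',
        φinv _ (hgd x hx).1.1, Prod.smul_mk, Prod.smul_mk, Prod.mk_add_mk, smul_zero, smul_zero,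
        add_zero, Prod.mk.injEq]
      exact ⟨by rw [smul_add, smul_smul, smul_neg, neg_smul, add_comm], rfl⟩
    -- some point is affine
    have main : ∀ P C : X, ¬ D.inc P Φ.S₀ → D.inc C Φ.S₀ → ∀ z ∈ D.line C P,
        ∃ a b : F, a • w P + b • w C = w z ∧ (z ≠ P → b ≠ 0) := by
      intro P C hP hC z hz
      by_cases hzS : D.inc z Φ.S₀
      · have : z = C := by
          by_contra hne
          apply hP
          have := D.line_subset_pts hC hzS
          rw [D.line_eq (show C ≠ P from fun e => hP (e ▸ hC)) (D.left_mem_line C P) hz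
            (Ne.symm hne)] at this
          exact D.mem_pts.1 (this (D.right_mem_line C P))
        subst this
        exact ⟨0, 1, by simp, fun _ => one_ne_zero⟩
      obtain ⟨u, hu, hu'⟩ := D.exists_T hK hP hzS
      have huC : u ∈ D.K C := D.mem_K_of_move hK hu hP hC (by rw [hu']; exact hz)
      obtain ⟨c, hc⟩ := (φcp C hC _ (hgd C hC).1 (hgd C hC).2 u hu).1 ⟨hu, huC⟩
      have e1 : tr z = u * tr P := D.eq_of_T hK (htr z hzS).1 (mul_mem hu (htr P hP).1) Φ.hO
        (by rw [mul_smul, (htr P hP).2, hu', (htr z hzS).2])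
      refine ⟨1, c, ?_, fun hne hc0 => ?_⟩
      · rw [waff P hP, waff z hzS, winf C hC, e1, φadd u hu _ (htr P hP).1, hc, one_smul,
          Prod.smul_mk, Prod.mk_add_mk, smul_zero, add_zero, add_comm]
      · apply hne
        have : u = 1 := φinj u hu (by rw [hc, hc0, zero_smul])
        rw [← hu', this, one_smul]
    have sym : ∀ x y : X, x ≠ y → ¬ D.inc x Φ.S₀ → ∀ z ∈ D.line x y,
        ∃ a b : F, a • w x + b • w y = w z := by
      intro x y hxy hx z hz
      obtain ⟨C, hC, hCS⟩ := D.exists_mem hK x y hxy Φ.S₀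
      have hCx : C ≠ x := fun e => hx (e ▸ hCS)
      have hl : D.line C x = D.line x y := by rw [D.line_comm, D.line_eq_of_mem hxy hC hCx]
      obtain ⟨a, b, hab, hb⟩ := main x C hx hCS y (by rw [hl]; exact D.right_mem_line x y)
      obtain ⟨a', b', hab', -⟩ := main x C hx hCS z (by rw [hl]; exact hz)
      have hb0 := hb (Ne.symm hxy)
      refine ⟨a' - b' / b * a, b' / b, ?_⟩
      rw [← hab, ← hab', sub_smul, smul_add, smul_smul, smul_smul, div_mul_cancel₀ _ hb0]
      abel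
    by_cases hx : D.inc x Φ.S₀
    · obtain ⟨a, b, h⟩ := sym y x (Ne.symm hxy) (fun h => hinf ⟨hx, h⟩) z
        (by rw [D.line_comm]; exact hz)
      exact ⟨b, a, by rw [add_comm]; exact h⟩
    · exact sym x y hxy hx z hz
  refine ⟨hfwd x y hxy z, fun hz => ?_⟩
  -- counting gives the converse
  set P := Finset.univ.filter (fun z : X => ∃ a b : F, a • w x + b • w y = w z) with hP
  have hsub : D.line x y ⊆ P := fun z hz => Finset.mem_filter.2 ⟨Finset.mem_univ z, hfwd x y hxy z hz⟩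
  have hcard : P.card ≤ D.m + 1 := by
    have hc : ∀ z : P, ∃ a b : F, a • w x + b • w y = w z.1 := fun z => (Finset.mem_filter.1 z.2).2
    choose ca cb hcab using hc
    let g : P → Option F := fun z => if ca z = 0 then none else some (cb z / ca z)
    have hg : Function.Injective g := by
      intro z z' h
      apply Subtype.ext
      apply hprop
      refine (Projectivization.mk_eq_mk_iff' F _ _ _ _).2 ?_
      simp only [g] at h
      by_cases h1 : ca z = 0 <;> by_cases h2 : ca z' = 0 <;>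
        simp only [h1, h2, if_true, if_false, reduceCtorEq, Option.some.injEq] at h
      · have hb' : cb z' ≠ 0 := fun h0 => hw z'.1 (by rw [← hcab z', h2, h0]; simp)
        refine ⟨cb z / cb z', ?_⟩
        rw [← map_smul, ← hcab z, ← hcab z', h1, h2, zero_smul, zero_add, zero_add, smul_smul,
          div_mul_cancel₀ _ hb']
      · refine ⟨ca z / ca z', ?_⟩
        rw [← map_smul, ← hcab z, ← hcab z', smul_add, smul_smul, smul_smul, div_mul_cancel₀ _ h2]
        congr 2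
        have : ca z / ca z' * cb z' = cb z := by
          rw [div_eq_div_iff h1 h2] at h
          rw [div_mul_eq_mul_div, div_eq_iff h2]
          linear_combination -h
        rw [this]
    have := Fintype.card_le_of_injective g hg
    rwa [Fintype.card_coe, Fintype.card_option, hq] at this
  have heq : D.line x y = P := Finset.eq_of_subset_of_card_le hsub (by rw [D.card_line hxy]; exact hcard)
  rw [heq]
  exact Finset.mem_filter.2 ⟨Finset.mem_univ z, hz⟩

end Design

end Cfsg.Lib.ItoDesign
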