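import Cfsg.Agent.ItoDesign.Shear

/-!
# The multiplication of scalars on one component of the translation group
-/

set_option autoImplicit false
set_option linter.style.haveILetI false
set_option linter.unusedSectionVars false
set_option linter.unusedVariables false

open MulAction

namespace Cfsg.Lib.ItoDesign

universe u v w

variable {G : Type u} {X : Type v} {Y : Type w} [Group G] [MulAction G X] [MulAction G Y]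
  [Fintype X] [Fintype Y] [Fintype G]

namespace Design

variable (D : Design G X Y) (hK : ∀ B : X, D.K B ≠ ⊥)

/-- a frame: origin, hyperplane at infinity, a unit -/
structure Frame where
  S₀ : Y
  O : X
  Z : X
  E : X
  d₀ : G
  f₀ : G
  lam2 : 2 ≤ D.lam
  hO : ¬ D.inc O S₀
  hZ : D.inc Z S₀
  hE : D.inc E S₀
  hZE : Z ≠ E
  hd₀ : d₀ ∈ D.cmpt hK S₀ Z
  hd₀1 : d₀ ≠ 1
  hf₀ : D.Shear hK S₀ O E f₀
  hf₀1 : del f₀ d₀ ≠ 1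

variable {D hK}

/-- component of a point at infinity -/
abbrev Frame.cp (Φ : D.Frame hK) (C : X) : Subgroup G := D.cmpt hK Φ.S₀ C

/-- shears of the frame -/
abbrev Frame.Sh (Φ : D.Frame hK) (C : X) (τ : G) : Prop := D.Shear hK Φ.S₀ Φ.O C τ

variable (D hK) in
include hK in
lemma exists_cmpt_ne_one {S₀ : Y} {O C : X} (hO : ¬ D.inc O S₀) (hC : D.inc C S₀) :
    ∃ d ∈ D.cmpt hK S₀ C, d ≠ 1 := by
  classical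
  have hCO : C ≠ O := fun e => hO (e ▸ hC)
  obtain ⟨x, hx, hxn⟩ : ∃ w ∈ D.line C O, w ∉ ({C, O} : Finset X) :=
    Finset.exists_mem_notMem_of_card_lt_card (by
      rw [D.card_line hCO, Finset.card_pair hCO]; have := D.two_le_m' hK; omega)
  simp only [Finset.mem_insert, Finset.mem_singleton, not_or] at hxn
  have hxS : ¬ D.inc x S₀ := fun h => hO (by
    have := D.line_subset_pts hC h
    rw [D.line_eq hCO (D.left_mem_line C O) hx (Ne.symm hxn.1)] at this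
    exact D.mem_pts.1 (this (D.right_mem_line C O)))
  obtain ⟨g, hg, hgx⟩ := D.exists_T hK hO hxS
  exact ⟨g, ⟨hg, D.mem_K_of_move hK hg hO hC (by rw [hgx]; exact hx)⟩,
    fun e => hxn.2 (by rw [← hgx, e, one_smul])⟩

variable (D hK) in
theorem exists_frame (hlam : 2 ≤ D.lam) : Nonempty (D.Frame hK) := by
  classical
  obtain ⟨B⟩ : Nonempty X := Fintype.card_pos_iff.1 (by have := D.k_add_two; omega)
  obtain ⟨S₀, hS₀⟩ := D.exists_not_inc_of B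
  obtain ⟨Z, hZ, E, hE, hZE⟩ := Finset.one_lt_card.1 (show 1 < (D.pts S₀).card by
    rw [D.card_pts]; exact D.two_le_k)
  rw [D.mem_pts] at hZ hE
  obtain ⟨d₀, hd₀, hd₀1⟩ := D.exists_cmpt_ne_one hK hS₀ hZ
  obtain ⟨e₀, he₀, he₀1⟩ := D.exists_cmpt_ne_one hK hS₀ hE
  obtain ⟨f₀, hf₀, hf₀e⟩ := D.exists_shear hK hS₀ hE hZ (Ne.symm hZE) hd₀ hd₀1 he₀
  exact ⟨⟨S₀, B, Z, E, d₀, f₀, hlam, hS₀, hZ, hE, hZE, hd₀, hd₀1, hf₀, by rw [hf₀e]; exact he₀1⟩⟩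

namespace Frame

variable (Φ : D.Frame hK)

lemma exists_off_line {P Q : X} (hPQ : P ≠ Q) : ∃ F, D.inc F Φ.S₀ ∧ F ∉ D.line P Q := by
  classical
  obtain ⟨F, hF, hFn⟩ : ∃ w ∈ D.pts Φ.S₀, w ∉ D.line P Q := by
    refine Finset.exists_mem_notMem_of_card_lt_card ?_
    rw [D.card_line hPQ, D.card_pts]
    have hF := D.full hK
    rw [Full] at hF
    have := Nat.mul_le_mul_left D.m Φ.lam2
    have := D.two_le_m' hK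
    omega
  exact ⟨F, D.mem_pts.1 hF, hFn⟩

lemma del_mem {C : X} {τ t : G} (h : Φ.Sh C τ) (ht : t ∈ D.T hK Φ.S₀) : del τ t ∈ Φ.cp C :=
  D.del_mem hK h ht

lemma he₀ : del Φ.f₀ Φ.d₀ ∈ Φ.cp Φ.E := Φ.del_mem Φ.hf₀ Φ.hd₀.1

lemma exists_back {a : G} (ha : a ∈ Φ.cp Φ.Z) :
    ∃ g, Φ.Sh Φ.Z g ∧ del g (del Φ.f₀ Φ.d₀) = a :=
  D.exists_shear hK Φ.hO Φ.hZ Φ.hE Φ.hZE Φ.he₀ Φ.hf₀1 ha

open scoped Classical in
/-- the product of scalars -/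
noncomputable def rho (a d : G) : G :=
  if h : a ∈ Φ.cp Φ.Z then del (Φ.exists_back h).choose (del Φ.f₀ d) else 1

lemma rho_eq {a g : G} (hg : Φ.Sh Φ.Z g) (hga : del g (del Φ.f₀ Φ.d₀) = a) {d : G}
    (hd : d ∈ Φ.cp Φ.Z) : Φ.rho a d = del g (del Φ.f₀ d) := by
  have ha : a ∈ Φ.cp Φ.Z := hga ▸ Φ.del_mem hg Φ.he₀.1
  rw [rho, dif_pos ha]
  obtain ⟨h1, h2⟩ := (Φ.exists_back ha).choose_spec
  exact D.shear_ext hK Φ.hO Φ.hE Φ.hZE h1 hg Φ.he₀ Φ.hf₀1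
    (by rw [h2, hga]) (Φ.del_mem Φ.hf₀ hd.1)

lemma rho_mem {a : G} (ha : a ∈ Φ.cp Φ.Z) {d : G} (hd : d ∈ Φ.cp Φ.Z) :
    Φ.rho a d ∈ Φ.cp Φ.Z := by
  obtain ⟨g, hg, hga⟩ := Φ.exists_back ha
  rw [Φ.rho_eq hg hga hd]
  exact Φ.del_mem hg (Φ.del_mem Φ.hf₀ hd.1).1

lemma step {E' F : X} (hE' : D.inc E' Φ.S₀) (hF : D.inc F Φ.S₀) (hZE' : Φ.Z ≠ E')
    (hFl : F ∉ D.line Φ.Z E') {f g f' g' : G} (hf : Φ.Sh E' f) (hg : Φ.Sh Φ.Z g)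
    (hf' : Φ.Sh F f') (hg' : Φ.Sh Φ.Z g') (hf1 : del f Φ.d₀ ≠ 1)
    (hv : del g (del f Φ.d₀) = del g' (del f' Φ.d₀)) {d : G} (hd : d ∈ Φ.cp Φ.Z) :
    del g (del f d) = del g' (del f' d) := by
  have hFE : F ≠ E' := fun e => hFl (e ▸ D.right_mem_line _ _)
  have hFZ : F ≠ Φ.Z := fun e => hFl (e ▸ D.left_mem_line _ _)
  have hZl : Φ.Z ∉ D.line E' F := fun h => hFl (by
    rw [D.line_comm Φ.Z E', D.line_eq (Ne.symm hFE) (D.left_mem_line E' F) h (Ne.symm hZE')]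
    exact D.right_mem_line E' F)
  have he := Φ.del_mem hf Φ.hd₀.1
  obtain ⟨h, hh, hhe⟩ := D.exists_shear hK Φ.hO hF hE' hFE he hf1 (Φ.del_mem hf' Φ.hd₀.1)
  obtain ⟨π, hπ, hπd⟩ := D.shear_comp hK Φ.hO Φ.hZ hE' hF hZE' hFl hf hh
  obtain ⟨π', hπ', hπd'⟩ := D.shear_comp hK Φ.hO hE' hF Φ.hZ (Ne.symm hFE) hZl hh hg'
  have e1 : del π d = del f' d := D.shear_ext hK Φ.hO Φ.hZ hFZ hπ hf' Φ.hd₀ Φ.hd₀1
    (by rw [hπd _ Φ.hd₀, hhe]) hd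
  have e2 : del g (del f d) = del π' (del f d) :=
    D.shear_ext hK Φ.hO hE' hZE' hg hπ' he hf1 (by rw [hπd' _ he, hhe, hv]) (Φ.del_mem hf hd.1)
  rw [e2, hπd' _ (Φ.del_mem hf hd.1), ← hπd _ hd, e1]

lemma rho_indep {E' : X} (hE' : D.inc E' Φ.S₀) (hZE' : Φ.Z ≠ E') {f g a : G} (hf : Φ.Sh E' f)
    (hg : Φ.Sh Φ.Z g) (hf1 : del f Φ.d₀ ≠ 1) (hv : del g (del f Φ.d₀) = a) {d : G}
    (hd : d ∈ Φ.cp Φ.Z) : del g (del f d) = Φ.rho a d := by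
  have ha : a ∈ Φ.cp Φ.Z := hv ▸ Φ.del_mem hg (Φ.del_mem hf Φ.hd₀.1).1
  obtain ⟨g₀, hg₀, hg₀a⟩ := Φ.exists_back ha
  rw [Φ.rho_eq hg₀ hg₀a hd]
  by_cases hEl : Φ.E ∈ D.line Φ.Z E'
  swap
  · exact Φ.step hE' Φ.hE hZE' hEl hf hg Φ.hf₀ hg₀ hf1 (hv.trans hg₀a.symm) hd
  obtain ⟨F, hF, hFl⟩ := Φ.exists_off_line hZE'
  have hZF : Φ.Z ≠ F := fun e => hFl (e ▸ D.left_mem_line _ _)
  have hFl' : F ∉ D.line Φ.Z Φ.E := by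
    rw [D.line_eq hZE' (D.left_mem_line _ _) hEl Φ.hZE]; exact hFl
  obtain ⟨c, hc, hc1⟩ := D.exists_cmpt_ne_one hK Φ.hO hF
  obtain ⟨f', hf', hf'c⟩ := D.exists_shear hK Φ.hO hF Φ.hZ (Ne.symm hZF) Φ.hd₀ Φ.hd₀1 hc
  obtain ⟨g', hg', hg'a⟩ := D.exists_shear hK Φ.hO Φ.hZ hF hZF hc hc1 ha
  have hv' : del g' (del f' Φ.d₀) = a := by rw [hf'c, hg'a]
  rw [Φ.step hE' hF hZE' hFl hf hg hf' hg' hf1 (hv.trans hv'.symm) hd,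
    Φ.step Φ.hE hF Φ.hZE hFl' Φ.hf₀ hg₀ hf' hg' Φ.hf₀1 (hg₀a.trans hv'.symm) hd]

lemma rho_mul_right {a : G} (ha : a ∈ Φ.cp Φ.Z) {d d' : G} (hd : d ∈ Φ.cp Φ.Z)
    (hd' : d' ∈ Φ.cp Φ.Z) : Φ.rho a (d * d') = Φ.rho a d * Φ.rho a d' := by
  obtain ⟨g, hg, hga⟩ := Φ.exists_back ha
  rw [Φ.rho_eq hg hga hd, Φ.rho_eq hg hga hd', Φ.rho_eq hg hga (mul_mem hd hd'),
    D.del_mul hK Φ.hf₀ hd.1 hd'.1,
    D.del_mul hK hg (Φ.del_mem Φ.hf₀ hd.1).1 (Φ.del_mem Φ.hf₀ hd'.1).1]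

lemma rho_d₀_right {a : G} (ha : a ∈ Φ.cp Φ.Z) : Φ.rho a Φ.d₀ = a := by
  obtain ⟨g, hg, hga⟩ := Φ.exists_back ha
  rw [Φ.rho_eq hg hga Φ.hd₀, hga]

lemma rho_mul_left {a b : G} (ha : a ∈ Φ.cp Φ.Z) (hb : b ∈ Φ.cp Φ.Z) {d : G}
    (hd : d ∈ Φ.cp Φ.Z) : Φ.rho (a * b) d = Φ.rho a d * Φ.rho b d := by
  obtain ⟨H, hOH, hZH, hEH⟩ := D.exists_axis_avoid₂ hK Φ.hO Φ.hZ Φ.hE Φ.hZE
  obtain ⟨ga, haT, haK, hga, hga'⟩ :=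
    D.exists_shear_axis hK Φ.hO hOH hZH Φ.hZ hEH Φ.he₀ Φ.hf₀1 ha
  obtain ⟨gb, hbT, hbK, hgb, hgb'⟩ :=
    D.exists_shear_axis hK Φ.hO hOH hZH Φ.hZ hEH Φ.he₀ Φ.hf₀1 hb
  have hprod : Φ.Sh Φ.Z (ga * gb) :=
    ⟨H, hOH, hZH, Φ.hZ, mul_mem haT hbT, mul_mem haK hbK⟩
  have key : ∀ x, x ∈ D.T hK Φ.S₀ → del (ga * gb) x = del ga x * del gb x := by
    intro x hx
    have hb' := Φ.del_mem hgb hx
    have e : del (ga * gb) x = (ga * del gb x * ga⁻¹) * (ga * x * ga⁻¹) * x⁻¹ := by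
      unfold del; group
    rw [e, conj_eq (τ := ga) (t := del gb x),
      D.del_eq_one_of_mem hK Φ.hO hga haT hb'.1 (D.cmpt_smul_inc hK hb' hOH hZH), one_mul,
      mul_assoc, show ga * x * ga⁻¹ * x⁻¹ = del ga x from rfl]
    exact D.T_comm hK hb'.1 (Φ.del_mem hga hx).1
  rw [Φ.rho_eq hga hga' hd, Φ.rho_eq hgb hgb' hd,
    Φ.rho_eq hprod (by rw [key _ Φ.he₀.1, hga', hgb']) hd, key _ (Φ.del_mem Φ.hf₀ hd.1).1]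

lemma rho_comp {a b : G} (ha : a ∈ Φ.cp Φ.Z) (hb : b ∈ Φ.cp Φ.Z) {d : G} (hd : d ∈ Φ.cp Φ.Z) :
    Φ.rho a (Φ.rho b d) = Φ.rho (Φ.rho a b) d := by
  obtain ⟨F, hF, hFl⟩ := Φ.exists_off_line Φ.hZE
  have hZF : Φ.Z ≠ F := fun e => hFl (e ▸ D.left_mem_line _ _)
  have hEF : Φ.E ≠ F := fun e => hFl (e ▸ D.right_mem_line _ _)
  obtain ⟨c, hc, hc1⟩ := D.exists_cmpt_ne_one hK Φ.hO hF
  obtain ⟨f', hf', hf'c⟩ := D.exists_shear hK Φ.hO hF Φ.hZ (Ne.symm hZF) Φ.hd₀ Φ.hd₀1 hc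
  obtain ⟨g', hg', hg'a⟩ := D.exists_shear hK Φ.hO Φ.hZ hF hZF hc hc1 ha
  have hf'1 : del f' Φ.d₀ ≠ 1 := by rw [hf'c]; exact hc1
  have hv' : del g' (del f' Φ.d₀) = a := by rw [hf'c, hg'a]
  obtain ⟨gb, hgb, hgb'⟩ := Φ.exists_back hb
  have hFl' : F ∉ D.line Φ.E Φ.Z := by rwa [D.line_comm]
  obtain ⟨k, hk, hkd⟩ := D.shear_comp hK Φ.hO Φ.hE Φ.hZ hF (Ne.symm Φ.hZE) hFl' hgb hf'
  have hZl : Φ.Z ∉ D.line Φ.E F := fun h => hFl (by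
    rw [D.line_comm Φ.Z Φ.E, D.line_eq hEF (D.left_mem_line _ _) h (Ne.symm Φ.hZE)]
    exact D.right_mem_line _ _)
  obtain ⟨g'', hg'', hgd⟩ := D.shear_comp hK Φ.hO Φ.hE hF Φ.hZ hEF hZl hk hg'
  have main : ∀ d ∈ Φ.cp Φ.Z, Φ.rho a (Φ.rho b d) = del g'' (del Φ.f₀ d) := by
    intro d hd
    rw [← Φ.rho_indep hF hZF hf' hg' hf'1 hv' (Φ.rho_mem hb hd), Φ.rho_eq hgb hgb' hd,
      ← hkd _ (Φ.del_mem Φ.hf₀ hd.1), ← hgd _ (Φ.del_mem Φ.hf₀ hd.1)]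
  rw [main d hd]
  refine (Φ.rho_eq hg'' ?_ hd).symm
  rw [← main _ Φ.hd₀, Φ.rho_d₀_right hb]

lemma rho_injective {a : G} (ha : a ∈ Φ.cp Φ.Z) (ha1 : a ≠ 1) {d : G} (hd : d ∈ Φ.cp Φ.Z)
    (h : Φ.rho a d = 1) : d = 1 := by
  obtain ⟨g, hg, hga⟩ := Φ.exists_back ha
  rw [Φ.rho_eq hg hga hd] at h
  exact D.shear_injective hK Φ.hO Φ.hE Φ.hZ (Ne.symm Φ.hZE) Φ.hf₀ Φ.hd₀ hd Φ.hf₀1
    (D.shear_injective hK Φ.hO Φ.hZ Φ.hE Φ.hZE hg Φ.he₀ (Φ.del_mem Φ.hf₀ hd.1)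
      (by rw [hga]; exact ha1) h)

lemma rho_one_right {a : G} (ha : a ∈ Φ.cp Φ.Z) : Φ.rho a 1 = 1 := by
  obtain ⟨g, hg, hga⟩ := Φ.exists_back ha
  rw [Φ.rho_eq hg hga (one_mem _), del_one_right, del_one_right]

lemma rho_d₀_left {d : G} (hd : d ∈ Φ.cp Φ.Z) : Φ.rho Φ.d₀ d = d := by
  have h1 := Φ.rho_comp Φ.hd₀ Φ.hd₀ hd
  rw [Φ.rho_d₀_right Φ.hd₀] at h1
  set e := Φ.rho Φ.d₀ d with he
  have hem : e ∈ Φ.cp Φ.Z := Φ.rho_mem Φ.hd₀ hd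
  have h2 := Φ.rho_injective Φ.hd₀ Φ.hd₀1 (mul_mem (inv_mem hd) hem) (by
    rw [Φ.rho_mul_right Φ.hd₀ (inv_mem hd) hem, h1]
    rw [he, ← Φ.rho_mul_right Φ.hd₀ (inv_mem hd) hd, inv_mul_cancel]
    exact Φ.rho_one_right Φ.hd₀)
  rw [inv_mul_eq_one] at h2
  exact h2.symm

end Frame

end Design

end Cfsg.Lib.ItoDesign
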