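import Cfsg.Agent.ItoDesign.Rho

/-!
# The field of scalars and its action on the translation group
-/

set_option autoImplicit false
set_option linter.style.haveILetI false
set_option linter.unusedSectionVars false
set_option linter.unusedVariables false

open MulAction

namespace Cfsg.Lib.ItoDesign

universe u v w

/-- an anonymous finite set carrying a transported field -/
structure Carrier (j : ℕ) : Type where
  /-- the underlying index -/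
  val : Fin j

lemma carrier_equiv (j : ℕ) : Nonempty (Carrier j ≃ Fin j) :=
  ⟨⟨Carrier.val, Carrier.mk, fun _ => rfl, fun _ => rfl⟩⟩

instance (j : ℕ) : Fintype (Carrier j) :=
  Fintype.ofEquiv (Fin j) ⟨Carrier.mk, Carrier.val, fun _ => rfl, fun _ => rfl⟩

variable {G : Type u} {X : Type v} {Y : Type w} [Group G] [MulAction G X] [MulAction G Y]
  [Fintype X] [Fintype Y] [Fintype G]

namespace Design

variable (D : Design G X Y) (hK : ∀ B : X, D.K B ≠ ⊥)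

include hK in
lemma card_cmpt {S₀ : Y} {O C : X} (hO : ¬ D.inc O S₀) (hC : D.inc C S₀) :
    Nat.card ↥(D.cmpt hK S₀ C) = D.m := by
  classical
  have hCO : C ≠ O := fun e => hO (e ▸ hC)
  have e : ((Finset.univ.filter fun g => g ∈ D.cmpt hK S₀ C).image fun g => g • O) =
      (D.line C O).erase C := by
    ext x
    simp only [Finset.mem_image, Finset.mem_filter, Finset.mem_univ, true_and, Finset.mem_erase]
    constructor
    · rintro ⟨g, hg, rfl⟩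
      exact ⟨fun e => D.smul_not_inc hK hg.1 hO (by rw [e]; exact hC), D.cmpt_smul_mem_line hK hg⟩
    · rintro ⟨hxC, hx⟩
      have hxS : ¬ D.inc x S₀ := fun h => hO (by
        have := D.line_subset_pts hC h
        rw [D.line_eq hCO (D.left_mem_line C O) hx (Ne.symm hxC)] at this
        exact D.mem_pts.1 (this (D.right_mem_line C O)))
      obtain ⟨g, hg, hgx⟩ := D.exists_T hK hO hxS
      exact ⟨g, ⟨hg, D.mem_K_of_move hK hg hO hC (by rw [hgx]; exact hx)⟩, hgx⟩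
  have h := congrArg Finset.card e
  rw [Finset.card_image_of_injOn, Finset.card_erase_of_mem (D.left_mem_line C O), D.card_line hCO,
    Nat.add_sub_cancel] at h
  · rw [← h, Nat.card_eq_fintype_card, ← Fintype.card_subtype]
  · intro a ha b hb he
    simp only [Finset.coe_filter, Finset.mem_univ, true_and, Set.mem_ofPred_eq] at ha hb
    exact D.eq_of_T hK ha.1 hb.1 hO he

variable {D hK}

namespace Frame

variable (Φ : D.Frame hK)

theorem exists_field : ∃ (F : Type) (_ : Field F) (_ : Fintype F) (e : F ≃ ↥(Φ.cp Φ.Z)),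
    (∀ a b, (e (a + b)).1 = (e a).1 * (e b).1) ∧
    (∀ a b, (e (a * b)).1 = Φ.rho (e a).1 (e b).1) ∧ (e 1).1 = Φ.d₀ ∧ (e 0).1 = 1 := by
  classical
  let j := Fintype.card ↥(Φ.cp Φ.Z)
  obtain ⟨ec⟩ := carrier_equiv j
  let e : Carrier j ≃ ↥(Φ.cp Φ.Z) := ec.trans (Fintype.equivFin _).symm
  letI : Add (Carrier j) := ⟨fun a b => e.symm (e a * e b)⟩
  letI : Mul (Carrier j) := ⟨fun a b => e.symm ⟨Φ.rho (e a).1 (e b).1, Φ.rho_mem (e a).2 (e b).2⟩⟩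
  letI : Neg (Carrier j) := ⟨fun a => e.symm (e a)⁻¹⟩
  letI : Zero (Carrier j) := ⟨e.symm 1⟩
  letI : One (Carrier j) := ⟨e.symm ⟨Φ.d₀, Φ.hd₀⟩⟩
  have hadd : ∀ a b : Carrier j, e (a + b) = e a * e b := fun a b => e.apply_symm_apply _
  have hmul : ∀ a b : Carrier j, (e (a * b)).1 = Φ.rho (e a).1 (e b).1 :=
    fun a b => congrArg Subtype.val (e.apply_symm_apply _)
  have hzero : e (0 : Carrier j) = 1 := e.apply_symm_apply _
  have hone : (e (1 : Carrier j)).1 = Φ.d₀ := congrArg Subtype.val (e.apply_symm_apply _)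
  have hneg : ∀ a : Carrier j, e (-a) = (e a)⁻¹ := fun a => e.apply_symm_apply _
  letI R : Ring (Carrier j) := Ring.ofMinimalAxioms
    (fun a b c => e.injective (by rw [hadd, hadd, hadd, hadd, mul_assoc]))
    (fun a => e.injective (by rw [hadd, hzero, one_mul]))
    (fun a => e.injective (by rw [hadd, hneg, hzero, inv_mul_cancel]))
    (fun a b c => e.injective (Subtype.ext (by
      rw [hmul, hmul, hmul, hmul, Φ.rho_comp (e a).2 (e b).2 (e c).2])))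
    (fun a => e.injective (Subtype.ext (by rw [hmul, hone, Φ.rho_d₀_left (e a).2])))
    (fun a => e.injective (Subtype.ext (by rw [hmul, hone, Φ.rho_d₀_right (e a).2])))
    (fun a b c => e.injective (Subtype.ext (by
      rw [hmul, hadd, hadd, Subgroup.coe_mul, Φ.rho_mul_right (e a).2 (e b).2 (e c).2,
        Subgroup.coe_mul, hmul, hmul])))
    (fun a b c => e.injective (Subtype.ext (by
      rw [hmul, hadd, hadd, Subgroup.coe_mul, Φ.rho_mul_left (e a).2 (e b).2 (e c).2,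
        Subgroup.coe_mul, hmul, hmul])))
  haveI : Nontrivial (Carrier j) := ⟨⟨1, 0, fun h => Φ.hd₀1 (by rw [← hone, h, hzero]; rfl)⟩⟩
  haveI : NoZeroDivisors (Carrier j) := ⟨fun {a b} h => by
    by_cases ha : a = 0
    · exact Or.inl ha
    right
    apply e.injective
    rw [hzero]
    refine Subtype.ext (Φ.rho_injective (e a).2 (fun h' => ha (e.injective ?_)) (e b).2 ?_)
    · rw [hzero]; exact Subtype.ext h'
    · rw [← hmul, h, hzero]; rfl⟩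
  haveI : IsDomain (Carrier j) := NoZeroDivisors.to_isDomain _
  letI fF : Field (Carrier j) := (Finite.isDomain_to_isField (Carrier j)).toField
  exact ⟨Carrier j, fF, inferInstance, e, fun a b => by rw [hadd]; rfl, hmul, hone,
    congrArg Subtype.val hzero⟩

lemma exists_iota (C : X) : ∃ h, D.inc C Φ.S₀ → C ≠ Φ.Z → Φ.Sh C h ∧ del h Φ.d₀ ≠ 1 := by
  by_cases h : D.inc C Φ.S₀ ∧ C ≠ Φ.Z
  · obtain ⟨c, hc, hc1⟩ := D.exists_cmpt_ne_one hK Φ.hO h.1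
    obtain ⟨τ, hτ, hτc⟩ := D.exists_shear hK Φ.hO h.1 Φ.hZ h.2 Φ.hd₀ Φ.hd₀1 hc
    exact ⟨τ, fun _ _ => ⟨hτ, by rw [hτc]; exact hc1⟩⟩
  · exact ⟨1, fun a b => absurd ⟨a, b⟩ h⟩

open scoped Classical in
/-- coordinates on the component of `C` -/
noncomputable def iota (C : X) (d : G) : G :=
  if C = Φ.Z then d else del (Φ.exists_iota C).choose d

lemma iota_Z (d : G) : Φ.iota Φ.Z d = d := by
  classical
  rw [iota, if_pos rfl]

lemma iota_spec {C : X} (hC : D.inc C Φ.S₀) (hCZ : C ≠ Φ.Z) :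
    ∃ h, Φ.Sh C h ∧ del h Φ.d₀ ≠ 1 ∧ ∀ d, Φ.iota C d = del h d := by
  classical
  obtain ⟨h1, h2⟩ := (Φ.exists_iota C).choose_spec hC hCZ
  exact ⟨_, h1, h2, fun d => by rw [iota, if_neg hCZ]⟩

lemma iota_mem {C : X} (hC : D.inc C Φ.S₀) {d : G} (hd : d ∈ Φ.cp Φ.Z) :
    Φ.iota C d ∈ Φ.cp C := by
  by_cases hCZ : C = Φ.Z
  · subst hCZ; rw [Φ.iota_Z]; exact hd
  obtain ⟨h, h1, -, h3⟩ := Φ.iota_spec hC hCZ
  rw [h3]; exact Φ.del_mem h1 hd.1

lemma iota_mul {C : X} (hC : D.inc C Φ.S₀) {d d' : G} (hd : d ∈ Φ.cp Φ.Z) (hd' : d' ∈ Φ.cp Φ.Z) :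
    Φ.iota C (d * d') = Φ.iota C d * Φ.iota C d' := by
  by_cases hCZ : C = Φ.Z
  · subst hCZ; simp only [Φ.iota_Z]
  obtain ⟨h, h1, -, h3⟩ := Φ.iota_spec hC hCZ
  simp only [h3]; exact D.del_mul hK h1 hd.1 hd'.1

lemma iota_bijective {C : X} (hC : D.inc C Φ.S₀) :
    Function.Bijective (fun d : Φ.cp Φ.Z => (⟨Φ.iota C d.1, Φ.iota_mem hC d.2⟩ : Φ.cp C)) := by
  classical
  rw [Fintype.bijective_iff_injective_and_card]
  refine ⟨fun a b hab => ?_, ?_⟩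
  · have hab' : Φ.iota C a.1 = Φ.iota C b.1 := congrArg Subtype.val hab
    by_cases hCZ : C = Φ.Z
    · subst hCZ; rw [Φ.iota_Z, Φ.iota_Z] at hab'; exact Subtype.ext hab'
    obtain ⟨h, h1, h2, h3⟩ := Φ.iota_spec hC hCZ
    have hk := D.shear_injective hK Φ.hO hC Φ.hZ hCZ h1 Φ.hd₀ (mul_mem (inv_mem a.2) b.2) h2 (by
      have e := D.del_mul hK h1 a.2.1 (mul_mem (inv_mem a.2) b.2).1
      rw [mul_inv_cancel_left, ← h3, ← h3, ← hab'] at e
      exact (mul_eq_left.1 e.symm))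
    rw [inv_mul_eq_one] at hk
    exact Subtype.ext hk
  · rw [← Nat.card_eq_fintype_card, ← Nat.card_eq_fintype_card, D.card_cmpt hK Φ.hO hC,
      D.card_cmpt hK Φ.hO Φ.hZ]

/-- coordinates: `ι_C (e t)` -/
noncomputable def io {F : Type} (e : F ≃ ↥(Φ.cp Φ.Z)) (C : X) (t : F) : G := Φ.iota C (e t).1

section scalars

variable {F : Type} [Field F] (e : F ≃ ↥(Φ.cp Φ.Z))
  (hmul : ∀ a b, (e (a * b)).1 = Φ.rho (e a).1 (e b).1)

lemma io_surj {C : X} (hC : D.inc C Φ.S₀) {v : G} (hv : v ∈ Φ.cp C) :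
    ∃ t : F, Φ.io e C t = v := by
  obtain ⟨d, hd⟩ := (Φ.iota_bijective hC).2 ⟨v, hv⟩
  exact ⟨e.symm d, by rw [io, e.apply_symm_apply]; exact congrArg Subtype.val hd⟩

lemma io_inj {C : X} (hC : D.inc C Φ.S₀) {t t' : F} (h : Φ.io e C t = Φ.io e C t') : t = t' :=
  e.injective ((Φ.iota_bijective hC).1 (Subtype.ext h))

include hmul in
lemma hom_from_Z {C : X} (hC : D.inc C Φ.S₀) (hCZ : C ≠ Φ.Z) {σ : G} (hσ : Φ.Sh C σ) :
    ∃ w : F, ∀ t, del σ (e t).1 = Φ.io e C (w * t) := by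
  obtain ⟨w, hw⟩ := Φ.io_surj e hC (Φ.del_mem hσ Φ.hd₀.1)
  refine ⟨w, fun t => ?_⟩
  obtain ⟨F', hF, hFl⟩ := Φ.exists_off_line (Ne.symm hCZ)
  have hZF : Φ.Z ≠ F' := fun e' => hFl (e' ▸ D.left_mem_line _ _)
  have hCF : C ≠ F' := fun e' => hFl (e' ▸ D.right_mem_line _ _)
  obtain ⟨c, hc, hc1⟩ := D.exists_cmpt_ne_one hK Φ.hO hF
  obtain ⟨f', hf', hf'c⟩ := D.exists_shear hK Φ.hO hF Φ.hZ (Ne.symm hZF) Φ.hd₀ Φ.hd₀1 hc
  obtain ⟨g', hg', hg'a⟩ := D.exists_shear hK Φ.hO Φ.hZ hF hZF hc hc1 (e w).2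
  obtain ⟨h, h1, -, h3⟩ := Φ.iota_spec hC hCZ
  have hCl : C ∉ D.line F' Φ.Z := fun h' => hFl (by
    rw [D.line_eq (Ne.symm hZF) (D.right_mem_line _ _) h' (Ne.symm hCZ)]
    exact D.left_mem_line _ _)
  have hCl' : C ∉ D.line Φ.Z F' := by rwa [D.line_comm]
  obtain ⟨π, hπ, hπd⟩ := D.shear_comp hK Φ.hO hF Φ.hZ hC (Ne.symm hZF) hCl hg' h1
  obtain ⟨π', hπ', hπd'⟩ := D.shear_comp hK Φ.hO Φ.hZ hF hC hZF hCl' hf' hπ
  have key : ∀ d ∈ Φ.cp Φ.Z, del π' d = del h (Φ.rho (e w).1 d) := fun d hd => by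
    rw [hπd' _ hd, hπd _ (Φ.del_mem hf' hd.1),
      Φ.rho_indep hF hZF hf' hg' (by rw [hf'c]; exact hc1) (by rw [hf'c, hg'a]) hd]
  rw [D.shear_ext hK Φ.hO Φ.hZ hCZ hσ hπ' Φ.hd₀ Φ.hd₀1 ?_ (e t).2, key _ (e t).2]
  · rw [io, h3, hmul]
  · rw [key _ Φ.hd₀, Φ.rho_d₀_right (e w).2, ← h3]
    exact hw.symm

include hmul in
/-- every shear is linear on every component -/
lemma hom_general {A C : X} (hA : D.inc A Φ.S₀) (hC : D.inc C Φ.S₀) (hAC : A ≠ C) {σ : G}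
    (hσ : Φ.Sh C σ) : ∃ w : F, ∀ t, del σ (Φ.io e A t) = Φ.io e C (w * t) := by
  have ncol : ∀ {A C : X}, D.inc A Φ.S₀ → D.inc C Φ.S₀ → A ≠ Φ.Z → C ∉ D.line Φ.Z A →
      ∀ {σ : G}, Φ.Sh C σ → ∃ w : F, ∀ t, del σ (Φ.io e A t) = Φ.io e C (w * t) := by
    intro A C hA hC hAZ hl σ hσ
    obtain ⟨h, h1, -, h3⟩ := Φ.iota_spec hA hAZ
    obtain ⟨π, hπ, hπd⟩ := D.shear_comp hK Φ.hO Φ.hZ hA hC (Ne.symm hAZ) hl h1 hσ
    have hCZ : C ≠ Φ.Z := fun e' => hl (e' ▸ D.left_mem_line _ _)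
    obtain ⟨w, hw⟩ := Φ.hom_from_Z e hmul hC hCZ hπ
    exact ⟨w, fun t => by rw [io, h3, ← hπd _ (e t).2, hw]⟩
  by_cases hAZ : A = Φ.Z
  · subst hAZ
    obtain ⟨w, hw⟩ := Φ.hom_from_Z e hmul hC (Ne.symm hAC) hσ
    exact ⟨w, fun t => by rw [io, Φ.iota_Z, hw]⟩
  by_cases hCZ : C = Φ.Z
  · subst hCZ
    obtain ⟨h, h1, h2, h3⟩ := Φ.iota_spec hA hAZ
    have hm : del σ (del h Φ.d₀) ∈ Φ.cp Φ.Z := Φ.del_mem hσ (Φ.del_mem h1 Φ.hd₀.1).1
    refine ⟨e.symm ⟨_, hm⟩, fun t => ?_⟩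
    rw [io, h3, io, Φ.iota_Z, hmul, e.apply_symm_apply,
      Φ.rho_indep hA (Ne.symm hAZ) h1 hσ h2 rfl (e t).2]
  by_cases hl : C ∈ D.line Φ.Z A
  swap
  · exact ncol hA hC hAZ hl hσ
  obtain ⟨B, hB, hBl⟩ := Φ.exists_off_line (Ne.symm hAZ)
  have hZB : Φ.Z ≠ B := fun e' => hBl (e' ▸ D.left_mem_line _ _)
  have hAB : A ≠ B := fun e' => hBl (e' ▸ D.right_mem_line _ _)
  obtain ⟨x₀, hx₀, hx₀1⟩ := D.exists_cmpt_ne_one hK Φ.hO hA
  obtain ⟨b, hb, hb1⟩ := D.exists_cmpt_ne_one hK Φ.hO hB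
  obtain ⟨h, hh, hhb⟩ := D.exists_shear hK Φ.hO hB hA (Ne.symm hAB) hx₀ hx₀1 hb
  have hCB : C ≠ B := fun e' => hBl (e' ▸ hl)
  obtain ⟨g, hg, hgb⟩ := D.exists_shear hK Φ.hO hC hB hCB hb hb1 (Φ.del_mem hσ hx₀.1)
  have hCl : C ∉ D.line A B := fun h' => hBl (by
    rw [← D.line_eq (Ne.symm hAZ) (D.right_mem_line _ _) hl hAC,
      D.line_eq hAB (D.left_mem_line _ _) h' hAC]
    exact D.right_mem_line _ _)
  have hCl' : C ∉ D.line Φ.Z B := fun h' => hBl (by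
    rw [← D.line_eq (Ne.symm hAZ) (D.left_mem_line _ _) hl (Ne.symm hCZ),
      D.line_eq hZB (D.left_mem_line _ _) h' (Ne.symm hCZ)]
    exact D.right_mem_line _ _)
  obtain ⟨π, hπ, hπd⟩ := D.shear_comp hK Φ.hO hA hB hC hAB hCl hh hg
  obtain ⟨w₁, hw₁⟩ := ncol hA hB hAZ hBl hh
  obtain ⟨w₂, hw₂⟩ := ncol hB hC (Ne.symm hZB) hCl' hg
  refine ⟨w₂ * w₁, fun t => ?_⟩
  have hv : Φ.io e A t ∈ Φ.cp A := Φ.iota_mem hA (e t).2
  rw [D.shear_ext hK Φ.hO hA (Ne.symm hAC) hσ hπ hx₀ hx₀1 (by rw [hπd _ hx₀, hhb, hgb]) hv,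
    hπd _ hv, hw₁, hw₂, mul_assoc]

end scalars

end Frame

end Design

end Cfsg.Lib.ItoDesign
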