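import Cfsg.Agent.ItoDesign.Translations

/-!
# Shears with axis through the origin, acting on the translation group of `S₀`
-/

set_option autoImplicit false
set_option linter.style.haveILetI false
set_option linter.unusedSectionVars false
set_option linter.unusedVariables false

open MulAction

namespace Cfsg.Lib.ItoDesign

universe u v w

variable {G : Type u} {X : Type v} {Y : Type w} [Group G] [MulAction G X] [MulAction G Y]
  [Fintype X] [Fintype Y] [Fintype G]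

namespace Design

variable (D : Design G X Y) (hK : ∀ B : X, D.K B ≠ ⊥) {S₀ : Y} {O : X}

/-- translations of `S₀` with centre `C` -/
def cmpt (S₀ : Y) (C : X) : Subgroup G := D.T hK S₀ ⊓ D.K C

/-- a shear: centre `C` on `S₀`, axis through `O` and `C` -/
def Shear (S₀ : Y) (O C : X) (τ : G) : Prop :=
  ∃ H, D.inc O H ∧ D.inc C H ∧ D.inc C S₀ ∧ τ ∈ D.T hK H ∧ τ ∈ D.K C

/-- `δ τ t = [τ, t]` -/
def del (τ t : G) : G := τ * t * τ⁻¹ * t⁻¹

lemma Shear.centre {C : X} {τ : G} (h : D.Shear hK S₀ O C τ) : τ ∈ D.K C ∧ D.inc C S₀ := by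
  obtain ⟨H, -, -, hC, -, h⟩ := h; exact ⟨h, hC⟩

lemma Shear.smul_O {C : X} {τ : G} (h : D.Shear hK S₀ O C τ) : τ • O = O := by
  obtain ⟨H, hO, -, -, hT, -⟩ := h; exact D.smul_eq_of_T hK hT hO

lemma Shear.smul_S {C : X} {τ : G} (h : D.Shear hK S₀ O C τ) : τ • S₀ = S₀ :=
  h.centre.1.2 S₀ h.centre.2

lemma shear_one {C : X} (hC : D.inc C S₀) : D.Shear hK S₀ O C 1 := by
  have : ∃ H, D.inc O H ∧ D.inc C H := by
    by_cases h : O = C
    · subst h; exact ⟨S₀, hC, hC⟩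
    · obtain ⟨H, hH⟩ := Finset.card_pos.1 (show 0 < (D.hys2 O C).card by
        rw [D.card_hys2 h]; exact D.one_le_lam)
      exact ⟨H, (D.mem_hys2.1 hH).1, (D.mem_hys2.1 hH).2⟩
  obtain ⟨H, h1, h2⟩ := this
  exact ⟨H, h1, h2, hC, one_mem _, one_mem _⟩

include hK in
lemma eq_of_T {S : Y} {a b : G} (ha : a ∈ D.T hK S) (hb : b ∈ D.T hK S) {x : X}
    (hx : ¬ D.inc x S) (h : a • x = b • x) : a = b := by
  have := D.eq_one_of_T hK (mul_mem (inv_mem hb) ha) hx (by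
    rw [mul_smul]; exact inv_smul_eq_iff.2 h)
  rwa [inv_mul_eq_one, eq_comm] at this

lemma conj_shear_T {C : X} {τ t : G} (h : D.Shear hK S₀ O C τ) (ht : t ∈ D.T hK S₀) :
    τ * t * τ⁻¹ ∈ D.T hK S₀ := by
  have := D.conj_mem_T hK (g := τ) ht
  rwa [h.smul_S] at this

lemma conj_smul_O {C : X} {τ t : G} (h : D.Shear hK S₀ O C τ) :
    (τ * t * τ⁻¹) • O = τ • t • O := by
  rw [mul_smul, mul_smul, inv_smul_eq_iff.2 (h.smul_O).symm]

lemma del_mem {C : X} {τ t : G} (h : D.Shear hK S₀ O C τ) (ht : t ∈ D.T hK S₀) :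
    del τ t ∈ D.cmpt hK S₀ C := by
  refine Subgroup.mem_inf.2 ⟨mul_mem (D.conj_shear_T hK h ht) (inv_mem ht), ?_⟩
  have h1 := D.conj_mem_K (g := t) (inv_mem h.centre.1)
  rw [D.smul_eq_of_T hK ht h.centre.2] at h1
  have := mul_mem h.centre.1 h1
  rwa [show τ * (t * τ⁻¹ * t⁻¹) = del τ t by rw [del]; group] at this

lemma del_mul {C : X} {τ s t : G} (h : D.Shear hK S₀ O C τ) (hs : s ∈ D.T hK S₀)
    (ht : t ∈ D.T hK S₀) : del τ (s * t) = del τ s * del τ t := by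
  have h1 := (D.del_mem hK h ht).1
  have e : del τ (s * t) = (τ * s * τ⁻¹) * (del τ t * s⁻¹) := by unfold del; group
  rw [e, D.T_comm hK h1 (inv_mem hs), ← mul_assoc]
  rfl

lemma conj_eq {τ t : G} : τ * t * τ⁻¹ = del τ t * t := by rw [del]; group

lemma del_one_right (τ : G) : del τ 1 = 1 := by simp [del]

lemma del_one_left (t : G) : del 1 t = 1 := by simp [del]

lemma del_eq_one_of_mem {C : X} {τ t : G} {H : Y} (hO : ¬ D.inc O S₀)
    (h : D.Shear hK S₀ O C τ) (hτ : τ ∈ D.T hK H) (ht : t ∈ D.T hK S₀) (htO : D.inc (t • O) H) :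
    del τ t = 1 := by
  have e : τ * t * τ⁻¹ = t := by
    refine D.eq_of_T hK (D.conj_shear_T hK h ht) ht hO ?_
    rw [D.conj_smul_O hK h, D.smul_eq_of_T hK hτ htO]
  rw [del, e, mul_inv_cancel]

lemma cmpt_smul_mem_line {C : X} {c : G} (hc : c ∈ D.cmpt hK S₀ C) : c • O ∈ D.line C O :=
  D.smul_mem_centre_line hc.2

lemma cmpt_smul_inc {C : X} {c : G} (hc : c ∈ D.cmpt hK S₀ C) {H : Y} (hOH : D.inc O H)
    (hCH : D.inc C H) : D.inc (c • O) H :=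
  D.mem_line.1 (D.cmpt_smul_mem_line hK hc) H hCH hOH

lemma smul_not_inc {S : Y} {t : G} (ht : t ∈ D.T hK S) {x : X} (hx : ¬ D.inc x S) :
    ¬ D.inc (t • x) S := fun h => hx (by
  rw [← D.inc_smul t, (D.mem_Ax.1 ht.1).1]; exact h)

include hK in
/-- an axis through `O`, `C`, `E` avoiding `Z` -/
lemma exists_axis_avoid (hO : ¬ D.inc O S₀) {C E Z : X} (hC : D.inc C S₀) (hE : D.inc E S₀)
    (hZ : D.inc Z S₀) (hZl : Z ∉ D.line C E) (hCE : C ≠ E) :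
    ∃ H, D.inc O H ∧ D.inc C H ∧ D.inc E H ∧ ¬ D.inc Z H := by
  by_contra hc
  push Not at hc
  have hOl : O ∉ D.line C E := fun h => hO (D.mem_pts.1 (D.line_subset_pts hC hE h))
  have hZp : Z ∈ D.plane C E O := D.mem_plane.2 fun S a b c => hc S c a b
  have e := D.hys3_eq hK hCE hOl hCE hZl (D.mem_plane.2 fun _ a _ _ => a)
    (D.mem_plane.2 fun _ _ b _ => b) hZp
  have : S₀ ∈ D.hys3 C E O := by rw [e]; exact D.mem_hys3.2 ⟨⟨hC, hE⟩, hZ⟩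
  exact hO (D.mem_hys3.1 this).2

include hK in
lemma exists_axis_avoid₂ (hO : ¬ D.inc O S₀) {C Z : X} (hC : D.inc C S₀) (hZ : D.inc Z S₀)
    (hCZ : C ≠ Z) : ∃ H, D.inc O H ∧ D.inc C H ∧ ¬ D.inc Z H := by
  by_contra hc
  push Not at hc
  have hZl : Z ∈ D.line O C := D.mem_line.2 fun S a b => hc S a b
  have hOC : O ≠ C := fun e => hO (e ▸ hC)
  apply hO
  have := D.line_subset_pts hC hZ
  rw [D.line_eq hOC (D.right_mem_line O C) hZl hCZ] at this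
  exact D.mem_pts.1 (this (D.left_mem_line O C))

lemma exists_shear_axis (hO : ¬ D.inc O S₀) {C Z : X} {H : Y} (hOH : D.inc O H) (hCH : D.inc C H)
    (hC : D.inc C S₀) (hZH : ¬ D.inc Z H) {d c : G} (hd : d ∈ D.cmpt hK S₀ Z) (hd1 : d ≠ 1)
    (hc : c ∈ D.cmpt hK S₀ C) :
    ∃ τ, τ ∈ D.T hK H ∧ τ ∈ D.K C ∧ D.Shear hK S₀ O C τ ∧ del τ d = c := by
  have hne : d • O ≠ O := fun e => hd1 (D.eq_one_of_T hK hd.1 hO e)
  have hOZ : O ≠ Z := fun e => hZH (e ▸ hOH)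
  have hx : ¬ D.inc (d • O) H := by
    intro h
    apply hZH
    have := D.line_subset_pts hOH h
    rw [D.line_eq (Ne.symm hOZ) (D.right_mem_line Z O) (D.cmpt_smul_mem_line hK hd) (Ne.symm hne)]
      at this
    exact D.mem_pts.1 (this (D.left_mem_line Z O))
  have hxC : C ≠ d • O := fun e => hx (e ▸ hCH)
  have hy : c • d • O ∈ D.line C (d • O) := D.smul_mem_centre_line hc.2
  have hyC : c • d • O ≠ C := fun e => D.smul_not_inc hK hc.1 (D.smul_not_inc hK hd.1 hO) (by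
    rw [e]; exact hC)
  have hx' : ¬ D.inc (c • d • O) H := by
    intro h
    apply hx
    have := D.line_subset_pts hCH h
    rw [D.line_eq hxC (D.left_mem_line C _) hy (Ne.symm hyC)] at this
    exact D.mem_pts.1 (this (D.right_mem_line C _))
  obtain ⟨τ, hτ, hτx⟩ := D.exists_T hK hx hx'
  have hτC : τ ∈ D.K C := D.mem_K_of_move hK hτ hx hCH (by rw [hτx]; exact hy)
  have hsh : D.Shear hK S₀ O C τ := ⟨H, hOH, hCH, hC, hτ, hτC⟩
  refine ⟨τ, hτ, hτC, hsh, ?_⟩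
  have e : τ * d * τ⁻¹ = c * d := by
    refine D.eq_of_T hK (D.conj_shear_T hK hsh hd.1) (mul_mem hc.1 hd.1) hO ?_
    rw [D.conj_smul_O hK hsh, hτx, mul_smul]
  rw [del, e, mul_inv_cancel_right]

lemma exists_shear (hO : ¬ D.inc O S₀) {C Z : X} (hC : D.inc C S₀) (hZ : D.inc Z S₀)
    (hCZ : C ≠ Z) {d c : G} (hd : d ∈ D.cmpt hK S₀ Z) (hd1 : d ≠ 1) (hc : c ∈ D.cmpt hK S₀ C) :
    ∃ τ, D.Shear hK S₀ O C τ ∧ del τ d = c := by
  obtain ⟨H, hOH, hCH, hZH⟩ := D.exists_axis_avoid₂ hK hO hC hZ hCZ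
  obtain ⟨τ, -, -, h1, h2⟩ := D.exists_shear_axis hK hO hOH hCH hC hZH hd hd1 hc
  exact ⟨τ, h1, h2⟩

/-- the action of a shear on a component only depends on one value -/
lemma shear_ext (hO : ¬ D.inc O S₀) {C Z : X} (hZ : D.inc Z S₀) (hCZ : C ≠ Z) {τ τ' : G}
    (hτ : D.Shear hK S₀ O C τ) (hτ' : D.Shear hK S₀ O C τ') {d : G} (hd : d ∈ D.cmpt hK S₀ Z)
    (hd1 : d ≠ 1) (h : del τ d = del τ' d) {d' : G} (hd' : d' ∈ D.cmpt hK S₀ Z) :
    del τ d' = del τ' d' := by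
  have hne : d • O ≠ O := fun e => hd1 (D.eq_one_of_T hK hd.1 hO e)
  have hOZ : Z ≠ O := fun e => hO (e ▸ hZ)
  have hl : D.line O (d • O) = D.line Z O :=
    D.line_eq hOZ (D.right_mem_line Z O) (D.cmpt_smul_mem_line hK hd) (Ne.symm hne)
  have hσ : τ'⁻¹ * τ ∈ D.K C := mul_mem (inv_mem hτ'.centre.1) hτ.centre.1
  have hC : C ∉ D.line Z O := fun h => hO (by
    have := D.line_subset_pts hZ hτ.centre.2
    rw [D.line_eq hOZ (D.left_mem_line Z O) h (Ne.symm hCZ)] at this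
    exact D.mem_pts.1 (this (D.right_mem_line Z O)))
  have e1 : τ * d * τ⁻¹ = τ' * d * τ'⁻¹ := by rw [conj_eq, h, ← conj_eq]
  have e1' : τ • d • O = τ' • d • O := by rw [← D.conj_smul_O hK hτ, e1, D.conj_smul_O hK hτ']
  have e2 : (τ'⁻¹ * τ) • (d' • O) = d' • O := by
    refine D.fixed_line hσ (Ne.symm hne) (by rw [hl]; exact hC) ?_ ?_
      (by rw [hl]; exact D.cmpt_smul_mem_line hK hd')
    · rw [mul_smul, hτ.smul_O, inv_smul_eq_iff.2 hτ'.smul_O.symm]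
    · rw [mul_smul, inv_smul_eq_iff]; exact e1'
  have e3 : τ * d' * τ⁻¹ = τ' * d' * τ'⁻¹ := by
    refine D.eq_of_T hK (D.conj_shear_T hK hτ hd'.1) (D.conj_shear_T hK hτ' hd'.1) hO ?_
    rw [D.conj_smul_O hK hτ, D.conj_smul_O hK hτ']
    rwa [mul_smul, inv_smul_eq_iff] at e2
  rw [del, del, e3]

/-- a shear is injective or trivial on each component -/
lemma shear_injective (hO : ¬ D.inc O S₀) {C Z : X} (hC : D.inc C S₀) (hZ : D.inc Z S₀)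
    (hCZ : C ≠ Z) {τ : G} (hτ : D.Shear hK S₀ O C τ) {d d' : G} (hd : d ∈ D.cmpt hK S₀ Z)
    (hd' : d' ∈ D.cmpt hK S₀ Z) (h : del τ d ≠ 1) (h' : del τ d' = 1) : d' = 1 := by
  by_contra hne
  apply h
  have := D.shear_ext hK hO hZ hCZ hτ (D.shear_one hK hC) hd' hne
    (by rw [h', del_one_left]) hd
  rw [this, del_one_left]

/-- composition of shears along a triangle in `S₀` -/
lemma shear_comp (hO : ¬ D.inc O S₀) {Z C E : X} (hZ : D.inc Z S₀) (hC : D.inc C S₀)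
    (hE : D.inc E S₀) (hZC : Z ≠ C) (hEl : E ∉ D.line Z C) {σ τ : G}
    (hσ : D.Shear hK S₀ O C σ) (hτ : D.Shear hK S₀ O E τ) :
    ∃ π, D.Shear hK S₀ O E π ∧ ∀ d ∈ D.cmpt hK S₀ Z, del π d = del τ (del σ d) := by
  classical
  have hEZ : E ≠ Z := fun e => hEl (e ▸ D.left_mem_line Z C)
  have hEC : E ≠ C := fun e => hEl (e ▸ D.right_mem_line Z C)
  by_cases hzero : ∀ d ∈ D.cmpt hK S₀ Z, del σ d = 1
  · exact ⟨1, D.shear_one hK hE, fun d hd => by rw [hzero d hd, del_one_left, del_one_right]⟩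
  push Not at hzero
  obtain ⟨d₁, hd₁, hd₁1⟩ := hzero
  have hd1 : d₁ ≠ 1 := fun e => hd₁1 (by rw [e, del_one_right])
  have hZl : Z ∉ D.line C E := fun h => hEl (by
    rw [D.line_comm Z C, D.line_eq (Ne.symm hEC) (D.left_mem_line C E) h (Ne.symm hZC)]
    exact D.right_mem_line C E)
  have hCl : C ∉ D.line E Z := fun h => hEl (by
    rw [D.line_eq hEZ (D.right_mem_line E Z) h hZC]
    exact D.left_mem_line E Z)
  obtain ⟨H, hOH, hCH, hEH, hZH⟩ := D.exists_axis_avoid hK hO hC hE hZ hZl (Ne.symm hEC)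
  obtain ⟨H', hOH', hEH', hZH', hCH'⟩ := D.exists_axis_avoid hK hO hE hZ hC hCl hEZ
  have hc₁ := D.del_mem hK hσ hd₁.1
  obtain ⟨σ', hσH, hσC, hσ', hσe⟩ := D.exists_shear_axis hK hO hOH hCH hC hZH hd₁ hd1 hc₁
  obtain ⟨τ', hτH, hτE, hτ', hτe⟩ := D.exists_shear_axis hK hO hOH' hEH' hE hCH' hc₁ hd₁1
    (D.del_mem hK hτ hc₁.1)
  have hπT : τ' * σ' * τ'⁻¹ * σ'⁻¹ ∈ D.T hK H := by
    refine mul_mem ?_ (inv_mem hσH)
    have := D.conj_mem_T hK (g := τ') hσH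
    rwa [hτE.2 H hEH] at this
  have hπK : τ' * σ' * τ'⁻¹ * σ'⁻¹ ∈ D.K E := by
    have h1 := D.conj_mem_K (g := σ') (inv_mem hτE)
    rw [D.smul_eq_of_T hK hσH hEH] at h1
    have := mul_mem hτE h1
    rwa [show τ' * (σ' * τ'⁻¹ * σ'⁻¹) = τ' * σ' * τ'⁻¹ * σ'⁻¹ by group] at this
  refine ⟨_, ⟨H, hOH, hEH, hE, hπT, hπK⟩, fun d hd => ?_⟩
  set c := del σ d with hcdef
  have hc := D.del_mem hK hσ hd.1
  rw [← hcdef] at hc
  have ea : del σ' d = c := D.shear_ext hK hO hZ (Ne.symm hZC) hσ' hσ hd₁ hd1 hσe hd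
  set e := del τ c with hedef
  have he := D.del_mem hK hτ hc.1
  rw [← hedef] at he
  have eb : del τ' c = e := D.shear_ext hK hO hC hEC hτ' hτ hc₁ hd₁1 hτe hc
  -- values of the two conjugations
  have fixσ : ∀ x, x ∈ D.T hK S₀ → D.inc (x • O) H → σ' * x * σ'⁻¹ = x := fun x hx hxH => by
    rw [conj_eq, D.del_eq_one_of_mem hK hO hσ' hσH hx hxH, one_mul]
  have fixτ : ∀ x, x ∈ D.T hK S₀ → D.inc (x • O) H' → τ' * x * τ'⁻¹ = x := fun x hx hxH => by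
    rw [conj_eq, D.del_eq_one_of_mem hK hO hτ' hτH hx hxH, one_mul]
  have s1 : σ' * d * σ'⁻¹ = c * d := by rw [conj_eq, ea]
  have s2 : σ' * c * σ'⁻¹ = c := fixσ c hc.1 (D.cmpt_smul_inc hK hc hOH hCH)
  have s3 : σ' * e * σ'⁻¹ = e := fixσ e he.1 (D.cmpt_smul_inc hK he hOH hEH)
  have t1 : τ' * c * τ'⁻¹ = e * c := by rw [conj_eq, eb]
  have t2 : τ' * d * τ'⁻¹ = d := fixτ d hd.1 (D.cmpt_smul_inc hK hd hOH' hZH')
  have t3 : τ' * e * τ'⁻¹ = e := fixτ e he.1 (D.cmpt_smul_inc hK he hOH' hEH')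
  have s1' : σ'⁻¹ * d * σ' = c⁻¹ * d := by
    have : d = σ' * (c⁻¹ * d) * σ'⁻¹ := by
      rw [show σ' * (c⁻¹ * d) * σ'⁻¹ = (σ' * c * σ'⁻¹)⁻¹ * (σ' * d * σ'⁻¹) by group, s1, s2,
        inv_mul_cancel_left]
    conv_lhs => rw [this]
    group
  have hec : e * c⁻¹ = c⁻¹ * e := D.T_comm hK he.1 (inv_mem hc.1)
  have t1' : τ'⁻¹ * (c⁻¹ * d) * τ' = c⁻¹ * e * d := by
    have : c⁻¹ * d = τ' * (c⁻¹ * e * d) * τ'⁻¹ := by
      rw [show τ' * (c⁻¹ * e * d) * τ'⁻¹ =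
        (τ' * c * τ'⁻¹)⁻¹ * (τ' * e * τ'⁻¹) * (τ' * d * τ'⁻¹) by group, t1, t2, t3]
      group
    conv_lhs => rw [this]
    group
  have key : (τ' * σ' * τ'⁻¹ * σ'⁻¹) * d * (τ' * σ' * τ'⁻¹ * σ'⁻¹)⁻¹ = e * d := by
    calc (τ' * σ' * τ'⁻¹ * σ'⁻¹) * d * (τ' * σ' * τ'⁻¹ * σ'⁻¹)⁻¹
        = τ' * (σ' * (τ'⁻¹ * (σ'⁻¹ * d * σ') * τ') * σ'⁻¹) * τ'⁻¹ := by group
      _ = τ' * (σ' * (c⁻¹ * e * d) * σ'⁻¹) * τ'⁻¹ := by rw [s1', t1']
      _ = τ' * ((σ' * c * σ'⁻¹)⁻¹ * (σ' * e * σ'⁻¹) * (σ' * d * σ'⁻¹)) * τ'⁻¹ := by group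
      _ = τ' * (c⁻¹ * e * (c * d)) * τ'⁻¹ := by rw [s1, s2, s3]
      _ = τ' * (e * d) * τ'⁻¹ := by
          rw [← hec, show e * c⁻¹ * (c * d) = e * d by group]
      _ = (τ' * e * τ'⁻¹) * (τ' * d * τ'⁻¹) := by group
      _ = e * d := by rw [t3, t2]
  rw [del, key, mul_inv_cancel_right]

end Design

end Cfsg.Lib.ItoDesign
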