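import Cfsg.Agent.ItoDesign.Counting

/-!
# The projective geometry of a design with central collineations
-/

set_option autoImplicit false
set_option linter.style.haveILetI false
set_option linter.unusedSectionVars false

open MulAction

namespace Cfsg.Lib.ItoDesign

universe u v w

variable {G : Type u} {X : Type v} {Y : Type w} [Group G] [MulAction G X] [MulAction G Y]
  [Fintype X] [Fintype Y] [Fintype G]

namespace Design

variable (D : Design G X Y) (hK : ∀ B : X, D.K B ≠ ⊥)

include hK in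
lemma two_le_m' : 2 ≤ D.m := by
  obtain ⟨B⟩ : Nonempty X := Fintype.card_pos_iff.1 (by have := D.k_add_two; omega)
  obtain ⟨⟨h, hh⟩, h1⟩ := Subgroup.ne_bot_iff_exists_ne_one.1 (hK B)
  exact D.two_le_m hh fun e => h1 (Subtype.ext e)

include hK in
lemma full : D.Full := by
  obtain ⟨B⟩ : Nonempty X := Fintype.card_pos_iff.1 (by have := D.k_add_two; omega)
  exact D.full_of_K (hK B)

include hK in
lemma three_le_k : 3 ≤ D.k := by
  have hF := D.full hK
  rw [Full] at hF
  have := Nat.mul_le_mul (D.two_le_m' hK) D.one_le_lam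
  omega

include hK in
lemma n_eq : D.n = D.k * D.m + 1 := by
  have hF := D.full hK
  rw [Full] at hF
  have hb := D.basic
  refine Nat.eq_of_mul_eq_mul_left (show 0 < D.lam from D.one_le_lam) ?_
  nlinarith

include hK in
lemma exists_mem (x y : X) (hxy : x ≠ y) (S : Y) : ∃ z ∈ D.line x y, D.inc z S :=
  D.exists_mem_of_full (D.full hK) hxy S

/-! ### planes -/

open scoped Classical in
/-- hyperplanes through three points -/
noncomputable def hys3 (x y z : X) : Finset Y := (D.hys2 x y).filter fun S => D.inc z S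

@[simp] lemma mem_hys3 {x y z : X} {S : Y} :
    S ∈ D.hys3 x y z ↔ (D.inc x S ∧ D.inc y S) ∧ D.inc z S := by simp [hys3]

open scoped Classical in
/-- the plane through three points -/
noncomputable def plane (x y z : X) : Finset X :=
  Finset.univ.filter fun p => ∀ S, D.inc x S → D.inc y S → D.inc z S → D.inc p S

lemma mem_plane {x y z p : X} :
    p ∈ D.plane x y z ↔ ∀ S, D.inc x S → D.inc y S → D.inc z S → D.inc p S := by simp [plane]

lemma line_subset_plane {x y z u v : X} (hu : u ∈ D.plane x y z) (hv : v ∈ D.plane x y z) :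
    D.line u v ⊆ D.plane x y z := fun _ hp => D.mem_plane.2 fun S a b c =>
  D.mem_line.1 hp S (D.mem_plane.1 hu S a b c) (D.mem_plane.1 hv S a b c)

include hK in
lemma card_hys3 {x y z : X} (hxy : x ≠ y) (hz : z ∉ D.line x y) :
    D.k + D.m * (D.hys3 x y z).card = D.lam * (D.m + 1) := by
  classical
  have hzw : ∀ w ∈ D.line x y, z ≠ w := fun w hw e => hz (e ▸ hw)
  have hsub : ∀ w ∈ D.line x y, D.hys3 x y z ⊆ D.hys2 z w := fun w hw S hS => by
    simp only [mem_hys3, mem_hys2] at hS ⊢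
    exact ⟨hS.2, D.mem_line.1 hw S hS.1.1 hS.1.2⟩
  have e : D.hys z = ((D.line x y).biUnion fun w => D.hys2 z w \ D.hys3 x y z) ∪ D.hys3 x y z := by
    ext S
    simp only [mem_hys, Finset.mem_union, Finset.mem_biUnion, Finset.mem_sdiff, mem_hys2]
    constructor
    · intro hS
      obtain ⟨w, hw, hwS⟩ := D.exists_mem hK x y hxy S
      by_cases h : S ∈ D.hys3 x y z
      · exact Or.inr h
      · exact Or.inl ⟨w, hw, ⟨hS, hwS⟩, h⟩
    · rintro (⟨w, -, ⟨hS, -⟩, -⟩ | h)
      · exact hS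
      · exact (D.mem_hys3.1 h).2
  have hd : Disjoint ((D.line x y).biUnion fun w => D.hys2 z w \ D.hys3 x y z) (D.hys3 x y z) := by
    rw [Finset.disjoint_left]
    intro S hS h
    simp only [Finset.mem_biUnion, Finset.mem_sdiff] at hS
    obtain ⟨w, -, -, h'⟩ := hS
    exact h' h
  have hc := D.card_hys z
  rw [e, Finset.card_union_of_disjoint hd, Finset.card_biUnion, Finset.sum_congr rfl (fun w hw => by
    rw [Finset.card_sdiff_of_subset (hsub w hw), D.card_hys2 (hzw w hw)]), Finset.sum_const,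
    smul_eq_mul, D.card_line hxy] at hc
  · obtain ⟨e', he'⟩ : ∃ e', D.lam = (D.hys3 x y z).card + e' := ⟨_, (Nat.add_sub_of_le (by
      rw [← D.card_hys2 (hzw x (D.left_mem_line x y))]
      exact Finset.card_le_card (hsub x (D.left_mem_line x y)))).symm⟩
    rw [he', Nat.add_sub_cancel_left] at hc
    rw [← hc, he']
    ring
  · intro a ha b hb hab
    rw [Function.onFun, Finset.disjoint_left]
    intro S hSa hSb
    simp only [Finset.mem_sdiff, mem_hys2, mem_hys3] at hSa hSb
    apply hSa.2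
    have hsub' := D.line_subset_pts hSa.1.2 hSb.1.2
    rw [D.line_eq hxy ha hb hab] at hsub'
    exact ⟨⟨D.mem_pts.1 (hsub' (D.left_mem_line x y)),
      D.mem_pts.1 (hsub' (D.right_mem_line x y))⟩, hSa.1.1⟩

include hK in
lemma hys3_eq {x y z x' y' z' : X} (hxy : x ≠ y) (hz : z ∉ D.line x y) (hxy' : x' ≠ y')
    (hz' : z' ∉ D.line x' y') (hx : x' ∈ D.plane x y z) (hy : y' ∈ D.plane x y z)
    (hp : z' ∈ D.plane x y z) : D.hys3 x y z = D.hys3 x' y' z' := by
  refine Finset.eq_of_subset_of_card_le (fun S hS => ?_) ?_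
  · rw [mem_hys3] at hS ⊢
    exact ⟨⟨D.mem_plane.1 hx S hS.1.1 hS.1.2 hS.2, D.mem_plane.1 hy S hS.1.1 hS.1.2 hS.2⟩,
      D.mem_plane.1 hp S hS.1.1 hS.1.2 hS.2⟩
  · refine Nat.le_of_mul_le_mul_left (c := D.m) ?_ (by have := D.two_le_m' hK; omega)
    have h1 := D.card_hys3 hK hxy hz
    have h2 := D.card_hys3 hK hxy' hz'
    omega

include hK in
lemma line_meets_plane_line {x y z u v : X} (hxy : x ≠ y) (hz : z ∉ D.line x y) (huv : u ≠ v)
    (hu : u ∈ D.plane x y z) (hv : v ∈ D.plane x y z) : ∃ w ∈ D.line u v, w ∈ D.line x y := by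
  classical
  obtain ⟨S, hS, hzS⟩ : ∃ S ∈ D.hys2 x y, S ∉ D.hys3 x y z := by
    refine Finset.exists_mem_notMem_of_card_lt_card ?_
    rw [D.card_hys2 hxy]
    by_contra hc
    have h1 := D.card_hys3 hK hxy hz
    have := Nat.mul_le_mul_left D.m (not_lt.1 hc)
    have := D.lam_lt
    rw [Nat.mul_add, mul_one, mul_comm D.lam] at h1
    omega
  rw [mem_hys2] at hS
  obtain ⟨w, hw, hwS⟩ := D.exists_mem hK u v huv S
  refine ⟨w, hw, ?_⟩
  by_contra hwl
  have hwp : w ∈ D.plane x y z := D.line_subset_plane hu hv hw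
  have e := D.hys3_eq hK hxy hz hxy hwl (D.mem_plane.2 fun _ a _ _ => a)
    (D.mem_plane.2 fun _ _ b _ => b) hwp
  apply hzS
  rw [e]
  exact D.mem_hys3.2 ⟨hS, hwS⟩

include hK in
/-- the axiom of Veblen and Young -/
lemma veblen {o a b c d : X} (hab : a ≠ b) (ho : o ∉ D.line a b) (hcd : c ≠ d)
    (hc : c ∈ D.line o a) (hd : d ∈ D.line o b) : ∃ w ∈ D.line c d, w ∈ D.line a b :=
  D.line_meets_plane_line hK hab ho hcd
    (D.mem_plane.2 fun S ha _ ho' => D.mem_line.1 hc S ho' ha)
    (D.mem_plane.2 fun S _ hb ho' => D.mem_line.1 hd S ho' hb)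

include hK in
/-- two lines of a plane meet -/
lemma lines_meet {x y z u v u' v' : X} (hxy : x ≠ y) (hz : z ∉ D.line x y)
    (huv : u ≠ v) (hu : u ∈ D.plane x y z) (hv : v ∈ D.plane x y z)
    (huv' : u' ≠ v') (hu' : u' ∈ D.plane x y z) (hv' : v' ∈ D.plane x y z) :
    ∃ w ∈ D.line u v, w ∈ D.line u' v' := by
  classical
  have hpl : ∀ {p : X}, p ∈ D.plane x y z → p ∉ D.line u' v' →
      ∃ w ∈ D.line u v, w ∈ D.line u' v' := by
    intro p hp hpl'
    have e := D.hys3_eq hK hxy hz huv' hpl' hu' hv' hp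
    have hmem : ∀ {q : X}, q ∈ D.plane x y z → q ∈ D.plane u' v' p := fun {q} hq =>
      D.mem_plane.2 fun S a b c => by
        have hS : S ∈ D.hys3 x y z := e ▸ D.mem_hys3.2 ⟨⟨a, b⟩, c⟩
        rw [mem_hys3] at hS
        exact D.mem_plane.1 hq S hS.1.1 hS.1.2 hS.2
    exact D.line_meets_plane_line hK huv' hpl' huv (hmem hu) (hmem hv)
  by_cases h1 : x ∈ D.line u' v'
  · by_cases h2 : y ∈ D.line u' v'
    · refine hpl (D.mem_plane.2 fun _ _ _ c => c) fun h3 => hz ?_
      rw [D.line_eq huv' h1 h2 hxy]; exact h3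
    · exact hpl (D.mem_plane.2 fun _ _ b _ => b) h2
  · exact hpl (D.mem_plane.2 fun _ a _ _ => a) h1

/-! ### closed sets of the size of a hyperplane -/

include hK in
lemma closed_meets {Φ : Finset X} (hcl : ∀ a ∈ Φ, ∀ b ∈ Φ, a ≠ b → D.line a b ⊆ Φ)
    (hcard : Φ.card = D.k) {z y : X} (hz : z ∉ Φ) (hy : y ≠ z) : ∃ w ∈ Φ, y ∈ D.line z w := by
  classical
  have hzw : ∀ w ∈ Φ, z ≠ w := fun w hw e => hz (e ▸ hw)
  have hU : Φ.biUnion (fun w => (D.line z w).erase z) = Finset.univ.erase z := by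
    refine Finset.eq_of_subset_of_card_le (fun p hp => ?_) ?_
    · simp only [Finset.mem_biUnion, Finset.mem_erase] at hp
      obtain ⟨w, -, hp, -⟩ := hp
      exact Finset.mem_erase.2 ⟨hp, Finset.mem_univ p⟩
    rw [Finset.card_biUnion, Finset.sum_congr rfl (g := fun _ => D.m) (fun w hw => by
      rw [Finset.card_erase_of_mem (D.left_mem_line z w), D.card_line (hzw w hw),
        Nat.add_sub_cancel]), Finset.sum_const, smul_eq_mul,
      Finset.card_erase_of_mem (Finset.mem_univ z), Finset.card_univ, hcard]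
    · have := D.n_eq hK
      rw [n] at this
      omega
    · intro a ha b hb hab
      rw [Function.onFun, Finset.disjoint_left]
      intro p hpa hpb
      simp only [Finset.mem_erase] at hpa hpb
      apply hz
      have e : D.line z a = D.line z b := by
        rw [← D.line_eq_of_mem (hzw a ha) hpa.2 hpa.1, D.line_eq_of_mem (hzw b hb) hpb.2 hpb.1]
      apply hcl a ha b hb hab
      rw [D.line_eq (hzw a ha) (D.right_mem_line z a) (e ▸ D.right_mem_line z b) hab]
      exact D.left_mem_line z a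
  have : y ∈ Φ.biUnion (fun w => (D.line z w).erase z) := by
    rw [hU]; exact Finset.mem_erase.2 ⟨hy, Finset.mem_univ y⟩
  simp only [Finset.mem_biUnion, Finset.mem_erase] at this
  obtain ⟨w, hw, -, hyw⟩ := this
  exact ⟨w, hw, hyw⟩

include hK in
/-- a closed set with `k` points is a hyperplane -/
lemma eq_pts_of_closed {Φ : Finset X} (hcl : ∀ a ∈ Φ, ∀ b ∈ Φ, a ≠ b → D.line a b ⊆ Φ)
    (hcard : Φ.card = D.k) : ∃ S, D.pts S = Φ := by
  classical
  by_contra hne
  push Not at hne
  obtain ⟨B, hB⟩ := Finset.card_pos.1 (show 0 < Φ.card by rw [hcard]; exact D.one_le_k)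
  have hF := D.full hK
  rw [Full] at hF
  have hinter : ∀ S, (Φ ∩ D.pts S).card = D.lam := by
    intro S
    obtain ⟨z, hzS, hzΦ⟩ : ∃ z ∈ D.pts S, z ∉ Φ := by
      by_contra hc
      push Not at hc
      exact hne S (Finset.eq_of_subset_of_card_le hc (by rw [hcard, D.card_pts]))
    have hzw : ∀ w ∈ Φ ∩ D.pts S, z ≠ w := fun w hw e => hzΦ (e ▸ (Finset.mem_inter.1 hw).1)
    have hU : (Φ ∩ D.pts S).biUnion (fun w => (D.line z w).erase z) = (D.pts S).erase z := by
      ext p
      simp only [Finset.mem_biUnion, Finset.mem_erase, Finset.mem_inter]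
      constructor
      · rintro ⟨w, ⟨-, hwS⟩, hp, hpl⟩
        exact ⟨hp, D.line_subset_pts (D.mem_pts.1 hzS) (D.mem_pts.1 hwS) hpl⟩
      · rintro ⟨hp, hpS⟩
        obtain ⟨w, hw, hpw⟩ := D.closed_meets hK hcl hcard hzΦ hp
        have hzw' : z ≠ w := fun e => hzΦ (e ▸ hw)
        refine ⟨w, ⟨hw, ?_⟩, hp, hpw⟩
        apply D.line_subset_pts (D.mem_pts.1 hzS) (D.mem_pts.1 hpS)
        rw [D.line_eq_of_mem hzw' hpw hp]
        exact D.right_mem_line z w
    have hc := congrArg Finset.card hU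
    rw [Finset.card_biUnion, Finset.sum_congr rfl (g := fun _ => D.m) (fun w hw => by
      rw [Finset.card_erase_of_mem (D.left_mem_line z w), D.card_line (hzw w hw),
        Nat.add_sub_cancel]), Finset.sum_const, smul_eq_mul,
      Finset.card_erase_of_mem hzS, D.card_pts] at hc
    · refine Nat.eq_of_mul_eq_mul_right (show 0 < D.m by have := D.two_le_m' hK; omega) ?_
      rw [hc, mul_comm D.lam]
      omega
    · intro a ha b hb hab
      rw [Function.onFun, Finset.disjoint_left]
      intro p hpa hpb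
      simp only [Finset.mem_erase] at hpa hpb
      apply hzΦ
      have e : D.line z a = D.line z b := by
        rw [← D.line_eq_of_mem (hzw a ha) hpa.2 hpa.1, D.line_eq_of_mem (hzw b hb) hpb.2 hpb.1]
      apply hcl a (Finset.mem_inter.1 ha).1 b (Finset.mem_inter.1 hb).1 hab
      rw [D.line_eq (hzw a ha) (D.right_mem_line z a) (e ▸ D.right_mem_line z b) hab]
      exact D.left_mem_line z a
  have h1 : ∑ S ∈ D.hys B, (Φ ∩ D.pts S).card = D.k * D.lam := by
    rw [Finset.sum_congr rfl (fun S _ => hinter S), Finset.sum_const, smul_eq_mul, D.card_hys]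
  have h2 : ∑ S ∈ D.hys B, (Φ ∩ D.pts S).card = D.k + (D.k - 1) * D.lam := by
    have e : ∀ S, Φ ∩ D.pts S = Φ.filter (fun w => D.inc w S) := fun S => by ext; simp
    simp only [e, Finset.card_filter]
    rw [Finset.sum_comm, ← Finset.add_sum_erase Φ _ hB]
    congr 1
    · rw [← Finset.card_filter, Finset.filter_true_of_mem (fun S hS => D.mem_hys.1 hS), D.card_hys]
    · rw [Finset.sum_congr rfl (g := fun _ => D.lam) (fun w hw => by
        rw [← Finset.card_filter, ← D.card_hys2 (Ne.symm (Finset.ne_of_mem_erase hw))]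
        congr 1
        ext S; simp), Finset.sum_const, smul_eq_mul, Finset.card_erase_of_mem hB, hcard]
  obtain ⟨k', hk'⟩ : ∃ j, D.k = j + 1 := ⟨D.k - 1, by have := D.one_le_k; omega⟩
  rw [h1, hk', Nat.add_sub_cancel, add_mul, one_mul] at h2
  have := D.lam_lt
  omega

/-! ### axes -/

include hK in
/-- fixing a hyperplane pointwise fixes it -/
lemma smul_eq_of_fix {g : G} {S : Y} (h : ∀ x, D.inc x S → g • x = x) : g • S = S := by
  classical
  by_contra hne
  have := Finset.card_le_card (show D.pts S ⊆ D.pts S ∩ D.pts (g • S) from fun x hx =>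
    Finset.mem_inter.2 ⟨hx, D.mem_pts.2 (by
      have hx' := (D.inc_smul g x S).2 (D.mem_pts.1 hx)
      rwa [h x (D.mem_pts.1 hx)] at hx')⟩)
  rw [D.card_inter (Ne.symm hne), D.card_pts] at this
  have := D.lam_lt
  omega

include hK in
lemma fixed_third {B P R Q : X} {h : G} (hh : h ∈ D.K B) (hP : h • P = P) (hR : h • R = R)
    (hQ : h • Q = Q) (hPB : P ≠ B) (hRB : R ≠ B) (hRP : R ≠ P) (hRl : R ∈ D.line B P)
    (hQl : Q ∉ D.line B P) {y : X} (hy : y ∈ D.line B Q) : h • y = y := by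
  classical
  have hQB : Q ≠ B := fun e => hQl (e ▸ D.left_mem_line B P)
  have hQP : Q ≠ P := fun e => hQl (e ▸ D.right_mem_line B P)
  have hBR : D.line B R = D.line B P := D.line_eq_of_mem (Ne.symm hPB) hRl hRB
  have hQR : Q ≠ R := fun e => hQl (e ▸ hRl)
  have hBRQ : B ∉ D.line R Q := fun h' => hQl (by
    rw [← hBR, D.line_eq (Ne.symm hQR) h' (D.left_mem_line R Q) (Ne.symm hRB)]
    exact D.right_mem_line R Q)
  have hBPQ : B ∉ D.line P Q := fun h' => hQl (by
    rw [D.line_eq (Ne.symm hQP) h' (D.left_mem_line P Q) (Ne.symm hPB)]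
    exact D.right_mem_line P Q)
  obtain ⟨T, hT, hTn⟩ : ∃ T ∈ D.line R Q, T ∉ ({R, Q} : Finset X) :=
    Finset.exists_mem_notMem_of_card_lt_card (by
      rw [D.card_line (Ne.symm hQR), Finset.card_pair (Ne.symm hQR)]
      have := D.two_le_m' hK; omega)
  simp only [Finset.mem_insert, Finset.mem_singleton, not_or] at hTn
  have hTf : h • T = T := D.fixed_line hh (Ne.symm hQR) hBRQ hR hQ hT
  have hTBQ : T ∉ D.line B Q := fun h' => hBRQ (by
    rw [← D.line_eq (Ne.symm hQR) hT (D.right_mem_line R Q) hTn.2,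
      D.line_eq (Ne.symm hQB) h' (D.right_mem_line B Q) hTn.2]
    exact D.left_mem_line B Q)
  have hTPQ : T ∉ D.line P Q := fun h' => hBPQ (by
    have e : D.line P Q = D.line R Q := by
      rw [← D.line_eq (Ne.symm hQP) h' (D.right_mem_line P Q) hTn.2,
        D.line_eq (Ne.symm hQR) hT (D.right_mem_line R Q) hTn.2]
    have hR' : R ∈ D.line P Q := e ▸ D.left_mem_line R Q
    rw [← D.line_eq (Ne.symm hQP) (D.left_mem_line P Q) hR' (Ne.symm hRP),
      D.line_eq (Ne.symm hPB) (D.right_mem_line B P) hRl (Ne.symm hRP)]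
    exact D.left_mem_line B P)
  by_cases hyB : y = B
  · rw [hyB]; exact hh.1
  have hTy : T ≠ y := fun e => hTBQ (e ▸ hy)
  -- all points considered lie in the plane of `B`, `P`, `Q`
  have hBp : B ∈ D.plane B P Q := D.mem_plane.2 fun _ a _ _ => a
  have hQp : Q ∈ D.plane B P Q := D.mem_plane.2 fun _ _ _ c => c
  have hPp : P ∈ D.plane B P Q := D.mem_plane.2 fun _ _ b _ => b
  have hRp : R ∈ D.plane B P Q := D.line_subset_plane hBp hPp hRl
  have hTp : T ∈ D.plane B P Q := D.line_subset_plane hRp hQp hT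
  have hyp : y ∈ D.plane B P Q := D.line_subset_plane hBp hQp hy
  obtain ⟨w, hw, hw'⟩ := D.lines_meet hK (Ne.symm hPB) hQl hTy hTp hyp (Ne.symm hQP) hPp hQp
  have hwT : w ≠ T := fun e => hTPQ (e ▸ hw')
  have hwf : h • w = w := D.fixed_line hh (Ne.symm hQP) hBPQ hP hQ hw'
  have hl : D.line T w = D.line T y := D.line_eq_of_mem hTy hw hwT
  have h1 : h • y ∈ D.line T y := by
    have := (D.smul_mem_line (g := h) (x := T) (y := w) (z := y)).2
      (by rw [hl]; exact D.right_mem_line T y)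
    rwa [hTf, hwf, hl] at this
  have h2 : h • y ∈ D.line B Q := D.smul_mem_centre_line' hh hy
  by_contra hne
  apply hTBQ
  rw [← D.line_eq (Ne.symm hQB) hy h2 (Ne.symm hne),
    D.line_eq hTy (D.right_mem_line T y) h1 (Ne.symm hne)]
  exact D.left_mem_line T y

include hK in
/-- every central collineation has an axis -/
theorem exists_axis {B : X} {h : G} (hh : h ∈ D.K B) (h1 : h ≠ 1) :
    ∃ S, ∀ x, D.inc x S → h • x = x := by
  classical
  by_cases hhom : ∃ S, ¬ D.inc B S ∧ h • S = S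
  · obtain ⟨S, hBS, hS⟩ := hhom
    exact ⟨S, fun x hx => D.fixed_hyp hh hBS hS hx⟩
  push Not at hhom
  set Φ : Finset X := Finset.univ.filter (fun x => h • x = x) with hΦ
  have hmem : ∀ {x : X}, x ∈ Φ ↔ h • x = x := by simp [hΦ]
  have hcard : Φ.card = D.k := by
    have e : (Finset.univ.filter fun S : Y => h • S = S) = D.hys B := by
      ext S
      simp only [Finset.mem_filter, Finset.mem_univ, true_and, mem_hys]
      exact ⟨fun hS => by_contra fun hn => hhom S hn hS, fun hS => hh.2 S hS⟩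
    have := D.fix_eq h
    rw [Nat.card_eq_fintype_card, Nat.card_eq_fintype_card, Fintype.card_subtype,
      Fintype.card_subtype, e, D.card_hys] at this
    exact this
  have hB : B ∈ Φ := hmem.2 hh.1
  have hm2 := D.two_le_m' hK
  have hclosed : ∀ a ∈ Φ, ∀ b ∈ Φ, a ≠ b → D.line a b ⊆ Φ := by
    suffices hfull : ∀ P ∈ Φ, P ≠ B → D.line B P ⊆ Φ by
      intro a ha b hb hab
      by_cases hBl : B ∈ D.line a b
      · by_cases haB : a = B
        · subst haB; exact hfull b hb (Ne.symm hab)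
        · rw [← D.line_eq hab hBl (D.left_mem_line a b) (Ne.symm haB)]
          exact hfull a ha haB
      · exact fun p hp => hmem.2 (D.fixed_line hh hab hBl (hmem.1 ha) (hmem.1 hb) hp)
    by_cases htwo : ∃ P R, P ∈ Φ ∧ R ∈ Φ ∧ P ≠ B ∧ R ≠ B ∧ R ≠ P ∧ R ∈ D.line B P
    · obtain ⟨P, R, hP, hR, hPB, hRB, hRP, hRl⟩ := htwo
      by_cases hQ : ∃ Q ∈ Φ, Q ∉ D.line B P
      · obtain ⟨Q, hQΦ, hQl⟩ := hQ
        have hQfull : ∀ Q' ∈ Φ, Q' ∉ D.line B P → D.line B Q' ⊆ Φ := fun Q' hQ' hQl' y hy =>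
          hmem.2 (D.fixed_third hK hh (hmem.1 hP) (hmem.1 hR) (hmem.1 hQ') hPB hRB hRP hRl hQl' hy)
        have hQB : Q ≠ B := fun e => hQl (e ▸ D.left_mem_line B P)
        obtain ⟨Q₂, hQ₂, hQ₂n⟩ : ∃ w ∈ D.line B Q, w ∉ ({B, Q} : Finset X) :=
          Finset.exists_mem_notMem_of_card_lt_card (by
            rw [D.card_line (Ne.symm hQB), Finset.card_pair (Ne.symm hQB)]; omega)
        simp only [Finset.mem_insert, Finset.mem_singleton, not_or] at hQ₂n
        intro P' hP' hP'B
        by_cases hP'l : P' ∈ D.line B P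
        · rw [D.line_eq_of_mem (Ne.symm hPB) hP'l hP'B]
          have hPQ : P ∉ D.line B Q := fun h' => hQl (by
            rw [D.line_eq_of_mem (Ne.symm hQB) h' hPB]
            exact D.right_mem_line B Q)
          intro y hy
          exact hmem.2 (D.fixed_third hK hh (hmem.1 hQΦ) (hmem.1 (hQfull Q hQΦ hQl hQ₂))
            (hmem.1 hP) hQB hQ₂n.1 hQ₂n.2 hQ₂ hPQ hy)
        · exact hQfull P' hP' hP'l
      · push Not at hQ
        intro P' hP' hP'B
        rw [D.line_eq_of_mem (Ne.symm hPB) (hQ P' hP') hP'B]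
        refine (Finset.eq_of_subset_of_card_le hQ ?_).ge
        rw [hcard, D.card_line (Ne.symm hPB)]
        have hF := D.full hK
        rw [Full] at hF
        have := Nat.mul_le_mul_left D.m D.one_le_lam
        omega
    · push Not at htwo
      exfalso
      obtain ⟨P, hP⟩ := Finset.card_pos.1 (show 0 < (Φ.erase B).card by
        rw [Finset.card_erase_of_mem hB, hcard]; have := D.two_le_k; omega)
      have hdvd := D.m_dvd_closed (A := Φ.erase B) hP (fun y hy hyP z hz => by
        simp only [Finset.mem_erase] at hP hy ⊢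
        have hBl : B ∉ D.line P y := fun h' => htwo P y hP.2 hy.2 hP.1 hy.1 hyP (by
          rw [D.line_eq (Ne.symm hyP) h' (D.left_mem_line P y) (Ne.symm hP.1)]
          exact D.right_mem_line P y)
        exact ⟨fun e => hBl (e ▸ hz),
          hmem.2 (D.fixed_line hh (Ne.symm hyP) hBl (hmem.1 hP.2) (hmem.1 hy.2) hz)⟩)
      rw [Finset.card_erase_of_mem hB, hcard] at hdvd
      have h2 := Nat.dvd_sub D.m_dvd_k_sub hdvd
      rw [show D.k - 1 - (D.k - 1 - 1) = 1 by have := D.two_le_k; omega, Nat.dvd_one] at h2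
      omega
  obtain ⟨S, hS⟩ := D.eq_pts_of_closed hK hclosed hcard
  exact ⟨S, fun x hx => hmem.1 (hS ▸ D.mem_pts.2 hx)⟩

end Design

end Cfsg.Lib.ItoDesign
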