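import Cfsg.Agent.ItoDesign.Space

/-!
# The translation group of a hyperplane
-/

set_option autoImplicit false
set_option linter.style.haveILetI false
set_option linter.unusedSectionVars false
set_option linter.unusedVariables false

open MulAction

namespace Cfsg.Lib.ItoDesign

universe u v w

variable {G : Type u} {X : Type v} {Y : Type w} [Group G] [MulAction G X] [MulAction G Y]
  [Fintype X] [Fintype Y] [Fintype G]

namespace Design

variable (D : Design G X Y) (hK : ∀ B : X, D.K B ≠ ⊥)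

/-- the collineations with axis `S` -/
abbrev Ax (S : Y) : Subgroup G := D.dual.K S

lemma mem_Ax {S : Y} {g : G} : g ∈ D.Ax S ↔ g • S = S ∧ ∀ x, D.inc x S → g • x = x := Iff.rfl

include hK in
lemma mem_Ax' {S : Y} {g : G} (h : ∀ x, D.inc x S → g • x = x) : g ∈ D.Ax S :=
  D.mem_Ax.2 ⟨D.smul_eq_of_fix hK h, h⟩

include hK in
lemma dual_hK (S : Y) : D.dual.K S ≠ ⊥ := by
  obtain ⟨B⟩ : Nonempty X := Fintype.card_pos_iff.1 (by have := D.k_add_two; omega)
  obtain ⟨⟨h, hh⟩, h1⟩ := Subgroup.ne_bot_iff_exists_ne_one.1 (hK B)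
  have h1' : h ≠ 1 := fun e => h1 (Subtype.ext e)
  obtain ⟨S₀, hS₀⟩ := D.exists_axis hK hh h1'
  exact D.dual.K_ne_bot_const (Subgroup.ne_bot_iff_exists_ne_one.2
    ⟨⟨h, D.mem_Ax' hK hS₀⟩, fun e => h1' (congrArg Subtype.val e)⟩) S

include hK in
/-- an element with an axis has a centre -/
lemma exists_centre {S : Y} {g : G} (hg : g ∈ D.Ax S) (h1 : g ≠ 1) : ∃ C, g ∈ D.K C := by
  obtain ⟨C, hC⟩ := D.dual.exists_axis (D.dual_hK hK) hg h1
  exact ⟨C, D.dual.smul_eq_of_fix (D.dual_hK hK) hC, hC⟩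

include hK in
/-- a central collineation with axis `S` and a further fixed point is trivial -/
lemma eq_one_of_fixed {C : X} {S : Y} {g : G} (hgC : g ∈ D.K C) (hgS : g ∈ D.Ax S) {x : X}
    (hxS : ¬ D.inc x S) (hxC : x ≠ C) (hx : g • x = x) : g = 1 := by
  classical
  have hfix := (D.mem_Ax.1 hgS).2
  have key : ∀ x, ¬ D.inc x S → x ≠ C → g • x = x → ∀ y, y ∉ D.line C x → g • y = y := by
    intro x hxS hxC hx y hy
    have hxy : x ≠ y := fun e => hy (e ▸ D.right_mem_line C x)
    obtain ⟨z, hz, hzS⟩ := D.exists_mem hK x y hxy S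
    have hzx : z ≠ x := fun e => hxS (e ▸ hzS)
    have hl : D.line x z = D.line x y := D.line_eq_of_mem hxy hz hzx
    have hC : C ∉ D.line x y := fun h => hy (by
      rw [D.line_comm C x, D.line_eq hxy (D.left_mem_line x y) h hxC]
      exact D.right_mem_line x y)
    exact D.fixed_line hgC (Ne.symm hzx) (by rw [hl]; exact hC) hx (hfix z hzS)
      (by rw [hl]; exact D.right_mem_line x y)
  refine D.faithX g fun y => ?_
  by_cases hyC : y = C
  · rw [hyC]; exact hgC.1
  by_cases hy : y ∈ D.line C x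
  swap
  · exact key x hxS hxC hx y hy
  obtain ⟨w, -, hw⟩ : ∃ w ∈ (Finset.univ : Finset X), w ∉ D.pts S ∪ D.line C x := by
    refine Finset.exists_mem_notMem_of_card_lt_card ?_
    refine (Finset.card_union_le _ _).trans_lt ?_
    rw [D.card_pts, D.card_line (Ne.symm hxC), Finset.card_univ]
    have hn := D.n_eq hK
    rw [n] at hn
    obtain ⟨a, ha⟩ : ∃ a, D.k = a + 3 := ⟨D.k - 3, by have := D.three_le_k hK; omega⟩
    obtain ⟨b, hb⟩ : ∃ b, D.m = b + 2 := ⟨D.m - 2, by have := D.two_le_m' hK; omega⟩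
    rw [hn, ha, hb]
    nlinarith
  simp only [Finset.mem_union, mem_pts, not_or] at hw
  have hwf : g • w = w := key x hxS hxC hx w hw.2
  have hwC : w ≠ C := fun e => hw.2 (e ▸ D.left_mem_line C x)
  refine key w hw.1 hwC hwf y fun h => hw.2 ?_
  rw [← D.line_eq_of_mem (Ne.symm hxC) hy hyC, D.line_eq_of_mem (Ne.symm hwC) h hyC]
  exact D.right_mem_line C w

include hK in
lemma centre_mem_axis_of_moved {C : X} {S : Y} {g : G} (hgC : g ∈ D.K C) (hgS : g ∈ D.Ax S)
    (hno : ∀ x, g • x = x → D.inc x S) : D.inc C S :=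
  hno C hgC.1

include hK in
/-- an element with axis `S` fixing a point off `S` has that point as centre -/
lemma mem_K_of_fixed {S : Y} {g : G} (hg : g ∈ D.Ax S) {x : X} (hxS : ¬ D.inc x S)
    (hx : g • x = x) : g ∈ D.K x := by
  by_cases h1 : g = 1
  · rw [h1]; exact one_mem _
  obtain ⟨C, hC⟩ := D.exists_centre hK hg h1
  by_cases hxC : x = C
  · rwa [hxC]
  exact absurd (D.eq_one_of_fixed hK hC hg hxS hxC hx) h1

/-- the translations with axis `S` -/
def T (S : Y) : Subgroup G where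
  carrier := {g | g ∈ D.Ax S ∧ (g = 1 ∨ ∀ x, g • x = x → D.inc x S)}
  one_mem' := ⟨one_mem _, Or.inl rfl⟩
  inv_mem' {g} hg := ⟨inv_mem hg.1, hg.2.imp (fun e => by simp [e]) (fun h x hx => h x (by
    rw [inv_smul_eq_iff] at hx; exact hx.symm))⟩
  mul_mem' {a b} ha hb := by
    refine ⟨mul_mem ha.1 hb.1, ?_⟩
    by_cases ha1 : a = 1
    · subst ha1; rw [one_mul]; exact hb.2
    by_cases hb1 : b = 1
    · subst hb1; rw [mul_one]; exact ha.2
    have ha' := ha.2.resolve_left ha1
    have hb' := hb.2.resolve_left hb1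
    by_cases hex : ∃ x, (a * b) • x = x ∧ ¬ D.inc x S
    swap
    · exact Or.inr fun x hx => by_contra fun h => hex ⟨x, hx, h⟩
    refine Or.inl ?_
    obtain ⟨x, hx, hxS⟩ := hex
    obtain ⟨C, hC⟩ := D.exists_centre hK ha.1 ha1
    obtain ⟨C', hC'⟩ := D.exists_centre hK hb.1 hb1
    have hCS : D.inc C S := ha' C hC.1
    have hCS' : D.inc C' S := hb' C' hC'.1
    have hxC : x ≠ C := fun e => hxS (e ▸ hCS)
    have hxC' : x ≠ C' := fun e => hxS (e ▸ hCS')
    have hbx : b • x ≠ x := fun e => hxS (hb' x e)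
    rw [mul_smul] at hx
    have hbx' : b • x = a⁻¹ • x := by rw [eq_inv_smul_iff]; exact hx
    have h1 : b • x ∈ D.line C x := hbx' ▸ D.smul_mem_centre_line (inv_mem hC)
    have h2 : b • x ∈ D.line C' x := D.smul_mem_centre_line hC'
    have hl : D.line C x = D.line C' x := by
      rw [← D.line_eq (Ne.symm hxC) (D.right_mem_line C x) h1 (Ne.symm hbx),
        D.line_eq (Ne.symm hxC') (D.right_mem_line C' x) h2 (Ne.symm hbx)]
    have hCC : C' = C := by
      by_contra hne
      apply hxS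
      have hC'l : C' ∈ D.line C x := hl ▸ D.left_mem_line C' x
      have := D.line_subset_pts hCS hCS'
      rw [D.line_eq (Ne.symm hxC) (D.left_mem_line C x) hC'l (Ne.symm hne)] at this
      exact D.mem_pts.1 (this (D.right_mem_line C x))
    subst hCC
    exact D.eq_one_of_fixed hK (mul_mem hC hC') (mul_mem ha.1 hb.1) hxS hxC
      (by rw [mul_smul]; exact hx)

lemma mem_T {S : Y} {g : G} :
    g ∈ D.T hK S ↔ g ∈ D.Ax S ∧ (g = 1 ∨ ∀ x, g • x = x → D.inc x S) := Iff.rfl

lemma T_le_Ax (S : Y) : D.T hK S ≤ D.Ax S := fun _ h => h.1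

lemma smul_eq_of_T {S : Y} {g : G} (hg : g ∈ D.T hK S) {x : X} (hx : D.inc x S) : g • x = x :=
  (D.mem_Ax.1 hg.1).2 x hx

lemma eq_one_of_T {S : Y} {g : G} (hg : g ∈ D.T hK S) {x : X} (hxS : ¬ D.inc x S)
    (hx : g • x = x) : g = 1 :=
  hg.2.resolve_right fun h => hxS (h x hx)

lemma conj_mem_Ax {S : Y} {g h : G} (hh : h ∈ D.Ax S) : g * h * g⁻¹ ∈ D.Ax (g • S) :=
  D.dual.conj_mem_K hh

lemma conj_mem_T {S : Y} {g h : G} (hh : h ∈ D.T hK S) : g * h * g⁻¹ ∈ D.T hK (g • S) := by
  refine ⟨D.conj_mem_Ax hh.1, hh.2.imp (fun e => by simp [e]) (fun h' x hx => ?_)⟩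
  rw [mul_smul, mul_smul, smul_eq_iff_eq_inv_smul] at hx
  have := h' _ hx
  rw [← D.inc_smul g, smul_inv_smul] at this
  exact this

lemma card_T_const (S S' : Y) : Nat.card ↥(D.T hK S) = Nat.card ↥(D.T hK S') := by
  by_cases h : S = S'
  · rw [h]
  obtain ⟨g, rfl, -⟩ := D.transY S S' S' S h (Ne.symm h)
  refine Nat.card_congr
    { toFun := fun t => ⟨g * t.1 * g⁻¹, D.conj_mem_T hK t.2⟩
      invFun := fun t => ⟨g⁻¹ * t.1 * g, by
        have := D.conj_mem_T hK (g := g⁻¹) t.2
        rwa [inv_smul_smul, inv_inv] at this⟩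
      left_inv := fun h => Subtype.ext (show g⁻¹ * (g * h.1 * g⁻¹) * g = h.1 by group)
      right_inv := fun h => Subtype.ext (show g * (g⁻¹ * h.1 * g) * g⁻¹ = h.1 by group) }

include hK in
lemma centre_inc {S : Y} {g : G} (hg : g ∈ D.T hK S) (h1 : g ≠ 1) {C : X} (hC : g ∈ D.K C) :
    D.inc C S :=
  hg.2.resolve_left h1 C hC.1

lemma card_Ax_stab_const {S S' : Y} {x x' : X} (hx : ¬ D.inc x S) (hx' : ¬ D.inc x' S') :
    Nat.card ↥(D.Ax S ⊓ stabilizer G x) = Nat.card ↥(D.Ax S' ⊓ stabilizer G x') := by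
  obtain ⟨g, rfl, rfl⟩ := D.transXY x x' S S' (iff_of_false hx hx')
  refine Nat.card_congr
    { toFun := fun t => ⟨g * t.1 * g⁻¹, D.conj_mem_Ax t.2.1, mem_stabilizer_iff.2 (by
        rw [mul_smul, mul_smul, inv_smul_smul, mem_stabilizer_iff.1 t.2.2])⟩
      invFun := fun t => ⟨g⁻¹ * t.1 * g, by
        have := D.conj_mem_Ax (g := g⁻¹) t.2.1
        rwa [inv_smul_smul, inv_inv] at this, mem_stabilizer_iff.2 (by
        rw [mul_smul, mul_smul, mem_stabilizer_iff.1 t.2.2, inv_smul_smul])⟩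
      left_inv := fun h => Subtype.ext (show g⁻¹ * (g * h.1 * g⁻¹) * g = h.1 by group)
      right_inv := fun h => Subtype.ext (show g * (g⁻¹ * h.1 * g) * g⁻¹ = h.1 by group) }

open scoped Classical in
/-- the translation group has order `n - k` -/
theorem card_T (S : Y) : Nat.card ↥(D.T hK S) + D.k = D.n := by
  set cmp := Finset.univ \ D.pts S with hcmp
  have hcard : cmp.card + D.k = D.n := by
    rw [hcmp, ← D.card_pts S, n, ← Finset.card_univ]
    exact Finset.card_sdiff_add_card_eq_card (Finset.subset_univ _)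
  have hmem : ∀ {x : X}, x ∈ cmp ↔ ¬ D.inc x S := by simp [hcmp]
  obtain ⟨x₀, hx₀⟩ : ∃ x, ¬ D.inc x S := D.dual.exists_not_inc_of S
  set e := Nat.card ↥(D.Ax S ⊓ stabilizer G x₀) with he
  have hconst : ∀ x ∈ cmp, Nat.card ↥(D.Ax S ⊓ stabilizer G x) = e := fun x hx =>
    D.card_Ax_stab_const (hmem.1 hx) hx₀
  by_cases he2 : 2 ≤ e
  · -- homologies
    have hsplit : (nt (D.Ax S)).card = (nt (D.T hK S)).card +
        ∑ x ∈ cmp, (nt (D.Ax S ⊓ stabilizer G x)).card := by
      have e' : nt (D.Ax S) = nt (D.T hK S) ∪ cmp.biUnion fun x => nt (D.Ax S ⊓ stabilizer G x) := by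
        ext g
        simp only [mem_nt, Finset.mem_union, Finset.mem_biUnion, Subgroup.mem_inf,
          mem_stabilizer_iff, mem_T]
        constructor
        · rintro ⟨hg, h1⟩
          by_cases h : ∀ x, g • x = x → D.inc x S
          · exact Or.inl ⟨⟨hg, Or.inr h⟩, h1⟩
          · push Not at h
            obtain ⟨x, hx, hxS⟩ := h
            exact Or.inr ⟨x, hmem.2 hxS, ⟨hg, hx⟩, h1⟩
        · rintro (⟨⟨hg, -⟩, h1⟩ | ⟨x, -, ⟨hg, -⟩, h1⟩) <;> exact ⟨hg, h1⟩
      rw [e', Finset.card_union_of_disjoint, Finset.card_biUnion]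
      · intro a ha b hb hab
        rw [Function.onFun, Finset.disjoint_left]
        intro g hga hgb
        simp only [mem_nt, Subgroup.mem_inf, mem_stabilizer_iff] at hga hgb
        exact hga.2 (D.eq_one_of_fixed hK (D.mem_K_of_fixed hK hga.1.1 (hmem.1 ha) hga.1.2)
          hga.1.1 (hmem.1 hb) (Ne.symm hab) hgb.1.2)
      · rw [Finset.disjoint_left]
        intro g hg hg'
        simp only [mem_nt, Finset.mem_biUnion, Subgroup.mem_inf, mem_stabilizer_iff] at hg hg'
        obtain ⟨x, hx, ⟨-, hxf⟩, -⟩ := hg'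
        exact hg.2 (D.eq_one_of_T hK hg.1 (hmem.1 hx) hxf)
    simp only [card_nt] at hsplit
    rw [Finset.sum_congr rfl (fun x hx => by rw [hconst x hx]), Finset.sum_const, smul_eq_mul]
      at hsplit
    set o := Nat.card (orbit (D.Ax S) x₀) with ho
    have hEo : o * e = Nat.card ↥(D.Ax S) := card_orbit_mul (D.Ax S) x₀
    have hinv : ∀ u ∈ D.Ax S, ∀ x ∈ cmp, u • x ∈ cmp := fun u hu x hx => hmem.2 fun h =>
      hmem.1 hx (by rw [← D.inc_smul u, (D.mem_Ax.1 hu).1]; exact h)
    obtain ⟨j, hj⟩ : o ∣ cmp.card := dvd_card_of_orbits (D.Ax S) cmp hinv o fun x hx => by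
      rw [hconst x hx, mul_comm]; exact hEo
    have hT1 : 1 ≤ Nat.card ↥(D.T hK S) := Nat.card_pos
    have hA1 : 1 ≤ Nat.card ↥(D.Ax S) := Nat.card_pos
    rw [hj, ← hEo] at hsplit
    rw [← hEo] at hA1
    have hpos : 0 < cmp.card := Finset.card_pos.2 ⟨x₀, hmem.2 hx₀⟩
    rw [hj] at hpos
    have hj1 : j = 1 := by
      by_contra hne
      have hj2 : 2 ≤ j := by
        rcases Nat.eq_zero_or_pos j with h | h
        · rw [h, mul_zero] at hpos; omega
        · omega
      have := Nat.mul_le_mul (le_refl o) (Nat.mul_le_mul hj2 (le_refl (e - 1)))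
      have h2 : e ≤ 2 * (e - 1) := by omega
      have := Nat.mul_le_mul (le_refl o) h2
      rw [mul_assoc] at hsplit
      omega
    subst hj1
    rw [mul_one] at hsplit hj
    have : o * e = o * (e - 1) + o := by
      conv_lhs => rw [show e = (e - 1) + 1 by omega]
      ring
    omega
  · -- no homologies at all
    have hE : D.Elational := by
      intro B h hh h1 S' hBS' hS'
      apply he2
      rw [he, ← D.card_Ax_stab_const hBS' hx₀]
      haveI : Nontrivial ↥(D.Ax S' ⊓ stabilizer G B) := ⟨⟨⟨h, D.mem_Ax.2 ⟨hS',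
        fun x hx => D.fixed_hyp hh hBS' hS' hx⟩, mem_stabilizer_iff.2 hh.1⟩, 1,
        fun e => h1 (congrArg Subtype.val e)⟩⟩
      exact Finite.one_lt_card
    have hTAx : ∀ S', ∀ g ∈ D.Ax S', g ∈ D.T hK S' := by
      intro S' g hg
      refine ⟨hg, ?_⟩
      by_contra hc
      push Not at hc
      obtain ⟨h1, x, hx, hxS⟩ := hc
      exact hE x g (D.mem_K_of_fixed hK hg hxS hx) h1 S' hxS (D.mem_Ax.1 hg).1
    obtain ⟨B⟩ : Nonempty X := ⟨x₀⟩
    obtain ⟨hF, hKcard⟩ := D.elation_card hE (hK B)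
    have hKconst : ∀ C, Nat.card ↥(D.K C) = D.m * (D.k - D.lam) := fun C =>
      (D.elation_card hE (hK C)).2
    have hU : (Finset.univ : Finset X).biUnion (fun C => nt (D.K C)) =
        (Finset.univ : Finset Y).biUnion (fun S' => nt (D.T hK S')) := by
      ext g
      simp only [Finset.mem_biUnion, Finset.mem_univ, true_and, mem_nt]
      constructor
      · rintro ⟨C, hC, h1⟩
        obtain ⟨S', hS'⟩ := D.exists_axis hK hC h1
        exact ⟨S', hTAx S' g (D.mem_Ax' hK hS'), h1⟩
      · rintro ⟨S', hS', h1⟩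
        obtain ⟨C, hC⟩ := D.exists_centre hK hS'.1 h1
        exact ⟨C, hC, h1⟩
    have hc := congrArg Finset.card hU
    rw [Finset.card_biUnion, Finset.card_biUnion] at hc
    · simp only [card_nt, hKconst, D.card_T_const hK _ S, Finset.sum_const, smul_eq_mul,
        Finset.card_univ, D.card_eq] at hc
      have hpos : 0 < Fintype.card X := by have := D.k_add_two; omega
      have hc' := Nat.eq_of_mul_eq_mul_left hpos hc
      have hT1 : 1 ≤ Nat.card ↥(D.T hK S) := Nat.card_pos
      have hK1 : 1 ≤ D.m * (D.k - D.lam) := hKconst B ▸ Nat.card_pos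
      have hn := D.n_eq hK
      have hmk : D.m * (D.k - D.lam) + D.m * D.lam = D.k * D.m := by
        rw [← Nat.mul_add, Nat.sub_add_cancel D.lam_lt.le, mul_comm]
      rw [Full] at hF
      omega
    · intro a _ b _ hab
      rw [Function.onFun, Finset.disjoint_left]
      intro g hga hgb
      simp only [mem_nt] at hga hgb
      exact hga.2 (D.dual.eq_one_of_two_centres (D.dual.two_le_m' (D.dual_hK hK)) hab hga.1.1
        hgb.1.1)
    · intro a _ b _ hab
      rw [Function.onFun, Finset.disjoint_left]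
      intro g hga hgb
      simp only [mem_nt] at hga hgb
      exact hga.2 (D.eq_one_of_two_centres (D.two_le_m' hK) hab hga.1 hgb.1)

include hK in
/-- translations act transitively off their axis -/
lemma exists_T {S : Y} {x x' : X} (hx : ¬ D.inc x S) (hx' : ¬ D.inc x' S) :
    ∃ g ∈ D.T hK S, g • x = x' := by
  classical
  set img := (Finset.univ.filter fun g => g ∈ D.T hK S).image (fun g => g • x) with himg
  have hsub : img ⊆ Finset.univ \ D.pts S := by
    intro y hy
    simp only [himg, Finset.mem_image, Finset.mem_filter, Finset.mem_univ, true_and] at hy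
    obtain ⟨g, hg, rfl⟩ := hy
    simp only [Finset.mem_sdiff, Finset.mem_univ, true_and, mem_pts]
    intro h
    apply hx
    rw [← D.inc_smul g, (D.mem_Ax.1 hg.1).1]
    exact h
  have hc : img.card = Nat.card ↥(D.T hK S) := by
    rw [himg, Finset.card_image_of_injOn, Nat.card_eq_fintype_card, ← Fintype.card_subtype]
    intro a ha b hb e
    simp only [Finset.coe_filter, Finset.mem_univ, true_and, Set.mem_ofPred_eq] at ha hb
    have := D.eq_one_of_T hK (mul_mem (inv_mem hb) ha) hx (by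
      rw [mul_smul]; exact inv_smul_eq_iff.2 e)
    rwa [inv_mul_eq_one, eq_comm] at this
  have heq : img = Finset.univ \ D.pts S := by
    refine Finset.eq_of_subset_of_card_le hsub ?_
    have h := D.card_T hK S
    rw [hc, Finset.card_sdiff_of_subset (Finset.subset_univ _), Finset.card_univ, D.card_pts]
    rw [n] at h
    omega
  have : x' ∈ img := by rw [heq]; simp [hx']
  simp only [himg, Finset.mem_image, Finset.mem_filter, Finset.mem_univ, true_and] at this
  exact this

include hK in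
/-- the centre of a translation is on the line of any moved point and its image -/
lemma mem_K_of_move {S : Y} {g : G} (hg : g ∈ D.T hK S) {x C : X} (hx : ¬ D.inc x S)
    (hC : D.inc C S) (hl : g • x ∈ D.line C x) : g ∈ D.K C := by
  by_cases h1 : g = 1
  · rw [h1]; exact one_mem _
  obtain ⟨C', hC'⟩ := D.exists_centre hK hg.1 h1
  have hC'S := D.centre_inc hK hg h1 hC'
  have hne : g • x ≠ x := fun e => h1 (D.eq_one_of_T hK hg hx e)
  have hxC : C ≠ x := fun e => hx (e ▸ hC)
  have hxC' : C' ≠ x := fun e => hx (e ▸ hC'S)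
  suffices C' = C by rwa [← this]
  have hl' : C' ∈ D.line C x := by
    rw [← D.line_eq hxC (D.right_mem_line C x) hl (Ne.symm hne),
      D.line_eq hxC' (D.right_mem_line C' x) (D.smul_mem_centre_line hC') (Ne.symm hne)]
    exact D.left_mem_line C' x
  by_contra hcc
  apply hx
  have := D.line_subset_pts hC hC'S
  rw [D.line_eq hxC (D.left_mem_line C x) hl' (Ne.symm hcc)] at this
  exact D.mem_pts.1 (this (D.right_mem_line C x))

include hK in
/-- a translation with centre off a given point -/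
lemma exists_other_centre (S : Y) (C : X) :
    ∃ g ∈ D.T hK S, g ≠ 1 ∧ g ∉ D.K C := by
  classical
  obtain ⟨x, hx⟩ : ∃ x, ¬ D.inc x S := D.dual.exists_not_inc_of S
  obtain ⟨x', -, hx'⟩ : ∃ w ∈ (Finset.univ : Finset X), w ∉ D.pts S ∪ insert x (D.line C x) := by
    refine Finset.exists_mem_notMem_of_card_lt_card ?_
    refine (Finset.card_union_le _ _).trans_lt ?_
    rw [Finset.insert_eq_of_mem (D.right_mem_line C x), D.card_pts, Finset.card_univ]
    have hle : (D.line C x).card ≤ D.m + 1 := by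
      by_cases h : C = x
      · subst h
        have : D.line C C ⊆ {C} := by
          intro z hz
          rw [Finset.mem_singleton]
          by_contra hne
          have := D.line_subset_pts (S := S) (x := C) (y := C)
          obtain ⟨S', hS', hzS'⟩ : ∃ S', D.inc C S' ∧ ¬ D.inc z S' := by
            by_contra hc
            push Not at hc
            have h2 := Finset.card_le_card (show D.hys C ⊆ D.hys2 C z from fun S' h' =>
              D.mem_hys2.2 ⟨D.mem_hys.1 h', hc S' (D.mem_hys.1 h')⟩)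
            rw [D.card_hys, D.card_hys2 (Ne.symm hne)] at h2
            have := D.lam_lt
            omega
          exact hzS' (D.mem_line.1 hz S' hS' hS')
        exact (Finset.card_le_card this).trans (by simp)
      · rw [D.card_line h]
    have hn := D.n_eq hK
    rw [n] at hn
    obtain ⟨a, ha⟩ : ∃ a, D.k = a + 3 := ⟨D.k - 3, by have := D.three_le_k hK; omega⟩
    obtain ⟨b, hb⟩ : ∃ b, D.m = b + 2 := ⟨D.m - 2, by have := D.two_le_m' hK; omega⟩
    rw [hb] at hle
    rw [hn, ha, hb]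
    nlinarith
  simp only [Finset.mem_union, mem_pts, Finset.mem_insert, not_or] at hx'
  obtain ⟨g, hg, hgx⟩ := D.exists_T hK hx hx'.1
  exact ⟨g, hg, fun e => hx'.2.1 (by rw [← hgx, e, one_smul]),
    fun h => hx'.2.2 (hgx ▸ D.smul_mem_centre_line h)⟩

include hK in
/-- the translation group is abelian -/
theorem T_comm {S : Y} {a b : G} (ha : a ∈ D.T hK S) (hb : b ∈ D.T hK S) : a * b = b * a := by
  have hdiff : ∀ {a b : G}, a ∈ D.T hK S → b ∈ D.T hK S → ∀ {C C' : X}, C ≠ C' → a ≠ 1 → b ≠ 1 →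
      a ∈ D.K C → b ∈ D.K C' → a * b = b * a := by
    intro a b ha hb C C' hne ha1 hb1 haC hbC
    exact D.commute_of_centres (D.two_le_m' hK) (Ne.symm hne) haC
      (D.smul_eq_of_T hK ha (D.centre_inc hK hb hb1 hbC)) hbC
      (D.smul_eq_of_T hK hb (D.centre_inc hK ha ha1 haC))
  by_cases ha1 : a = 1
  · simp [ha1]
  by_cases hb1 : b = 1
  · simp [hb1]
  obtain ⟨C, hC⟩ := D.exists_centre hK ha.1 ha1
  obtain ⟨C', hC'⟩ := D.exists_centre hK hb.1 hb1
  by_cases hne : C = C'
  swap
  · exact hdiff ha hb hne ha1 hb1 hC hC'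
  subst hne
  obtain ⟨c, hc, hc1, hcC⟩ := D.exists_other_centre hK S C
  obtain ⟨Cc, hCc⟩ := D.exists_centre hK hc.1 hc1
  have hbc1 : b * c ≠ 1 := fun e => hcC (by rw [← inv_eq_of_mul_eq_one_right e]; exact inv_mem hC')
  obtain ⟨Cbc, hCbc⟩ := D.exists_centre hK (mul_mem hb.1 hc.1) hbc1
  have h1 : C ≠ Cc := fun e => hcC (e ▸ hCc)
  have h2 : C ≠ Cbc := fun e => hcC (by
    have := mul_mem (inv_mem hC') (e ▸ hCbc : b * c ∈ D.K C)
    rwa [inv_mul_cancel_left] at this)
  have e1 := hdiff ha hc h1 ha1 hc1 hC hCc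
  have e2 := hdiff ha (mul_mem hb hc) h2 ha1 hbc1 hC hCbc
  rw [← mul_assoc, mul_assoc b c, ← e1, ← mul_assoc] at e2
  exact mul_right_cancel e2

end Design

end Cfsg.Lib.ItoDesign
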